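import Mathlib
import Groth.Prelude.Def_FibCat2

/-!
# Criterion for equivalences over the base (helper2)
-/

set_option autoImplicit false
open CategoryTheory CategoryTheory.Functor

universe v₄ u₄ v₃ u₃ v₂ u₂ v u

namespace Groth.Agent.Helper2.FibCatLib

variable {C : Type u} [Category.{v} C]

section Plain

variable {𝒳 : Type u₂} [Category.{v₂} 𝒳] (p : 𝒳 ⥤ C)

theorem isHomLift_of_eq {R S R' S' : C} (hR : R = R') (hS : S = S') (f : R ⟶ S) (f' : R' ⟶ S')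
    (hf : f = eqToHom hR ≫ f' ≫ eqToHom hS.symm) {a b : 𝒳} (φ : a ⟶ b) (h : p.IsHomLift f φ) :
    p.IsHomLift f' φ := by
  subst hR hS
  simp only [eqToHom_refl, Category.id_comp, Category.comp_id] at hf
  subst hf
  exact h

theorem isHomLift_id_cast {S S' : C} (e : S = S') {a b : 𝒳} (φ : a ⟶ b) (hl : p.IsHomLift (𝟙 S) φ) :
    p.IsHomLift (𝟙 S') φ := by
  subst e
  exact hl

theorem isHomLift_congr' {R S : C} {f f' : R ⟶ S} (hf : f = f') {a b : 𝒳} (φ : a ⟶ b)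
    (h : p.IsHomLift f φ) : p.IsHomLift f' φ := by
  subst hf
  exact h

end Plain

variable {𝒳 : BasedCategory.{v₂, u₂} C} {𝒴 : BasedCategory.{v₃, u₃} C}

/-- A quasi-inverse over the base built from a choice of preimages. -/
noncomputable def invOfChoice (F : 𝒳 ⥤ᵇ 𝒴) [F.toFunctor.Full] [F.toFunctor.Faithful]
    (ξ : 𝒴.obj → 𝒳.obj) (e : ∀ η, F.toFunctor.obj (ξ η) ≅ η)
    (he : ∀ η, 𝒴.p.IsHomLift (𝟙 (𝒴.p.obj η)) (e η).hom) : 𝒴 ⥤ᵇ 𝒳 where
  toFunctor :=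
    { obj := ξ
      map := fun {η η'} φ => F.toFunctor.preimage ((e η).hom ≫ φ ≫ (e η').inv)
      map_id := fun η => by
        apply F.toFunctor.map_injective
        simp
      map_comp := fun {η η' η''} φ ψ => by
        apply F.toFunctor.map_injective
        simp }
  w := by
    refine CategoryTheory.Functor.ext (fun η => ?_) (fun η η' φ => ?_)
    · have h1 := he η
      have := IsHomLift.domain_eq 𝒴.p (𝟙 (𝒴.p.obj η)) (e η).hom
      exact (F.w_obj (ξ η)).symm.trans this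
    · have h1 := he η
      have h2 := he η'
      have h3 : 𝒴.p.IsHomLift (𝟙 (𝒴.p.obj η')) (e η').inv := IsHomLift.lift_id_inv _ _ _
      have h4 : 𝒴.p.IsHomLift (𝒴.p.map φ) φ := inferInstance
      have h5 : 𝒴.p.IsHomLift (𝟙 _ ≫ 𝒴.p.map φ ≫ 𝟙 _) ((e η).hom ≫ φ ≫ (e η').inv) := inferInstance
      have h6 : 𝒴.p.IsHomLift (𝒴.p.map φ) ((e η).hom ≫ φ ≫ (e η').inv) :=
        isHomLift_congr' 𝒴.p (by rw [Category.id_comp, Category.comp_id]) _ h5
      have h7 : 𝒴.p.IsHomLift (𝒴.p.map φ)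
          (F.map (F.toFunctor.preimage ((e η).hom ≫ φ ≫ (e η').inv))) := by
        change 𝒴.p.IsHomLift (𝒴.p.map φ)
          (F.toFunctor.map (F.toFunctor.preimage ((e η).hom ≫ φ ≫ (e η').inv)))
        rw [Functor.map_preimage]
        exact h6
      have h8 : 𝒳.p.IsHomLift (𝒴.p.map φ)
          (F.toFunctor.preimage ((e η).hom ≫ φ ≫ (e η').inv)) :=
        BasedFunctor.isHomLift_map F _ _
      exact IsHomLift.fac' 𝒳.p (𝒴.p.map φ) _

theorem isEquivOver_of_fullyFaithful_of_exists_iso (F : 𝒳 ⥤ᵇ 𝒴) [F.toFunctor.Full]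
    [F.toFunctor.Faithful]
    (h : ∀ η : 𝒴.obj, ∃ (ξ : 𝒳.obj) (e : F.toFunctor.obj ξ ≅ η),
      𝒴.p.IsHomLift (𝟙 (𝒴.p.obj η)) e.hom) : FibCat.IsEquivOver F := by
  choose ξ e he using h
  refine ⟨invOfChoice F ξ e he, ⟨?_⟩, ⟨?_⟩⟩
  · refine BasedNatIso.mkNatIso (NatIso.ofComponents
      (fun a => F.toFunctor.preimageIso (e (F.toFunctor.obj a))) ?_) ?_
    · intro a b φ
      apply F.toFunctor.map_injective
      change F.toFunctor.map (F.toFunctor.preimage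
          ((e _).hom ≫ F.toFunctor.map φ ≫ (e _).inv) ≫
            F.toFunctor.preimage (e (F.toFunctor.obj b)).hom) =
        F.toFunctor.map (F.toFunctor.preimage (e (F.toFunctor.obj a)).hom ≫ φ)
      simp
    · intro a
      have h1 := he (F.toFunctor.obj a)
      have h2 : 𝒴.p.IsHomLift (𝟙 (𝒳.p.obj a)) (e (F.toFunctor.obj a)).hom :=
        isHomLift_id_cast 𝒴.p (F.w_obj a) _ h1
      have h3 : 𝒴.p.IsHomLift (𝟙 (𝒳.p.obj a))
          (F.map (F.toFunctor.preimageIso (e (F.toFunctor.obj a))).hom) := by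
        change 𝒴.p.IsHomLift (𝟙 (𝒳.p.obj a))
          (F.toFunctor.map (F.toFunctor.preimage (e (F.toFunctor.obj a)).hom))
        rw [Functor.map_preimage]
        exact h2
      have h4 : 𝒳.p.IsHomLift (𝟙 (𝒳.p.obj a))
          (F.toFunctor.preimageIso (e (F.toFunctor.obj a))).hom :=
        BasedFunctor.isHomLift_map F _ _
      exact h4
  · refine BasedNatIso.mkNatIso (NatIso.ofComponents (fun η => e η) ?_) ?_
    · intro η η' φ
      change F.toFunctor.map (F.toFunctor.preimage ((e η).hom ≫ φ ≫ (e η').inv)) ≫ (e η').hom =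
        (e η).hom ≫ φ
      simp
    · intro η
      exact he η

theorem isEquivalence_of_isEquivOver {F : 𝒳 ⥤ᵇ 𝒴} (hF : FibCat.IsEquivOver F) :
    F.toFunctor.IsEquivalence := by
  obtain ⟨G, ⟨α⟩, ⟨β⟩⟩ := hF
  let η : 𝟭 𝒳.obj ≅ F.toFunctor ⋙ G.toFunctor := ((BasedNatTrans.forgetful _ _).mapIso α).symm
  let ε : G.toFunctor ⋙ F.toFunctor ≅ 𝟭 𝒴.obj := (BasedNatTrans.forgetful _ _).mapIso β
  exact (CategoryTheory.Equivalence.mk F.toFunctor G.toFunctor η ε).isEquivalence_functor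

theorem exists_iso_over_of_isEquivOver {F : 𝒳 ⥤ᵇ 𝒴} (hF : FibCat.IsEquivOver F) (y : 𝒴.obj) :
    ∃ (x : 𝒳.obj) (θ : F.toFunctor.obj x ≅ y), 𝒴.p.IsHomLift (𝟙 (𝒴.p.obj y)) θ.hom := by
  obtain ⟨G, ⟨α⟩, ⟨β⟩⟩ := hF
  refine ⟨G.obj y, ((BasedNatTrans.forgetful _ _).mapIso β).app y, ?_⟩
  exact BasedNatTrans.isHomLift β.hom rfl

theorem isEquivOver_iff (F : 𝒳 ⥤ᵇ 𝒴) :
    FibCat.IsEquivOver F ↔
      (F.toFunctor.Full ∧ F.toFunctor.Faithful) ∧
        ∀ η : 𝒴.obj, ∃ (ξ : 𝒳.obj) (e : F.toFunctor.obj ξ ≅ η),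
          𝒴.p.IsHomLift (𝟙 (𝒴.p.obj η)) e.hom := by
  constructor
  · intro h
    have := isEquivalence_of_isEquivOver h
    exact ⟨⟨inferInstance, inferInstance⟩, fun η => exists_iso_over_of_isEquivOver h η⟩
  · rintro ⟨⟨h1, h2⟩, h3⟩
    exact isEquivOver_of_fullyFaithful_of_exists_iso F h3

theorem isEquivOver_inverse {F : 𝒳 ⥤ᵇ 𝒴} (h : FibCat.IsEquivOver F) :
    ∃ G : 𝒴 ⥤ᵇ 𝒳, FibCat.IsEquivOver G ∧ Nonempty (BasedFunctor.comp F G ≅ BasedFunctor.id 𝒳) ∧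
      Nonempty (BasedFunctor.comp G F ≅ BasedFunctor.id 𝒴) := by
  obtain ⟨G, e1, e2⟩ := h
  exact ⟨G, ⟨F, e2, e1⟩, e1, e2⟩

end Groth.Agent.Helper2.FibCatLib
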