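import Mathlib
import Groth.Prelude.Def_FibCat2
import Groth.Agent.Lib.Helper2.FibGrpd
import Groth.Agent.Lib.Helper2.FibProd
import Groth.Agent.Lib.Helper2.FibCat.EquivCrit

/-!
# Functoriality of the 2-fibre product over the base, and its invariance (helper2)
-/

set_option autoImplicit false
open CategoryTheory CategoryTheory.Functor CategoryTheory.Limits

universe w₁ w₂ w₃ w₄ w₅ w₆ t₁ t₂ t₃ t₄ t₅ t₆ v u

namespace Groth.Agent.Helper2.FibCatLib.FpMap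

theorem iso_aux {𝒟 : Type t₁} [Category.{w₁} 𝒟] {X₁ X₂ X₃ X₄ X₅ X₆ : 𝒟} (e : X₁ ≅ X₂) (A : X₂ ≅ X₃)
    (K : X₃ ≅ X₄) (B : X₅ ≅ X₄) (g : X₆ ≅ X₅) :
    A.hom ≫ K.hom = (e.inv ≫ (e.hom ≫ A.hom ≫ K.hom ≫ B.inv ≫ g.inv) ≫ g.hom) ≫ B.hom := by
  simp

variable {C : Type u} [Category.{v} C]
variable {𝒳 : BasedCategory.{w₁, t₁} C} {𝒴 : BasedCategory.{w₂, t₂} C}
  {𝒮 : BasedCategory.{w₃, t₃} C} {𝒳' : BasedCategory.{w₄, t₄} C} {𝒴' : BasedCategory.{w₅, t₅} C}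
  {𝒮' : BasedCategory.{w₆, t₆} C}
  (F : 𝒳 ⥤ᵇ 𝒮) (G : 𝒴 ⥤ᵇ 𝒮) (F' : 𝒳' ⥤ᵇ 𝒮') (G' : 𝒴' ⥤ᵇ 𝒮')
  (α : 𝒳 ⥤ᵇ 𝒳') (β : 𝒴 ⥤ᵇ 𝒴') (σ : 𝒮 ⥤ᵇ 𝒮')
  (eF : F.toFunctor ⋙ σ.toFunctor ≅ α.toFunctor ⋙ F'.toFunctor)
  (eG : G.toFunctor ⋙ σ.toFunctor ≅ β.toFunctor ⋙ G'.toFunctor)

/-- Transport of an isomorphism `F x ≅ G y` to an isomorphism `F' (α x) ≅ G' (β y)`. -/
def T {x : 𝒳.obj} {y : 𝒴.obj} (ι : F.obj x ≅ G.obj y) : F'.obj (α.obj x) ≅ G'.obj (β.obj y) :=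
  (eF.app x).symm ≪≫ σ.toFunctor.mapIso ι ≪≫ eG.app y

theorem T_hom {x : 𝒳.obj} {y : 𝒴.obj} (ι : F.obj x ≅ G.obj y) :
    (T F G F' G' α β σ eF eG ι).hom = eF.inv.app x ≫ σ.map ι.hom ≫ eG.hom.app y := rfl

/-- The key compatibility. -/
theorem key {x x' : 𝒳.obj} {y y' : 𝒴.obj} (ι : F.obj x ≅ G.obj y) (ι' : F.obj x' ≅ G.obj y')
    (m₁ : x ⟶ x') (m₂ : y ⟶ y') :
    F'.map (α.map m₁) ≫ (T F G F' G' α β σ eF eG ι').hom =
        (T F G F' G' α β σ eF eG ι).hom ≫ G'.map (β.map m₂) ↔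
      σ.map (F.map m₁ ≫ ι'.hom) = σ.map (ι.hom ≫ G.map m₂) := by
  have n1 : F'.map (α.map m₁) ≫ eF.inv.app x' = eF.inv.app x ≫ σ.map (F.map m₁) :=
    eF.inv.naturality m₁
  have n2 : eG.hom.app y ≫ G'.map (β.map m₂) = σ.map (G.map m₂) ≫ eG.hom.app y' :=
    (eG.hom.naturality m₂).symm
  rw [T_hom, T_hom]
  have l : F'.map (α.map m₁) ≫ eF.inv.app x' ≫ σ.map ι'.hom ≫ eG.hom.app y' =
      eF.inv.app x ≫ σ.map (F.map m₁ ≫ ι'.hom) ≫ eG.hom.app y' := by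
    rw [← Category.assoc, n1, Category.assoc, σ.toFunctor.map_comp, Category.assoc]
  have r : (eF.inv.app x ≫ σ.map ι.hom ≫ eG.hom.app y) ≫ G'.map (β.map m₂) =
      eF.inv.app x ≫ σ.map (ι.hom ≫ G.map m₂) ≫ eG.hom.app y' := by
    rw [Category.assoc, Category.assoc, n2, σ.toFunctor.map_comp, Category.assoc]
  rw [l, r]
  constructor
  · intro h
    have h1 := (cancel_epi (eF.inv.app x)).1 h
    exact (cancel_mono (eG.hom.app y')).1 h1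
  · intro h
    rw [h]

variable (heF : ∀ x, 𝒮'.p.IsHomLift (𝟙 (𝒳.p.obj x)) (eF.hom.app x))
  (heG : ∀ y, 𝒮'.p.IsHomLift (𝟙 (𝒴.p.obj y)) (eG.hom.app y))

include heF heG in
theorem T_isHomLift (Z : (FibCat.fp F G).obj) :
    𝒮'.p.IsHomLift (𝟙 (𝒳'.p.obj (α.obj Z.obj.fst))) (T F G F' G' α β σ eF eG Z.obj.iso).hom := by
  have hZ : 𝒮.p.IsHomLift (𝟙 (𝒳.p.obj Z.obj.fst)) Z.obj.iso.hom := Z.property
  have h1 : 𝒮'.p.IsHomLift (𝟙 (𝒳.p.obj Z.obj.fst)) (eF.app Z.obj.fst).hom := heF Z.obj.fst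
  have h1' : 𝒮'.p.IsHomLift (𝟙 (𝒳.p.obj Z.obj.fst)) (eF.app Z.obj.fst).inv :=
    IsHomLift.lift_id_inv _ _ _
  have h2 : 𝒮'.p.IsHomLift (𝟙 (𝒳.p.obj Z.obj.fst)) (σ.map Z.obj.iso.hom) := inferInstance
  have h3 : 𝒮'.p.IsHomLift (𝟙 (𝒳.p.obj Z.obj.fst)) (eG.hom.app Z.obj.snd) :=
    isHomLift_id_cast 𝒮'.p (Groth.Agent.Helper2.fp_snd_proj F G Z) _ (heG Z.obj.snd)
  have h1'' : 𝒮'.p.IsHomLift (𝟙 (𝒳.p.obj Z.obj.fst)) (eF.inv.app Z.obj.fst) := h1'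
  have h4 : 𝒮'.p.IsHomLift (𝟙 (𝒳.p.obj Z.obj.fst))
      (eF.inv.app Z.obj.fst ≫ σ.map Z.obj.iso.hom ≫ eG.hom.app Z.obj.snd) := inferInstance
  exact isHomLift_id_cast 𝒮'.p (α.w_obj Z.obj.fst).symm _ h4

/-- The functor induced on 2-fibre products. -/
def fpMapFunctor : (FibCat.fp F G).obj ⥤ (FibCat.fp F' G').obj where
  obj Z :=
    ⟨{ fst := α.obj Z.obj.fst
       snd := β.obj Z.obj.snd
       iso := T F G F' G' α β σ eF eG Z.obj.iso }, T_isHomLift F G F' G' α β σ eF eG heF heG Z⟩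
  map {Z Z'} m :=
    ObjectProperty.homMk
      { fst := α.map m.hom.fst
        snd := β.map m.hom.snd
        w := (key F G F' G' α β σ eF eG Z.obj.iso Z'.obj.iso m.hom.fst m.hom.snd).2
          (congrArg (fun k => σ.map k) m.hom.w) }
  map_id Z := by
    apply ObjectProperty.hom_ext
    apply CategoricalPullback.hom_ext
    · exact α.toFunctor.map_id _
    · exact β.toFunctor.map_id _
  map_comp m m' := by
    apply ObjectProperty.hom_ext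
    apply CategoricalPullback.hom_ext
    · exact α.toFunctor.map_comp _ _
    · exact β.toFunctor.map_comp _ _

/-- The functor over the base induced on 2-fibre products. -/
def fpMap : FibCat.fp F G ⥤ᵇ FibCat.fp F' G' where
  toFunctor := fpMapFunctor F G F' G' α β σ eF eG heF heG
  w := congrArg (fun k => (FibCat.fpFst F G).toFunctor ⋙ k) α.w

instance fpMap_faithful [α.toFunctor.Faithful] [β.toFunctor.Faithful] :
    (fpMap F G F' G' α β σ eF eG heF heG).toFunctor.Faithful where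
  map_injective {Z Z'} m m' h := by
    apply ObjectProperty.hom_ext
    apply CategoricalPullback.hom_ext
    · apply α.toFunctor.map_injective
      exact congrArg (fun k => k.hom.fst) h
    · apply β.toFunctor.map_injective
      exact congrArg (fun k => k.hom.snd) h

instance fpMap_full [α.toFunctor.Full] [β.toFunctor.Full] [σ.toFunctor.Faithful] :
    (fpMap F G F' G' α β σ eF eG heF heG).toFunctor.Full where
  map_surjective {Z Z'} n := by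
    obtain ⟨m₁, hm₁⟩ := α.toFunctor.map_surjective n.hom.fst
    obtain ⟨m₂, hm₂⟩ := β.toFunctor.map_surjective n.hom.snd
    have hw := n.hom.w
    have hw' : F'.map (α.map m₁) ≫ (T F G F' G' α β σ eF eG Z'.obj.iso).hom =
        (T F G F' G' α β σ eF eG Z.obj.iso).hom ≫ G'.map (β.map m₂) := by
      have e1 : α.map m₁ = n.hom.fst := hm₁
      have e2 : β.map m₂ = n.hom.snd := hm₂
      rw [e1, e2]
      exact hw
    have hk := (key F G F' G' α β σ eF eG Z.obj.iso Z'.obj.iso m₁ m₂).1 hw'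
    have hk' : F.map m₁ ≫ Z'.obj.iso.hom = Z.obj.iso.hom ≫ G.map m₂ :=
      σ.toFunctor.map_injective hk
    refine ⟨ObjectProperty.homMk ⟨m₁, m₂, hk'⟩, ?_⟩
    apply ObjectProperty.hom_ext
    apply CategoricalPullback.hom_ext
    · exact hm₁
    · exact hm₂

theorem fpMap_exists_iso [σ.toFunctor.Full] [σ.toFunctor.Faithful]
    (hα : ∀ x' : 𝒳'.obj, ∃ (x : 𝒳.obj) (a : α.toFunctor.obj x ≅ x'),
      𝒳'.p.IsHomLift (𝟙 (𝒳'.p.obj x')) a.hom)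
    (hβ : ∀ y' : 𝒴'.obj, ∃ (y : 𝒴.obj) (b : β.toFunctor.obj y ≅ y'),
      𝒴'.p.IsHomLift (𝟙 (𝒴'.p.obj y')) b.hom)
    (W : (FibCat.fp F' G').obj) :
    ∃ (Z : (FibCat.fp F G).obj)
      (e : (fpMap F G F' G' α β σ eF eG heF heG).toFunctor.obj Z ≅ W),
      (FibCat.fp F' G').p.IsHomLift (𝟙 ((FibCat.fp F' G').p.obj W)) e.hom := by
  obtain ⟨x, a, ha⟩ := hα W.obj.fst
  obtain ⟨y, b, hb⟩ := hβ W.obj.snd
  have hW : 𝒮'.p.IsHomLift (𝟙 (𝒳'.p.obj W.obj.fst)) W.obj.iso.hom := W.property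
  have hx : 𝒳.p.obj x = 𝒳'.p.obj W.obj.fst :=
    (α.w_obj x).symm.trans (IsHomLift.domain_eq 𝒳'.p (𝟙 (𝒳'.p.obj W.obj.fst)) a.hom)
  have hyR : 𝒴'.p.obj W.obj.snd = 𝒳'.p.obj W.obj.fst := Groth.Agent.Helper2.fp_snd_proj F' G' W
  have hb' : 𝒴'.p.IsHomLift (𝟙 (𝒳'.p.obj W.obj.fst)) b.hom := isHomLift_id_cast _ hyR _ hb
  have hy : 𝒴.p.obj y = 𝒳'.p.obj W.obj.fst :=
    (β.w_obj y).symm.trans (IsHomLift.domain_eq 𝒴'.p (𝟙 (𝒳'.p.obj W.obj.fst)) b.hom)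
  have p1 : 𝒮'.p.IsHomLift (𝟙 (𝒳'.p.obj W.obj.fst)) (eF.hom.app x) :=
    isHomLift_id_cast _ hx _ (heF x)
  have p2 : 𝒮'.p.IsHomLift (𝟙 (𝒳'.p.obj W.obj.fst)) (F'.map a.hom) := inferInstance
  have p4 : 𝒮'.p.IsHomLift (𝟙 (𝒳'.p.obj W.obj.fst)) (G'.map b.inv) := by
    have : 𝒴'.p.IsHomLift (𝟙 (𝒳'.p.obj W.obj.fst)) b.inv := IsHomLift.lift_id_inv _ _ _
    infer_instance
  have p5 : 𝒮'.p.IsHomLift (𝟙 (𝒳'.p.obj W.obj.fst)) (eG.inv.app y) := by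
    have h : 𝒮'.p.IsHomLift (𝟙 (𝒳'.p.obj W.obj.fst)) (eG.app y).hom :=
      isHomLift_id_cast _ hy _ (heG y)
    have h' : 𝒮'.p.IsHomLift (𝟙 (𝒳'.p.obj W.obj.fst)) (eG.app y).inv :=
      IsHomLift.lift_id_inv _ _ _
    exact h'
  let ι₀ : σ.obj (F.obj x) ≅ σ.obj (G.obj y) :=
    eF.app x ≪≫ F'.toFunctor.mapIso a ≪≫ W.obj.iso ≪≫ (G'.toFunctor.mapIso b).symm ≪≫
      (eG.app y).symm
  have hι₀ : 𝒮'.p.IsHomLift (𝟙 (𝒳'.p.obj W.obj.fst)) ι₀.hom := by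
    change 𝒮'.p.IsHomLift (𝟙 (𝒳'.p.obj W.obj.fst))
      (eF.hom.app x ≫ F'.map a.hom ≫ W.obj.iso.hom ≫ G'.map b.inv ≫ eG.inv.app y)
    infer_instance
  let ι : F.obj x ≅ G.obj y := σ.toFunctor.preimageIso ι₀
  have hσι : σ.map ι.hom = ι₀.hom := σ.toFunctor.map_preimage _
  have hι : 𝒮.p.IsHomLift (𝟙 (𝒳.p.obj x)) ι.hom := by
    have : 𝒮'.p.IsHomLift (𝟙 (𝒳.p.obj x)) (σ.map ι.hom) := by
      rw [hσι]
      exact isHomLift_id_cast _ hx.symm _ hι₀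
    exact BasedFunctor.isHomLift_map σ _ _
  let Z : (FibCat.fp F G).obj := ⟨⟨x, y, ι⟩, hι⟩
  have w : F'.map a.hom ≫ W.obj.iso.hom =
      (T F G F' G' α β σ eF eG ι).hom ≫ G'.map b.hom := by
    rw [T_hom, hσι]
    exact iso_aux (eF.app x) (F'.toFunctor.mapIso a) W.obj.iso (G'.toFunctor.mapIso b) (eG.app y)
  let E : (fpMap F G F' G' α β σ eF eG heF heG).toFunctor.obj Z ≅ W :=
    ObjectProperty.isoMk _ (CategoricalPullback.mkIso a b w)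
  refine ⟨Z, E, ?_⟩
  have : 𝒳'.p.IsHomLift (𝟙 ((FibCat.fp F' G').p.obj W))
      ((FibCat.fpFst F' G').toFunctor.map E.hom) := ha
  exact BasedFunctor.isHomLift_map (FibCat.fpFst F' G') _ _

/-- The functor induced on 2-fibre products by equivalences over the base on the two factors and a
fully faithful functor over the base on the target is an equivalence over the base. -/
theorem fpMap_isEquivOver [σ.toFunctor.Full] [σ.toFunctor.Faithful]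
    (hα : FibCat.IsEquivOver α) (hβ : FibCat.IsEquivOver β) :
    FibCat.IsEquivOver (fpMap F G F' G' α β σ eF eG heF heG) := by
  obtain ⟨⟨a1, a2⟩, a3⟩ := (isEquivOver_iff α).1 hα
  obtain ⟨⟨b1, b2⟩, b3⟩ := (isEquivOver_iff β).1 hβ
  exact isEquivOver_of_fullyFaithful_of_exists_iso _
    (fpMap_exists_iso F G F' G' α β σ eF eG heF heG a3 b3)

end Groth.Agent.Helper2.FibCatLib.FpMap
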