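import Mathlib
import Groth.Prelude.Def_FibCat2
import Groth.Agent.Lib.Helper2.FibCat.EquivCrit
import Groth.Agent.Lib.Helper2.FibCat.FpMap

/-!
# Invariance of representability under equivalences over the base (helper2)
-/

set_option autoImplicit false
open CategoryTheory CategoryTheory.Functor CategoryTheory.Limits

universe w₁ w₂ w₃ w₄ t₁ t₂ t₃ t₄ v u

namespace Groth.Agent.Helper2.FibCatLib.ReprInv

variable {C : Type u} [Category.{v} C]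
variable {𝒳 : BasedCategory.{w₁, t₁} C} {𝒴 : BasedCategory.{w₂, t₂} C}
  {𝒵 : BasedCategory.{w₃, t₃} C}

theorem isEquivOver_comp {F : 𝒳 ⥤ᵇ 𝒴} {G : 𝒴 ⥤ᵇ 𝒵} (hF : FibCat.IsEquivOver F)
    (hG : FibCat.IsEquivOver G) : FibCat.IsEquivOver (BasedFunctor.comp F G) := by
  obtain ⟨⟨a1, a2⟩, a3⟩ := (isEquivOver_iff F).1 hF
  obtain ⟨⟨b1, b2⟩, b3⟩ := (isEquivOver_iff G).1 hG
  have : (BasedFunctor.comp F G).toFunctor.Full :=
    inferInstanceAs (F.toFunctor ⋙ G.toFunctor).Full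
  have : (BasedFunctor.comp F G).toFunctor.Faithful :=
    inferInstanceAs (F.toFunctor ⋙ G.toFunctor).Faithful
  apply isEquivOver_of_fullyFaithful_of_exists_iso
  intro z
  obtain ⟨y, e, he⟩ := b3 z
  obtain ⟨x, d, hd⟩ := a3 y
  have hy : 𝒴.p.obj y = 𝒵.p.obj z :=
    (G.w_obj y).symm.trans (IsHomLift.domain_eq 𝒵.p (𝟙 (𝒵.p.obj z)) e.hom)
  have hd' : 𝒴.p.IsHomLift (𝟙 (𝒵.p.obj z)) d.hom := isHomLift_id_cast _ hy _ hd
  have hGd : 𝒵.p.IsHomLift (𝟙 (𝒵.p.obj z)) (G.map d.hom) := inferInstance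
  refine ⟨x, G.toFunctor.mapIso d ≪≫ e, ?_⟩
  change 𝒵.p.IsHomLift (𝟙 (𝒵.p.obj z)) (G.map d.hom ≫ e.hom)
  infer_instance

theorem isEquivOver_id : FibCat.IsEquivOver (BasedFunctor.id 𝒳) := by
  have : (BasedFunctor.id 𝒳).toFunctor.Full := inferInstanceAs (𝟭 𝒳.obj).Full
  have : (BasedFunctor.id 𝒳).toFunctor.Faithful := inferInstanceAs (𝟭 𝒳.obj).Faithful
  apply isEquivOver_of_fullyFaithful_of_exists_iso
  intro x
  exact ⟨x, Iso.refl _, inferInstanceAs (𝒳.p.IsHomLift (𝟙 (𝒳.p.obj x)) (𝟙 x))⟩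

theorem isRepresentable_of_isEquivOver (Φ : 𝒳 ⥤ᵇ 𝒴) (hΦ : FibCat.IsEquivOver Φ)
    (h : FibCat.IsRepresentable 𝒴) : FibCat.IsRepresentable 𝒳 := by
  obtain ⟨U, E, hE⟩ := h
  exact ⟨U, BasedFunctor.comp Φ E, isEquivOver_comp hΦ hE⟩

theorem isRepresentable_of_isEquivOver' (Φ : 𝒳 ⥤ᵇ 𝒴) (hΦ : FibCat.IsEquivOver Φ)
    (h : FibCat.IsRepresentable 𝒳) : FibCat.IsRepresentable 𝒴 := by
  obtain ⟨Ψ, hΨ, -, -⟩ := isEquivOver_inverse hΦ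
  exact isRepresentable_of_isEquivOver Ψ hΨ h

theorem isRepresentable_iff_of_isEquivOver (Φ : 𝒳 ⥤ᵇ 𝒴) (hΦ : FibCat.IsEquivOver Φ) :
    FibCat.IsRepresentable 𝒳 ↔ FibCat.IsRepresentable 𝒴 :=
  ⟨isRepresentable_of_isEquivOver' Φ hΦ, isRepresentable_of_isEquivOver Φ hΦ⟩

end Groth.Agent.Helper2.FibCatLib.ReprInv
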