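import Mathlib
import Groth.Prelude.Def_FibCat2
import Groth.Agent.Lib.Helper2.FibCat.EquivCrit
import Groth.Agent.Lib.Helper2.FibCat.ReprInv

/-!
# Pasting of 2-fibre products over the base (helper2)
-/

set_option autoImplicit false
open CategoryTheory CategoryTheory.Functor CategoryTheory.Limits

universe w₁ w₂ w₃ w₄ t₁ t₂ t₃ t₄ v u

namespace Groth.Agent.Helper2.FibCatLib.Paste

section Generic

variable {𝒜 : Type t₁} [Category.{w₁} 𝒜] {ℬ : Type t₂} [Category.{w₂} ℬ]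
  {𝒟 : Type t₃} [Category.{w₃} 𝒟] {ℰ : Type t₄} [Category.{w₄} ℰ]

theorem isHomLift_comp_id {C : Type u} [Category.{v} C] (p : 𝒜 ⥤ C) {R : C} {a b c : 𝒜}
    (φ : a ⟶ b) (ψ : b ⟶ c) (h1 : p.IsHomLift (𝟙 R) φ) (h2 : p.IsHomLift (𝟙 R) ψ) :
    p.IsHomLift (𝟙 R) (φ ≫ ψ) := inferInstance

theorem genA_w (g : 𝒜 ⥤ ℬ) {A A' : ℬ} {y y' z z' : 𝒜} (a : A ⟶ A') (φ : A ⟶ g.obj y)
    (φ' : A' ⟶ g.obj y') (s : y ⟶ y') (ψ : y ⟶ z) (ψ' : y' ⟶ z') (t : z ⟶ z')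
    (e1 : a ≫ φ' = φ ≫ g.map s) (e2 : s ≫ ψ' = ψ ≫ t) :
    a ≫ (φ' ≫ g.map ψ') = (φ ≫ g.map ψ) ≫ g.map t := by
  rw [← Category.assoc, e1, Category.assoc, Category.assoc, ← g.map_comp, ← g.map_comp, e2]

theorem gen_snd_eq {y y' z z' : 𝒜} (s : y ⟶ y') (ψ : y ⟶ z) (ψ' : y' ≅ z') (t : z ⟶ z')
    (e2 : s ≫ ψ'.hom = ψ ≫ t) : s = ψ ≫ t ≫ ψ'.inv := by
  rw [← Category.assoc, ← e2, Category.assoc, Iso.hom_inv_id, Category.comp_id]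

theorem genA_c1 (g : 𝒜 ⥤ ℬ) {A A' : ℬ} {y y' z z' : 𝒜} (a : A ⟶ A') (φ : A ⟶ g.obj y)
    (φ' : A' ⟶ g.obj y') (ψ : y ⟶ z) (ψ' : y' ≅ z') (t : z ⟶ z')
    (hw : a ≫ (φ' ≫ g.map ψ'.hom) = (φ ≫ g.map ψ) ≫ g.map t) :
    a ≫ φ' = φ ≫ g.map (ψ ≫ t ≫ ψ'.inv) := by
  have : (a ≫ φ') ≫ g.map ψ'.hom = (φ ≫ g.map (ψ ≫ t ≫ ψ'.inv)) ≫ g.map ψ'.hom := by
    rw [Category.assoc, hw, Category.assoc, Category.assoc, ← g.map_comp, ← g.map_comp]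
    simp
  exact (cancel_mono _).1 this

theorem gen_c2 {y y' z z' : 𝒜} (ψ : y ⟶ z) (ψ' : y' ≅ z') (t : z ⟶ z') :
    (ψ ≫ t ≫ ψ'.inv) ≫ ψ'.hom = ψ ≫ t := by simp

theorem genA_id (F : 𝒟 ⥤ ℬ) (g : 𝒜 ⥤ ℬ) (f : ℰ ⥤ 𝒜) {w : 𝒟} {x : ℰ}
    (χ : F.obj w ⟶ g.obj (f.obj x)) :
    F.map (𝟙 w) ≫ χ = (χ ≫ g.map (𝟙 (f.obj x))) ≫ g.map (f.map (𝟙 x)) := by simp

theorem genB_w (g : 𝒜 ⥤ ℬ) {A A' z z' : 𝒜} {X X' : ℬ} (a : A ⟶ A') (ψ : A ⟶ z) (ψ' : A' ⟶ z')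
    (s : z ⟶ z') (φ : g.obj z ⟶ X) (φ' : g.obj z' ⟶ X') (t : X ⟶ X')
    (e1 : a ≫ ψ' = ψ ≫ s) (e2 : g.map s ≫ φ' = φ ≫ t) :
    g.map a ≫ (g.map ψ' ≫ φ') = (g.map ψ ≫ φ) ≫ t := by
  rw [← Category.assoc, ← g.map_comp, e1, g.map_comp, Category.assoc, e2, Category.assoc]

theorem genB_fst_eq {A A' z z' : 𝒜} (a : A ⟶ A') (ψ : A ≅ z) (ψ' : A' ⟶ z') (s : z ⟶ z')
    (e1 : a ≫ ψ' = ψ.hom ≫ s) : s = ψ.inv ≫ a ≫ ψ' := by
  rw [e1, Iso.inv_hom_id_assoc]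

theorem genB_c1 (g : 𝒜 ⥤ ℬ) {A A' z z' : 𝒜} {X X' : ℬ} (a : A ⟶ A') (ψ : A ≅ z) (ψ' : A' ⟶ z')
    (φ : g.obj z ⟶ X) (φ' : g.obj z' ⟶ X') (t : X ⟶ X')
    (hw : g.map a ≫ (g.map ψ' ≫ φ') = (g.map ψ.hom ≫ φ) ≫ t) :
    g.map (ψ.inv ≫ a ≫ ψ') ≫ φ' = φ ≫ t := by
  rw [g.map_comp, g.map_comp, Category.assoc, Category.assoc, hw, Category.assoc,
    ← Category.assoc, ← g.map_comp, Iso.inv_hom_id, g.map_id, Category.id_comp]

theorem genB_c2 {A A' z z' : 𝒜} (a : A ⟶ A') (ψ : A ≅ z) (ψ' : A' ⟶ z') :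
    a ≫ ψ' = ψ.hom ≫ (ψ.inv ≫ a ≫ ψ') := by simp

theorem genB_id (F : 𝒟 ⥤ 𝒜) (g : 𝒜 ⥤ ℬ) (f : ℰ ⥤ ℬ) {w : 𝒟} {x : ℰ}
    (χ : g.obj (F.obj w) ⟶ f.obj x) :
    (F ⋙ g).map (𝟙 w) ≫ χ = (g.map (𝟙 (F.obj w)) ≫ χ) ≫ f.map (𝟙 x) := by simp

end Generic

variable {C : Type u} [Category.{v} C]
variable {𝒳 : BasedCategory.{w₁, t₁} C} {𝒴 : BasedCategory.{w₂, t₂} C}
  {𝒵 : BasedCategory.{w₃, t₃} C} {𝒲 : BasedCategory.{w₄, t₄} C}

section A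

variable (Gs : 𝒲 ⥤ᵇ 𝒵) (g : 𝒴 ⥤ᵇ 𝒵) (f : 𝒳 ⥤ᵇ 𝒴)

/-- The source of the pasting functor. -/
abbrev SrcA := FibCat.fp (FibCat.fpSnd Gs g) f

/-- The target of the pasting functor. -/
abbrev TgtA := FibCat.fp Gs (BasedFunctor.comp f g)

/-- The composite isomorphism. -/
def isoA (Q : (SrcA Gs g f).obj) : Gs.obj Q.obj.fst.obj.fst ≅ g.obj (f.obj Q.obj.snd) :=
  Q.obj.fst.obj.iso ≪≫ g.toFunctor.mapIso Q.obj.iso

theorem isoA_hom (Q : (SrcA Gs g f).obj) :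
    (isoA Gs g f Q).hom = Q.obj.fst.obj.iso.hom ≫ g.map Q.obj.iso.hom := rfl

theorem isoA_isHomLift (Q : (SrcA Gs g f).obj) :
    𝒵.p.IsHomLift (𝟙 (𝒲.p.obj Q.obj.fst.obj.fst)) (isoA Gs g f Q).hom := by
  have h1 : 𝒵.p.IsHomLift (𝟙 (𝒲.p.obj Q.obj.fst.obj.fst)) Q.obj.fst.obj.iso.hom :=
    Q.obj.fst.property
  have h2 : 𝒴.p.IsHomLift (𝟙 (𝒲.p.obj Q.obj.fst.obj.fst)) Q.obj.iso.hom := Q.property
  have h3 : 𝒵.p.IsHomLift (𝟙 (𝒲.p.obj Q.obj.fst.obj.fst)) (g.map Q.obj.iso.hom) := inferInstance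
  exact isHomLift_comp_id 𝒵.p _ _ h1 h3

theorem wA {Q Q' : (SrcA Gs g f).obj} (m : Q ⟶ Q') :
    Gs.map m.hom.fst.hom.fst ≫ (isoA Gs g f Q').hom =
      (isoA Gs g f Q).hom ≫ g.map (f.map m.hom.snd) := by
  have e1 : Gs.map m.hom.fst.hom.fst ≫ Q'.obj.fst.obj.iso.hom =
      Q.obj.fst.obj.iso.hom ≫ g.map m.hom.fst.hom.snd := m.hom.fst.hom.w
  have e2 : m.hom.fst.hom.snd ≫ Q'.obj.iso.hom = Q.obj.iso.hom ≫ f.map m.hom.snd := m.hom.w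
  exact genA_w g.toFunctor _ _ _ _ _ _ _ e1 e2

/-- The pasting functor. -/
def pasteAFunctor : (SrcA Gs g f).obj ⥤ (TgtA Gs g f).obj where
  obj Q := ⟨{ fst := Q.obj.fst.obj.fst, snd := Q.obj.snd, iso := isoA Gs g f Q },
    isoA_isHomLift Gs g f Q⟩
  map {Q Q'} m :=
    ObjectProperty.homMk { fst := m.hom.fst.hom.fst, snd := m.hom.snd, w := wA Gs g f m }
  map_id Q := by
    apply ObjectProperty.hom_ext
    apply CategoricalPullback.hom_ext <;> rfl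
  map_comp m m' := by
    apply ObjectProperty.hom_ext
    apply CategoricalPullback.hom_ext <;> rfl

/-- The pasting functor over the base. -/
def pasteA : SrcA Gs g f ⥤ᵇ TgtA Gs g f where
  toFunctor := pasteAFunctor Gs g f
  w := rfl

theorem snd_eq {Q Q' : (SrcA Gs g f).obj} (m : Q ⟶ Q') :
    m.hom.fst.hom.snd = Q.obj.iso.hom ≫ f.map m.hom.snd ≫ Q'.obj.iso.inv := by
  have e2 : m.hom.fst.hom.snd ≫ Q'.obj.iso.hom = Q.obj.iso.hom ≫ f.map m.hom.snd := m.hom.w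
  exact gen_snd_eq _ _ _ _ e2

instance pasteA_faithful : (pasteA Gs g f).toFunctor.Faithful where
  map_injective {Q Q'} m m' h := by
    have h1 : m.hom.fst.hom.fst = m'.hom.fst.hom.fst := congrArg (fun k => k.hom.fst) h
    have h2 : m.hom.snd = m'.hom.snd := congrArg (fun k => k.hom.snd) h
    apply ObjectProperty.hom_ext
    apply CategoricalPullback.hom_ext
    · apply ObjectProperty.hom_ext
      apply CategoricalPullback.hom_ext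
      · exact h1
      · rw [snd_eq Gs g f m, snd_eq Gs g f m', h2]
    · exact h2

instance pasteA_full : (pasteA Gs g f).toFunctor.Full where
  map_surjective {Q Q'} n := by
    have hw : Gs.map n.hom.fst ≫ (isoA Gs g f Q').hom =
        (isoA Gs g f Q).hom ≫ g.map (f.map n.hom.snd) := n.hom.w
    let m₁₂ : Q.obj.fst.obj.snd ⟶ Q'.obj.fst.obj.snd :=
      Q.obj.iso.hom ≫ f.map n.hom.snd ≫ Q'.obj.iso.inv
    have c1 : Gs.map n.hom.fst ≫ Q'.obj.fst.obj.iso.hom =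
        Q.obj.fst.obj.iso.hom ≫ g.map m₁₂ :=
      genA_c1 g.toFunctor _ _ _ _ _ _ hw
    let m₁ : Q.obj.fst ⟶ Q'.obj.fst := ObjectProperty.homMk ⟨n.hom.fst, m₁₂, c1⟩
    have c2 : (FibCat.fpSnd Gs g).map m₁ ≫ Q'.obj.iso.hom = Q.obj.iso.hom ≫ f.map n.hom.snd := by
      exact gen_c2 _ _ _
    refine ⟨ObjectProperty.homMk ⟨m₁, n.hom.snd, c2⟩, ?_⟩
    apply ObjectProperty.hom_ext
    apply CategoricalPullback.hom_ext <;> rfl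

theorem pasteA_exists_iso (W : (TgtA Gs g f).obj) :
    ∃ (Q : (SrcA Gs g f).obj) (e : (pasteA Gs g f).toFunctor.obj Q ≅ W),
      (TgtA Gs g f).p.IsHomLift (𝟙 ((TgtA Gs g f).p.obj W)) e.hom := by
  have hW : 𝒵.p.IsHomLift (𝟙 (𝒲.p.obj W.obj.fst)) W.obj.iso.hom := W.property
  let P : (FibCat.fp Gs g).obj := ⟨⟨W.obj.fst, f.obj W.obj.snd, W.obj.iso⟩, hW⟩
  have hx : 𝒴.p.obj (f.obj W.obj.snd) = 𝒲.p.obj W.obj.fst :=
    (FibCat.fpSnd Gs g).w_obj P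
  let Q : (SrcA Gs g f).obj := ⟨⟨P, W.obj.snd, Iso.refl _⟩, IsHomLift.id hx⟩
  have w : Gs.map (Iso.refl W.obj.fst).hom ≫ W.obj.iso.hom =
      (isoA Gs g f Q).hom ≫ g.map (f.map (Iso.refl W.obj.snd).hom) :=
    genA_id Gs.toFunctor g.toFunctor f.toFunctor W.obj.iso.hom
  let E : (pasteA Gs g f).toFunctor.obj Q ≅ W :=
    ObjectProperty.isoMk _ (CategoricalPullback.mkIso (Iso.refl _) (Iso.refl _) w)
  refine ⟨Q, E, ?_⟩
  have h1 : 𝒲.p.IsHomLift (𝟙 ((TgtA Gs g f).p.obj W))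
      ((FibCat.fpFst Gs (BasedFunctor.comp f g)).toFunctor.map E.hom) :=
    IsHomLift.id (p := 𝒲.p) (a := W.obj.fst) rfl
  exact BasedFunctor.isHomLift_map (FibCat.fpFst Gs (BasedFunctor.comp f g)) _ _

theorem pasteA_isEquivOver : FibCat.IsEquivOver (pasteA Gs g f) :=
  isEquivOver_of_fullyFaithful_of_exists_iso _ (pasteA_exists_iso Gs g f)

end A

section B

variable (Gs : 𝒲 ⥤ᵇ 𝒵) (g : 𝒵 ⥤ᵇ 𝒴) (f : 𝒳 ⥤ᵇ 𝒴)

/-- The source of the second pasting functor. -/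
abbrev SrcB := FibCat.fp Gs (FibCat.fpFst g f)

/-- The target of the second pasting functor. -/
abbrev TgtB := FibCat.fp (BasedFunctor.comp Gs g) f

/-- The composite isomorphism. -/
def isoB (Q : (SrcB Gs g f).obj) : g.obj (Gs.obj Q.obj.fst) ≅ f.obj Q.obj.snd.obj.snd :=
  g.toFunctor.mapIso Q.obj.iso ≪≫ Q.obj.snd.obj.iso

theorem isoB_hom (Q : (SrcB Gs g f).obj) :
    (isoB Gs g f Q).hom = g.map Q.obj.iso.hom ≫ Q.obj.snd.obj.iso.hom := rfl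

theorem isoB_isHomLift (Q : (SrcB Gs g f).obj) :
    𝒴.p.IsHomLift (𝟙 (𝒲.p.obj Q.obj.fst)) (isoB Gs g f Q).hom := by
  have h1 : 𝒵.p.IsHomLift (𝟙 (𝒲.p.obj Q.obj.fst)) Q.obj.iso.hom := Q.property
  have h2 : 𝒴.p.IsHomLift (𝟙 (𝒵.p.obj Q.obj.snd.obj.fst)) Q.obj.snd.obj.iso.hom :=
    Q.obj.snd.property
  have hz := IsHomLift.codomain_eq 𝒵.p (𝟙 (𝒲.p.obj Q.obj.fst)) Q.obj.iso.hom
  have h2' : 𝒴.p.IsHomLift (𝟙 (𝒲.p.obj Q.obj.fst)) Q.obj.snd.obj.iso.hom :=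
    isHomLift_id_cast _ hz _ h2
  have h3 : 𝒴.p.IsHomLift (𝟙 (𝒲.p.obj Q.obj.fst)) (g.map Q.obj.iso.hom) := inferInstance
  exact isHomLift_comp_id 𝒴.p _ _ h3 h2'

theorem wB {Q Q' : (SrcB Gs g f).obj} (m : Q ⟶ Q') :
    g.map (Gs.map m.hom.fst) ≫ (isoB Gs g f Q').hom =
      (isoB Gs g f Q).hom ≫ f.map m.hom.snd.hom.snd := by
  have e1 : Gs.map m.hom.fst ≫ Q'.obj.iso.hom = Q.obj.iso.hom ≫ m.hom.snd.hom.fst := m.hom.w
  have e2 : g.map m.hom.snd.hom.fst ≫ Q'.obj.snd.obj.iso.hom =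
      Q.obj.snd.obj.iso.hom ≫ f.map m.hom.snd.hom.snd := m.hom.snd.hom.w
  exact genB_w g.toFunctor _ _ _ _ _ _ _ e1 e2

/-- The second pasting functor. -/
def pasteBFunctor : (SrcB Gs g f).obj ⥤ (TgtB Gs g f).obj where
  obj Q := ⟨{ fst := Q.obj.fst, snd := Q.obj.snd.obj.snd, iso := isoB Gs g f Q },
    isoB_isHomLift Gs g f Q⟩
  map {Q Q'} m :=
    ObjectProperty.homMk { fst := m.hom.fst, snd := m.hom.snd.hom.snd, w := wB Gs g f m }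
  map_id Q := by
    apply ObjectProperty.hom_ext
    apply CategoricalPullback.hom_ext <;> rfl
  map_comp m m' := by
    apply ObjectProperty.hom_ext
    apply CategoricalPullback.hom_ext <;> rfl

/-- The second pasting functor over the base. -/
def pasteB : SrcB Gs g f ⥤ᵇ TgtB Gs g f where
  toFunctor := pasteBFunctor Gs g f
  w := rfl

theorem fst_eq {Q Q' : (SrcB Gs g f).obj} (m : Q ⟶ Q') :
    m.hom.snd.hom.fst = Q.obj.iso.inv ≫ Gs.map m.hom.fst ≫ Q'.obj.iso.hom := by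
  have e1 : Gs.map m.hom.fst ≫ Q'.obj.iso.hom = Q.obj.iso.hom ≫ m.hom.snd.hom.fst := m.hom.w
  exact genB_fst_eq _ _ _ _ e1

instance pasteB_faithful : (pasteB Gs g f).toFunctor.Faithful where
  map_injective {Q Q'} m m' h := by
    have h1 : m.hom.fst = m'.hom.fst := congrArg (fun k => k.hom.fst) h
    have h2 : m.hom.snd.hom.snd = m'.hom.snd.hom.snd := congrArg (fun k => k.hom.snd) h
    apply ObjectProperty.hom_ext
    apply CategoricalPullback.hom_ext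
    · exact h1
    · apply ObjectProperty.hom_ext
      apply CategoricalPullback.hom_ext
      · rw [fst_eq Gs g f m, fst_eq Gs g f m', h1]
      · exact h2

instance pasteB_full : (pasteB Gs g f).toFunctor.Full where
  map_surjective {Q Q'} n := by
    have hw : g.map (Gs.map n.hom.fst) ≫ (isoB Gs g f Q').hom =
        (isoB Gs g f Q).hom ≫ f.map n.hom.snd := n.hom.w
    let s : Q.obj.snd.obj.fst ⟶ Q'.obj.snd.obj.fst :=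
      Q.obj.iso.inv ≫ Gs.map n.hom.fst ≫ Q'.obj.iso.hom
    have c1 : g.map s ≫ Q'.obj.snd.obj.iso.hom = Q.obj.snd.obj.iso.hom ≫ f.map n.hom.snd :=
      genB_c1 g.toFunctor _ _ _ _ _ _ hw
    let m₂ : Q.obj.snd ⟶ Q'.obj.snd := ObjectProperty.homMk ⟨s, n.hom.snd, c1⟩
    have c2 : Gs.map n.hom.fst ≫ Q'.obj.iso.hom =
        Q.obj.iso.hom ≫ (FibCat.fpFst g f).map m₂ := genB_c2 _ _ _
    refine ⟨ObjectProperty.homMk ⟨n.hom.fst, m₂, c2⟩, ?_⟩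
    apply ObjectProperty.hom_ext
    apply CategoricalPullback.hom_ext <;> rfl

theorem pasteB_exists_iso (W : (TgtB Gs g f).obj) :
    ∃ (Q : (SrcB Gs g f).obj) (e : (pasteB Gs g f).toFunctor.obj Q ≅ W),
      (TgtB Gs g f).p.IsHomLift (𝟙 ((TgtB Gs g f).p.obj W)) e.hom := by
  have hW : 𝒴.p.IsHomLift (𝟙 (𝒲.p.obj W.obj.fst)) W.obj.iso.hom := W.property
  have hGs : 𝒵.p.obj (Gs.obj W.obj.fst) = 𝒲.p.obj W.obj.fst := Gs.w_obj W.obj.fst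
  let P : (FibCat.fp g f).obj := ⟨⟨Gs.obj W.obj.fst, W.obj.snd, W.obj.iso⟩,
    isHomLift_id_cast _ hGs.symm _ hW⟩
  let Q : (SrcB Gs g f).obj := ⟨⟨W.obj.fst, P, Iso.refl _⟩, IsHomLift.id hGs⟩
  have w : (BasedFunctor.comp Gs g).map (Iso.refl W.obj.fst).hom ≫ W.obj.iso.hom =
      (isoB Gs g f Q).hom ≫ f.map (Iso.refl W.obj.snd).hom :=
    genB_id Gs.toFunctor g.toFunctor f.toFunctor W.obj.iso.hom
  let E : (pasteB Gs g f).toFunctor.obj Q ≅ W :=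
    ObjectProperty.isoMk _ (CategoricalPullback.mkIso (Iso.refl _) (Iso.refl _) w)
  refine ⟨Q, E, ?_⟩
  have h1 : 𝒲.p.IsHomLift (𝟙 ((TgtB Gs g f).p.obj W))
      ((FibCat.fpFst (BasedFunctor.comp Gs g) f).toFunctor.map E.hom) :=
    IsHomLift.id (p := 𝒲.p) (a := W.obj.fst) rfl
  exact BasedFunctor.isHomLift_map (FibCat.fpFst (BasedFunctor.comp Gs g) f) _ _

theorem pasteB_isEquivOver : FibCat.IsEquivOver (pasteB Gs g f) :=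
  isEquivOver_of_fullyFaithful_of_exists_iso _ (pasteB_exists_iso Gs g f)

end B

end Groth.Agent.Helper2.FibCatLib.Paste
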