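import Mathlib
import Groth.Prelude.Def_FibCat2
import Groth.Agent.Lib.Helper2.FibCat.EquivCrit
import Groth.Agent.Lib.Helper2.FibCat.FpMap
import Groth.Agent.Lib.Helper2.FibCat.ReprInv

/-!
# Invariance of the 2-fibre product: special cases (helper2)
-/

set_option autoImplicit false
open CategoryTheory CategoryTheory.Functor CategoryTheory.Limits

universe w₁ w₂ w₃ w₄ w₅ t₁ t₂ t₃ t₄ t₅ v u

namespace Groth.Agent.Helper2.FibCatLib.FpInv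

open Groth.Agent.Helper2.FibCatLib.FpMap Groth.Agent.Helper2.FibCatLib.ReprInv

variable {C : Type u} [Category.{v} C]
variable {𝒳 : BasedCategory.{w₁, t₁} C} {𝒴 : BasedCategory.{w₂, t₂} C}
  {𝒲 : BasedCategory.{w₃, t₃} C}

instance id_full : (BasedFunctor.id 𝒳).toFunctor.Full := inferInstanceAs (𝟭 𝒳.obj).Full

instance id_faithful : (BasedFunctor.id 𝒳).toFunctor.Faithful :=
  inferInstanceAs (𝟭 𝒳.obj).Faithful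

theorem isHomLift_id' (𝒳 : BasedCategory.{w₁, t₁} C) (x : 𝒳.obj) {S : C} (h : 𝒳.p.obj x = S) :
    𝒳.p.IsHomLift (𝟙 S) (𝟙 x) := IsHomLift.id h

/-- 2-isomorphic functors on the left give equivalent 2-fibre products. -/
theorem exists_equiv_fp_congr (Gs Gs' : 𝒲 ⥤ᵇ 𝒴) (f : 𝒳 ⥤ᵇ 𝒴)
    (θ : Gs.toFunctor ≅ Gs'.toFunctor)
    (hθ : ∀ w, 𝒴.p.IsHomLift (𝟙 (𝒲.p.obj w)) (θ.hom.app w)) :
    ∃ Φ : FibCat.fp Gs f ⥤ᵇ FibCat.fp Gs' f, FibCat.IsEquivOver Φ := by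
  let eF : Gs.toFunctor ⋙ (BasedFunctor.id 𝒴).toFunctor ≅
      (BasedFunctor.id 𝒲).toFunctor ⋙ Gs'.toFunctor := θ
  let eG : f.toFunctor ⋙ (BasedFunctor.id 𝒴).toFunctor ≅
      (BasedFunctor.id 𝒳).toFunctor ⋙ f.toFunctor := Iso.refl _
  have heF : ∀ w, 𝒴.p.IsHomLift (𝟙 (𝒲.p.obj w)) (eF.hom.app w) := hθ
  have heG : ∀ x, 𝒴.p.IsHomLift (𝟙 (𝒳.p.obj x)) (eG.hom.app x) := fun x =>
    isHomLift_id' 𝒴 (f.obj x) (f.w_obj x)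
  exact ⟨fpMap Gs f Gs' f (BasedFunctor.id 𝒲) (BasedFunctor.id 𝒳) (BasedFunctor.id 𝒴) eF eG heF heG,
    fpMap_isEquivOver _ _ _ _ _ _ _ _ _ heF heG isEquivOver_id isEquivOver_id⟩

theorem isRepresentable_fp_congr (Gs Gs' : 𝒲 ⥤ᵇ 𝒴) (f : 𝒳 ⥤ᵇ 𝒴)
    (θ : Gs.toFunctor ≅ Gs'.toFunctor)
    (hθ : ∀ w, 𝒴.p.IsHomLift (𝟙 (𝒲.p.obj w)) (θ.hom.app w)) :
    FibCat.IsRepresentable (FibCat.fp Gs f) ↔ FibCat.IsRepresentable (FibCat.fp Gs' f) := by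
  obtain ⟨Φ, hΦ⟩ := exists_equiv_fp_congr Gs Gs' f θ hθ
  exact isRepresentable_iff_of_isEquivOver Φ hΦ

theorem isRepresentable_fp_congr' (Gs Gs' : 𝒲 ⥤ᵇ 𝒴) (f : 𝒳 ⥤ᵇ 𝒴) (θ : Gs ≅ Gs') :
    FibCat.IsRepresentable (FibCat.fp Gs f) ↔ FibCat.IsRepresentable (FibCat.fp Gs' f) :=
  isRepresentable_fp_congr Gs Gs' f ((BasedNatTrans.forgetful _ _).mapIso θ)
    (fun w => BasedNatTrans.isHomLift θ.hom rfl)

variable {𝒲' : BasedCategory.{w₄, t₄} C}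

/-- Precomposition with an equivalence on the left gives an equivalent 2-fibre product. -/
theorem exists_equiv_fp_precomp (E : 𝒲' ⥤ᵇ 𝒲) (hE : FibCat.IsEquivOver E) (Gs : 𝒲 ⥤ᵇ 𝒴)
    (f : 𝒳 ⥤ᵇ 𝒴) :
    ∃ Φ : FibCat.fp (BasedFunctor.comp E Gs) f ⥤ᵇ FibCat.fp Gs f, FibCat.IsEquivOver Φ := by
  let eF : (BasedFunctor.comp E Gs).toFunctor ⋙ (BasedFunctor.id 𝒴).toFunctor ≅
      E.toFunctor ⋙ Gs.toFunctor := Iso.refl _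
  let eG : f.toFunctor ⋙ (BasedFunctor.id 𝒴).toFunctor ≅
      (BasedFunctor.id 𝒳).toFunctor ⋙ f.toFunctor := Iso.refl _
  have heF : ∀ w, 𝒴.p.IsHomLift (𝟙 (𝒲'.p.obj w)) (eF.hom.app w) := fun w =>
    isHomLift_id' 𝒴 (Gs.obj (E.obj w)) ((BasedFunctor.comp E Gs).w_obj w)
  have heG : ∀ x, 𝒴.p.IsHomLift (𝟙 (𝒳.p.obj x)) (eG.hom.app x) := fun x =>
    isHomLift_id' 𝒴 (f.obj x) (f.w_obj x)
  exact ⟨fpMap (BasedFunctor.comp E Gs) f Gs f E (BasedFunctor.id 𝒳) (BasedFunctor.id 𝒴) eF eG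
    heF heG, fpMap_isEquivOver _ _ _ _ _ _ _ _ _ heF heG hE isEquivOver_id⟩

theorem isRepresentable_fp_precomp (E : 𝒲' ⥤ᵇ 𝒲) (hE : FibCat.IsEquivOver E) (Gs : 𝒲 ⥤ᵇ 𝒴)
    (f : 𝒳 ⥤ᵇ 𝒴) :
    FibCat.IsRepresentable (FibCat.fp (BasedFunctor.comp E Gs) f) ↔
      FibCat.IsRepresentable (FibCat.fp Gs f) := by
  obtain ⟨Φ, hΦ⟩ := exists_equiv_fp_precomp E hE Gs f
  exact isRepresentable_iff_of_isEquivOver Φ hΦ

variable {𝒳' : BasedCategory.{w₄, t₄} C} {𝒴' : BasedCategory.{w₅, t₅} C}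

/-- Invariance of the 2-fibre product under a 2-commutative square with equivalences. -/
theorem exists_equiv_fp_square (f : 𝒳 ⥤ᵇ 𝒴) (f' : 𝒳' ⥤ᵇ 𝒴') (a : 𝒳' ⥤ᵇ 𝒳) (b : 𝒴' ⥤ᵇ 𝒴)
    (ha : FibCat.IsEquivOver a) (hb : FibCat.IsEquivOver b)
    (e : BasedFunctor.comp f' b ≅ BasedFunctor.comp a f) (G' : 𝒲 ⥤ᵇ 𝒴') :
    ∃ Φ : FibCat.fp G' f' ⥤ᵇ FibCat.fp (BasedFunctor.comp G' b) f, FibCat.IsEquivOver Φ := by
  have := isEquivalence_of_isEquivOver hb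
  let eF : G'.toFunctor ⋙ b.toFunctor ≅
      (BasedFunctor.id 𝒲).toFunctor ⋙ (BasedFunctor.comp G' b).toFunctor := Iso.refl _
  let eG : f'.toFunctor ⋙ b.toFunctor ≅ a.toFunctor ⋙ f.toFunctor :=
    (BasedNatTrans.forgetful _ _).mapIso e
  have heF : ∀ w, 𝒴.p.IsHomLift (𝟙 (𝒲.p.obj w)) (eF.hom.app w) := fun w =>
    isHomLift_id' 𝒴 (b.obj (G'.obj w)) ((BasedFunctor.comp G' b).w_obj w)
  have heG : ∀ x, 𝒴.p.IsHomLift (𝟙 (𝒳'.p.obj x)) (eG.hom.app x) := fun x =>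
    BasedNatTrans.isHomLift e.hom rfl
  exact ⟨fpMap G' f' (BasedFunctor.comp G' b) f (BasedFunctor.id 𝒲) a b eF eG heF heG,
    fpMap_isEquivOver _ _ _ _ _ _ _ _ _ heF heG isEquivOver_id ha⟩

theorem isRepresentable_fp_square (f : 𝒳 ⥤ᵇ 𝒴) (f' : 𝒳' ⥤ᵇ 𝒴') (a : 𝒳' ⥤ᵇ 𝒳) (b : 𝒴' ⥤ᵇ 𝒴)
    (ha : FibCat.IsEquivOver a) (hb : FibCat.IsEquivOver b)
    (e : BasedFunctor.comp f' b ≅ BasedFunctor.comp a f) (G' : 𝒲 ⥤ᵇ 𝒴') :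
    FibCat.IsRepresentable (FibCat.fp G' f') ↔
      FibCat.IsRepresentable (FibCat.fp (BasedFunctor.comp G' b) f) := by
  obtain ⟨Φ, hΦ⟩ := exists_equiv_fp_square f f' a b ha hb e G'
  exact isRepresentable_iff_of_isEquivOver Φ hΦ

end Groth.Agent.Helper2.FibCatLib.FpInv
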