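import Mathlib
import Groth.Prelude.Def_FibCat2
import Groth.Prelude.Def_W4stkcategoriessitesFib
import Groth.Agent.Lib.Helper2.FibCat.EquivCrit

/-!
# The 2-Yoneda lemma for fibred categories (helper2)
-/

set_option autoImplicit false
open CategoryTheory CategoryTheory.Functor

universe v₄ u₄ v₃ u₃ v₂ u₂ v u

namespace Groth.Agent.Helper2.FibCatLib

variable {C : Type u} [Category.{v} C]

section Plain

variable {𝒳 : Type u₂} [Category.{v₂} 𝒳] (p : 𝒳 ⥤ C)

theorem isStronglyCartesian_of_eq {R S : C} {f f' : R ⟶ S} (hf : f = f') {a b : 𝒳} {φ φ' : a ⟶ b}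
    (hφ : φ = φ') (h : p.IsStronglyCartesian f φ) : p.IsStronglyCartesian f' φ' := by
  subst hf hφ
  exact h

theorem isStronglyCartesian_of_isHomLift_of_map {R S : C} (f : R ⟶ S) {a b : 𝒳} (φ : a ⟶ b)
    (hl : p.IsHomLift f φ) (h : p.IsStronglyCartesian (p.map φ) φ) : p.IsStronglyCartesian f φ := by
  obtain ⟨⟩ := hl
  exact h

theorem isStronglyCartesian_map_of {R S : C} (f : R ⟶ S) {a b : 𝒳} (φ : a ⟶ b)
    (h : p.IsStronglyCartesian f φ) : p.IsStronglyCartesian (p.map φ) φ := by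
  have hl := h.toIsHomLift
  obtain ⟨⟩ := hl
  exact h

theorem isFibered_of_isFibGrpd (h : FibCat.IsFibGrpd p) : p.IsFibered := by
  apply IsFibered.of_exists_isStronglyCartesian
  intro a R f
  obtain ⟨b, φ, hφ⟩ := h.exists_lift f
  exact ⟨b, φ, isStronglyCartesian_of_isHomLift_of_map p f φ hφ (h.isStronglyCartesian φ)⟩

theorem isStronglyCartesian_of_isFibGrpd (h : FibCat.IsFibGrpd p) {R S : C} (f : R ⟶ S) {a b : 𝒳}
    (φ : a ⟶ b) (hl : p.IsHomLift f φ) : p.IsStronglyCartesian f φ :=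
  isStronglyCartesian_of_isHomLift_of_map p f φ hl (h.isStronglyCartesian φ)

end Plain

section Over

variable (U : C)

theorem over_isHomLift {A B : Over U} (φ : A ⟶ B) : (Over.forget U).IsHomLift φ.left φ :=
  IsHomLift.map (Over.forget U) φ

theorem over_left_eq_of_isHomLift {A B : Over U} (g : A.left ⟶ B.left) (φ : A ⟶ B)
    (h : (Over.forget U).IsHomLift g φ) : φ.left = g := by
  have := IsHomLift.fac' (Over.forget U) g φ
  simpa using this

theorem over_isStronglyCartesian {A B : Over U} (φ : A ⟶ B) :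
    (Over.forget U).IsStronglyCartesian φ.left φ := by
  have := over_isHomLift U φ
  refine ⟨?_⟩
  intro A' g φ' hφ'
  change A'.left ⟶ A.left at g
  have h1 : φ'.left = g ≫ φ.left := over_left_eq_of_isHomLift U (g ≫ φ.left) φ' hφ'
  have hw : g ≫ A.hom = A'.hom := by
    have h2 := Over.w φ'
    rw [h1, Category.assoc, Over.w φ] at h2
    exact h2
  refine ⟨Over.homMk g hw, ⟨?_, ?_⟩, ?_⟩
  · exact over_isHomLift U (Over.homMk g hw)
  · apply Over.OverMorphism.ext
    simp [h1]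
  · rintro χ₂ ⟨k1, k2⟩
    apply Over.OverMorphism.ext
    simp only [Over.homMk_left]
    exact over_left_eq_of_isHomLift U g χ₂ k1

theorem isFibGrpd_overCat : FibCat.IsFibGrpd (FibCat.overCat U).p where
  exists_lift {x V} f :=
    ⟨Over.mk (f ≫ x.hom), Over.homMk f, over_isHomLift U (Over.homMk f : Over.mk (f ≫ x.hom) ⟶ x)⟩
  isStronglyCartesian {y x} φ := over_isStronglyCartesian U φ

/-- The canonical morphism from an object of the slice to the terminal object. -/
def toId (A : Over U) : A ⟶ Over.mk (𝟙 U) := Over.homMk A.hom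

@[simp] theorem toId_left (A : Over U) : (toId U A).left = A.hom := rfl

@[reassoc (attr := simp)]
theorem comp_toId {A B : Over U} (ψ : A ⟶ B) : ψ ≫ toId U B = toId U A := by
  apply Over.OverMorphism.ext
  simp

theorem toId_id : toId U (Over.mk (𝟙 U)) = 𝟙 _ := by
  apply Over.OverMorphism.ext
  simp

end Over

section Yoneda

variable {𝒳 : BasedCategory.{v₂, u₂} C} (U : C)

theorem isStronglyCartesian_map_of_preserves {H : FibCat.overCat U ⥤ᵇ 𝒳}
    (hH : FibCat.PreservesStronglyCartesian H) {A B : Over U} (ψ : A ⟶ B) :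
    𝒳.p.IsStronglyCartesian ψ.left (H.toFunctor.map ψ) :=
  hH ψ.left ψ (over_isStronglyCartesian U ψ)

theorem isHomLift_map_over (H : FibCat.overCat U ⥤ᵇ 𝒳) {A B : Over U} (ψ : A ⟶ B) :
    𝒳.p.IsHomLift ψ.left (H.toFunctor.map ψ) := by
  have : (FibCat.overCat U).p.IsHomLift ψ.left ψ := over_isHomLift U ψ
  exact BasedFunctor.preserves_isHomLift H ψ.left ψ

theorem map_comp_toId (H : FibCat.overCat U ⥤ᵇ 𝒳) {A B : Over U} (ψ : A ⟶ B) :
    H.toFunctor.map ψ ≫ H.toFunctor.map (toId U B) = H.toFunctor.map (toId U A) :=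
  (H.toFunctor.map_comp ψ (toId U B)).symm.trans (congrArg H.toFunctor.map (comp_toId U ψ))

theorem map_toId_id (H : FibCat.overCat U ⥤ᵇ 𝒳) :
    H.toFunctor.map (toId U (Over.mk (𝟙 U))) = 𝟙 _ :=
  (congrArg H.toFunctor.map (toId_id U)).trans (H.toFunctor.map_id _)

theorem isHomLift_app_over {G H : FibCat.overCat U ⥤ᵇ 𝒳} (α : G ⟶ H) (A : Over U) :
    𝒳.p.IsHomLift (𝟙 A.left) (α.toNatTrans.app A) :=
  α.isHomLift' A

/-- Two 2-morphisms into a functor preserving cartesian morphisms agree if they agree at `𝟙 U`. -/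
theorem basedNatTrans_ext_of_app_id {G H : FibCat.overCat U ⥤ᵇ 𝒳}
    (hH : FibCat.PreservesStronglyCartesian H) (α β : G ⟶ H)
    (h : α.toNatTrans.app (Over.mk (𝟙 U)) = β.toNatTrans.app (Over.mk (𝟙 U))) : α = β := by
  apply BasedNatTrans.homCategory.ext
  ext A
  have h1 := isStronglyCartesian_map_of_preserves U hH (toId U A)
  have h2 := isHomLift_app_over U α A
  have h3 := isHomLift_app_over U β A
  apply IsStronglyCartesian.ext 𝒳.p (toId U A).left (H.toFunctor.map (toId U A)) (𝟙 A.left)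
  rw [← α.toNatTrans.naturality, ← β.toNatTrans.naturality, h]

/-- Every morphism `G(𝟙) ⟶ H(𝟙)` over `𝟙 U` extends to a 2-morphism. -/
theorem exists_basedNatTrans_of_app_id {G H : FibCat.overCat U ⥤ᵇ 𝒳}
    (hH : FibCat.PreservesStronglyCartesian H)
    (a : G.toFunctor.obj (Over.mk (𝟙 U)) ⟶ H.toFunctor.obj (Over.mk (𝟙 U)))
    (ha : 𝒳.p.IsHomLift (𝟙 U) a) :
    ∃ α : G ⟶ H, α.toNatTrans.app (Over.mk (𝟙 U)) = a := by
  have key : ∀ A : Over U, ∃! χ : G.toFunctor.obj A ⟶ H.toFunctor.obj A,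
      𝒳.p.IsHomLift (𝟙 A.left) χ ∧ χ ≫ H.toFunctor.map (toId U A) =
        G.toFunctor.map (toId U A) ≫ a := by
    intro A
    have h1 := isStronglyCartesian_map_of_preserves U hH (toId U A)
    have h2 : 𝒳.p.IsHomLift (toId U A).left (G.toFunctor.map (toId U A)) :=
      isHomLift_map_over U G (toId U A)
    have h3 : 𝒳.p.IsHomLift ((toId U A).left ≫ 𝟙 U) (G.toFunctor.map (toId U A) ≫ a) :=
      inferInstance
    have h4 : 𝒳.p.IsHomLift (toId U A).left (G.toFunctor.map (toId U A) ≫ a) :=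
      isHomLift_congr' 𝒳.p (Category.comp_id _) _ h3
    exact IsStronglyCartesian.universal_property 𝒳.p (toId U A).left
      (H.toFunctor.map (toId U A)) (𝟙 A.left) (toId U A).left (Category.id_comp _).symm
      (G.toFunctor.map (toId U A) ≫ a)
  choose χ hχ huniq using key
  have hnat : ∀ {A B : Over U} (ψ : A ⟶ B),
      G.toFunctor.map ψ ≫ χ B = χ A ≫ H.toFunctor.map ψ := by
    intro A B ψ
    have h1 := isStronglyCartesian_map_of_preserves U hH (toId U B)
    have hA := (hχ A).1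
    have hB := (hχ B).1
    have h2 : 𝒳.p.IsHomLift ψ.left (G.toFunctor.map ψ) := isHomLift_map_over U G ψ
    have h3 : 𝒳.p.IsHomLift ψ.left (H.toFunctor.map ψ) := isHomLift_map_over U H ψ
    have h4 : 𝒳.p.IsHomLift ψ.left (G.toFunctor.map ψ ≫ χ B) :=
      isHomLift_congr' 𝒳.p (Category.comp_id _) _
        (inferInstance : 𝒳.p.IsHomLift (ψ.left ≫ 𝟙 B.left) (G.toFunctor.map ψ ≫ χ B))
    have h5 : 𝒳.p.IsHomLift ψ.left (χ A ≫ H.toFunctor.map ψ) :=
      isHomLift_congr' 𝒳.p (Category.id_comp _) _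
        (inferInstance : 𝒳.p.IsHomLift (𝟙 A.left ≫ ψ.left) (χ A ≫ H.toFunctor.map ψ))
    apply IsStronglyCartesian.ext 𝒳.p (toId U B).left (H.toFunctor.map (toId U B)) ψ.left
    rw [Category.assoc, (hχ B).2, Category.assoc, map_comp_toId U H ψ,
      ← Category.assoc, map_comp_toId U G ψ, (hχ A).2]
  refine ⟨{ toNatTrans := { app := χ, naturality := fun A B ψ => hnat ψ }
            isHomLift' := fun A => (hχ A).1 }, ?_⟩
  have h0 := (hχ (Over.mk (𝟙 U))).2
  rw [map_toId_id U H, map_toId_id U G, Category.comp_id, Category.id_comp] at h0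
  exact h0

section YonedaFunctor

variable [𝒳.p.IsFibered] {U} {x : 𝒳.obj} (hx : 𝒳.p.obj x = U)

/-- The functor `C/U ⟶ 𝒳` over `C` of chosen pullbacks of an object `x` over `U`. -/
noncomputable def yonedaFunctor : FibCat.overCat U ⥤ᵇ 𝒳 where
  toFunctor :=
    { obj := fun A => IsPreFibered.pullbackObj hx A.hom
      map := fun {A B} ψ => IsStronglyCartesian.map 𝒳.p B.hom (IsPreFibered.pullbackMap hx B.hom)
        (Over.w ψ).symm (IsPreFibered.pullbackMap hx A.hom)
      map_id := fun A => by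
        symm
        have : 𝒳.p.IsHomLift (𝟙 A.left) (𝟙 (IsPreFibered.pullbackObj hx A.hom)) :=
          IsHomLift.id (IsPreFibered.pullbackObj_proj hx A.hom)
        apply IsStronglyCartesian.map_uniq 𝒳.p A.hom (IsPreFibered.pullbackMap hx A.hom)
          (g := 𝟙 A.left)
        exact Category.id_comp _
      map_comp := fun {A B D} ψ ψ' => by
        have h1 : 𝒳.p.IsHomLift ψ.left
            (IsStronglyCartesian.map 𝒳.p B.hom (IsPreFibered.pullbackMap hx B.hom)
              (Over.w ψ).symm (IsPreFibered.pullbackMap hx A.hom)) := inferInstance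
        have h2 : 𝒳.p.IsHomLift ψ'.left
            (IsStronglyCartesian.map 𝒳.p D.hom (IsPreFibered.pullbackMap hx D.hom)
              (Over.w ψ').symm (IsPreFibered.pullbackMap hx B.hom)) := inferInstance
        symm
        apply IsStronglyCartesian.map_uniq 𝒳.p D.hom (IsPreFibered.pullbackMap hx D.hom)
          (g := ψ.left ≫ ψ'.left)
        rw [Category.assoc, IsStronglyCartesian.fac, IsStronglyCartesian.fac] }
  w := CategoryTheory.Functor.ext (fun A => IsPreFibered.pullbackObj_proj hx A.hom)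
    (fun A B ψ => IsHomLift.fac' 𝒳.p ψ.left _)

theorem yonedaFunctor_map_fac {A B : Over U} (ψ : A ⟶ B) :
    (yonedaFunctor hx).toFunctor.map ψ ≫ IsPreFibered.pullbackMap hx B.hom =
      IsPreFibered.pullbackMap hx A.hom :=
  IsStronglyCartesian.fac 𝒳.p B.hom (IsPreFibered.pullbackMap hx B.hom) (Over.w ψ).symm
    (IsPreFibered.pullbackMap hx A.hom)

theorem yonedaFunctor_map_isStronglyCartesian {A B : Over U} (ψ : A ⟶ B) :
    𝒳.p.IsStronglyCartesian ψ.left ((yonedaFunctor hx).toFunctor.map ψ) := by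
  have h1 : 𝒳.p.IsHomLift ψ.left ((yonedaFunctor hx).toFunctor.map ψ) :=
    isHomLift_map_over U (yonedaFunctor hx) ψ
  have h2 : 𝒳.p.IsStronglyCartesian B.hom (IsPreFibered.pullbackMap hx B.hom) := inferInstance
  have h3 : 𝒳.p.IsStronglyCartesian (ψ.left ≫ B.hom)
      ((yonedaFunctor hx).toFunctor.map ψ ≫ IsPreFibered.pullbackMap hx B.hom) :=
    isStronglyCartesian_of_eq 𝒳.p (Over.w ψ).symm (yonedaFunctor_map_fac hx ψ).symm
      (inferInstance : 𝒳.p.IsStronglyCartesian A.hom (IsPreFibered.pullbackMap hx A.hom))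
  exact @IsStronglyCartesian.of_comp _ _ _ _ 𝒳.p _ _ _ _ _ _ ψ.left B.hom _ _ h2 h3 h1

theorem yonedaFunctor_preserves : FibCat.PreservesStronglyCartesian (yonedaFunctor hx) := by
  intro R S f A B ψ h
  have hl := h.toIsHomLift
  obtain ⟨⟩ := hl
  exact yonedaFunctor_map_isStronglyCartesian hx ψ

/-- The value of the Yoneda functor at `𝟙 U` is isomorphic to `x` in the fibre. -/
theorem yonedaFunctor_obj_id_iso :
    ∃ e : (yonedaFunctor hx).toFunctor.obj (Over.mk (𝟙 U)) ≅ x, 𝒳.p.IsHomLift (𝟙 U) e.hom := by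
  have h2 : 𝒳.p.IsStronglyCartesian (𝟙 U) (IsPreFibered.pullbackMap hx (𝟙 U)) := inferInstance
  have h3 : IsIso (IsPreFibered.pullbackMap hx (𝟙 U)) :=
    IsStronglyCartesian.isIso_of_base_isIso 𝒳.p (𝟙 U) (IsPreFibered.pullbackMap hx (𝟙 U))
  exact ⟨@asIso _ _ _ _ (IsPreFibered.pullbackMap hx (𝟙 U)) h3, h2.toIsHomLift⟩

end YonedaFunctor

section Equiv

variable (𝒳)

/-- Evaluation at `𝟙 U` on cartesian functors. -/
abbrev evalCart : ObjectProperty.FullSubcategory (FibCat.PreservesStronglyCartesian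
    (𝒳 := FibCat.overCat U) (𝒴 := 𝒳)) ⥤ 𝒳.p.Fiber U :=
  ObjectProperty.ι (FibCat.PreservesStronglyCartesian (𝒳 := FibCat.overCat U) (𝒴 := 𝒳)) ⋙
    FibCat.evalAtId 𝒳 U

theorem evalCart_faithful : (evalCart 𝒳 U).Faithful where
  map_injective {G H} α β h := by
    apply ObjectProperty.hom_ext
    apply basedNatTrans_ext_of_app_id U H.property
    exact congrArg Subtype.val h

theorem evalCart_full : (evalCart 𝒳 U).Full where
  map_surjective {G H} a := by
    obtain ⟨α, hα⟩ := exists_basedNatTrans_of_app_id U (G := G.obj) (H := H.obj) H.property a.1 a.2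
    exact ⟨ObjectProperty.homMk α, Subtype.ext hα⟩

theorem evalCart_essSurj [𝒳.p.IsFibered] : (evalCart 𝒳 U).EssSurj where
  mem_essImage x := by
    obtain ⟨e, he⟩ := yonedaFunctor_obj_id_iso x.2
    have he' : 𝒳.p.IsHomLift (𝟙 U) e.inv := IsHomLift.lift_id_inv _ _ _
    refine ⟨⟨yonedaFunctor x.2, yonedaFunctor_preserves x.2⟩, ⟨?_⟩⟩
    exact
      { hom := ⟨e.hom, he⟩
        inv := ⟨e.inv, he'⟩
        hom_inv_id := Subtype.ext e.hom_inv_id
        inv_hom_id := Subtype.ext e.inv_hom_id }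

theorem evalCart_isEquivalence [𝒳.p.IsFibered] : (evalCart 𝒳 U).IsEquivalence := by
  have := evalCart_faithful 𝒳 U
  have := evalCart_full 𝒳 U
  have := evalCart_essSurj 𝒳 U
  exact { }

theorem evalAtId_isEquivalence_of_isFibGrpd (h : FibCat.IsFibGrpd 𝒳.p) :
    (FibCat.evalAtId 𝒳 U).IsEquivalence := by
  have := isFibered_of_isFibGrpd 𝒳.p h
  have h1 := evalCart_isEquivalence 𝒳 U
  have hall : ∀ G : FibCat.overCat U ⥤ᵇ 𝒳, FibCat.PreservesStronglyCartesian G := by
    intro G R S f a b φ hφ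
    have hl := hφ.toIsHomLift
    exact isStronglyCartesian_of_isFibGrpd 𝒳.p h f _ (BasedFunctor.preserves_isHomLift G f φ)
  have h2 : (ObjectProperty.ι (FibCat.PreservesStronglyCartesian (𝒳 := FibCat.overCat U)
      (𝒴 := 𝒳))).EssSurj := ⟨fun G => ⟨⟨G, hall G⟩, ⟨Iso.refl _⟩⟩⟩
  have h3 : (ObjectProperty.ι (FibCat.PreservesStronglyCartesian (𝒳 := FibCat.overCat U)
      (𝒴 := 𝒳))).IsEquivalence := { }
  exact Functor.isEquivalence_of_comp_left
    (ObjectProperty.ι (FibCat.PreservesStronglyCartesian (𝒳 := FibCat.overCat U) (𝒴 := 𝒳)))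
    (FibCat.evalAtId 𝒳 U)

end Equiv

end Yoneda

end Groth.Agent.Helper2.FibCatLib
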