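import Mathlib
import Groth.Prelude.Def_FibCat2
import Groth.Agent.Lib.Helper2.FibGrpd
import Groth.Agent.Lib.Helper2.FibCat.EquivCrit
import Groth.Agent.Lib.Helper2.FibCat.Yoneda

/-!
# Fibrewise criteria for fully faithful functors and equivalences over the base (helper2)
-/

set_option autoImplicit false
open CategoryTheory CategoryTheory.Functor

universe v₃ u₃ v₂ u₂ v u

namespace Groth.Agent.Helper2.FibCatLib.FiberCrit

variable {C : Type u} [Category.{v} C] {𝒳 : BasedCategory.{v₂, u₂} C} {𝒴 : BasedCategory.{v₃, u₃} C}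
  (G : 𝒳 ⥤ᵇ 𝒴)

/-- Preservation of strongly cartesian morphisms, over any base morphism. -/
theorem pres_sc
    (hG : ∀ ⦃a b : 𝒳.obj⦄ (φ : a ⟶ b), 𝒳.p.IsStronglyCartesian (𝒳.p.map φ) φ →
      𝒴.p.IsStronglyCartesian (𝒳.p.map φ) (G.toFunctor.map φ))
    {R S : C} (f : R ⟶ S) {a b : 𝒳.obj} (ψ : a ⟶ b) (h : 𝒳.p.IsStronglyCartesian f ψ) :
    𝒴.p.IsStronglyCartesian f (G.toFunctor.map ψ) := by
  have h1 := hG ψ (isStronglyCartesian_map_of 𝒳.p f ψ h)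
  have h2 := isStronglyCartesian_map_of 𝒴.p _ _ h1
  have hl : 𝒴.p.IsHomLift f (G.toFunctor.map ψ) := by
    have := h.toIsHomLift
    exact BasedFunctor.preserves_isHomLift G f ψ
  exact isStronglyCartesian_of_isHomLift_of_map 𝒴.p f _ hl h2

theorem map_p_eq {a b : 𝒳.obj} (φ φ' : a ⟶ b) (h : G.toFunctor.map φ = G.toFunctor.map φ') :
    𝒳.p.map φ = 𝒳.p.map φ' := by
  have e1 := Functor.congr_hom G.w.symm φ
  have e2 := Functor.congr_hom G.w.symm φ'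
  rw [e1, e2, Functor.comp_map, Functor.comp_map, h]

variable (GU : ∀ U : C, 𝒳.p.Fiber U ⥤ 𝒴.p.Fiber U)
  (hGU : ∀ U : C, GU U ⋙ Functor.Fiber.fiberInclusion = Functor.Fiber.fiberInclusion ⋙ G.toFunctor)

include hGU

theorem obj_eq {U : C} (A : 𝒳.p.Fiber U) : ((GU U).obj A).1 = G.obj A.1 :=
  Functor.congr_obj (hGU U) A

theorem map_eq {U : C} {A B : 𝒳.p.Fiber U} (m : A ⟶ B) :
    ((GU U).map m).1 = eqToHom (obj_eq G GU hGU A) ≫ G.map m.1 ≫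
      eqToHom (obj_eq G GU hGU B).symm :=
  Functor.congr_hom (hGU U) m

theorem map_eq' {U : C} {A B : 𝒳.p.Fiber U} (m : A ⟶ B) :
    G.map m.1 = eqToHom (obj_eq G GU hGU A).symm ≫ ((GU U).map m).1 ≫
      eqToHom (obj_eq G GU hGU B) := by
  rw [map_eq G GU hGU m]
  simp

theorem exists_fiber_preimage {U : C} [(GU U).Full] {A B : 𝒳.p.Fiber U}
    (τ : G.obj A.1 ⟶ G.obj B.1) (hτ : 𝒴.p.IsHomLift (𝟙 U) τ) : ∃ m : A ⟶ B, G.map m.1 = τ := by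
  let τ' : (GU U).obj A ⟶ (GU U).obj B :=
    ⟨eqToHom (obj_eq G GU hGU A) ≫ τ ≫ eqToHom (obj_eq G GU hGU B).symm, inferInstance⟩
  obtain ⟨m, hm⟩ := (GU U).map_surjective τ'
  refine ⟨m, ?_⟩
  rw [map_eq' G GU hGU m, hm]
  simp [τ']

theorem fiber_map_injective {U : C} [(GU U).Faithful] {A B : 𝒳.p.Fiber U} (m m' : A ⟶ B)
    (h : G.map m.1 = G.map m'.1) : m = m' := by
  apply (GU U).map_injective
  apply Subtype.ext
  rw [map_eq G GU hGU m, map_eq G GU hGU m', h]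

theorem faithful_of_fiberwise [𝒳.p.IsFibered]
    (hG : ∀ ⦃a b : 𝒳.obj⦄ (φ : a ⟶ b), 𝒳.p.IsStronglyCartesian (𝒳.p.map φ) φ →
      𝒴.p.IsStronglyCartesian (𝒳.p.map φ) (G.toFunctor.map φ))
    (hfaith : ∀ U : C, (GU U).Faithful) : G.toFunctor.Faithful where
  map_injective {a b} φ φ' h := by
    have hp := map_p_eq G φ φ' h
    obtain ⟨c, ψ, hψ⟩ := IsPreFibered.exists_isCartesian' (p := 𝒳.p) (a := b) (𝒳.p.map φ)
    have hsc : 𝒳.p.IsStronglyCartesian (𝒳.p.map φ) ψ := inferInstance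
    have hGψ : 𝒴.p.IsStronglyCartesian (𝒳.p.map φ) (G.toFunctor.map ψ) := pres_sc G hG _ ψ hsc
    have l' : 𝒳.p.IsHomLift (𝒳.p.map φ) φ' := by rw [hp]; infer_instance
    let χ := IsCartesian.map 𝒳.p (𝒳.p.map φ) ψ φ
    let χ' := IsCartesian.map 𝒳.p (𝒳.p.map φ) ψ φ'
    have e : χ ≫ ψ = φ := IsCartesian.fac 𝒳.p (𝒳.p.map φ) ψ φ
    have e' : χ' ≫ ψ = φ' := IsCartesian.fac 𝒳.p (𝒳.p.map φ) ψ φ'
    have hχ1 : 𝒳.p.IsHomLift (𝟙 (𝒳.p.obj a)) χ := inferInstance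
    have hχ2 : 𝒳.p.IsHomLift (𝟙 (𝒳.p.obj a)) χ' := inferInstance
    have hGχ1 : 𝒴.p.IsHomLift (𝟙 (𝒳.p.obj a)) (G.toFunctor.map χ) :=
      BasedFunctor.preserves_isHomLift G _ χ
    have hGχ2 : 𝒴.p.IsHomLift (𝟙 (𝒳.p.obj a)) (G.toFunctor.map χ') :=
      BasedFunctor.preserves_isHomLift G _ χ'
    have hGχ : G.toFunctor.map χ = G.toFunctor.map χ' := by
      apply IsCartesian.ext 𝒴.p (𝒳.p.map φ) (G.toFunctor.map ψ)
      rw [← G.toFunctor.map_comp, ← G.toFunctor.map_comp, e, e', h]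
    have := hfaith (𝒳.p.obj a)
    let A : 𝒳.p.Fiber (𝒳.p.obj a) := ⟨a, rfl⟩
    let Cc : 𝒳.p.Fiber (𝒳.p.obj a) := ⟨c, IsHomLift.domain_eq 𝒳.p (𝒳.p.map φ) ψ⟩
    let m : A ⟶ Cc := ⟨χ, hχ1⟩
    let m' : A ⟶ Cc := ⟨χ', hχ2⟩
    have hm := fiber_map_injective G GU hGU m m' hGχ
    have hχ : χ = χ' := congrArg Subtype.val hm
    rw [← e, ← e', hχ]

theorem full_of_fiberwise [𝒳.p.IsFibered]
    (hG : ∀ ⦃a b : 𝒳.obj⦄ (φ : a ⟶ b), 𝒳.p.IsStronglyCartesian (𝒳.p.map φ) φ →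
      𝒴.p.IsStronglyCartesian (𝒳.p.map φ) (G.toFunctor.map φ))
    (hfull : ∀ U : C, (GU U).Full) : G.toFunctor.Full where
  map_surjective {a b} θ := by
    let f : 𝒳.p.obj a ⟶ 𝒳.p.obj b :=
      eqToHom (G.w_obj a).symm ≫ 𝒴.p.map θ ≫ eqToHom (G.w_obj b)
    have hθ : 𝒴.p.IsHomLift f θ :=
      IsHomLift.of_fac' 𝒴.p f θ (G.w_obj a) (G.w_obj b) (by simp [f])
    obtain ⟨c, ψ, hψ⟩ := IsPreFibered.exists_isCartesian' (p := 𝒳.p) (a := b) f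
    have hsc : 𝒳.p.IsStronglyCartesian f ψ := inferInstance
    have hGψ : 𝒴.p.IsStronglyCartesian f (G.toFunctor.map ψ) := pres_sc G hG f ψ hsc
    let τ := IsCartesian.map 𝒴.p f (G.toFunctor.map ψ) θ
    have hτ : τ ≫ G.toFunctor.map ψ = θ := IsCartesian.fac 𝒴.p f (G.toFunctor.map ψ) θ
    have hτ' : 𝒴.p.IsHomLift (𝟙 (𝒳.p.obj a)) τ := inferInstance
    have := hfull (𝒳.p.obj a)
    let A : 𝒳.p.Fiber (𝒳.p.obj a) := ⟨a, rfl⟩
    let Cc : 𝒳.p.Fiber (𝒳.p.obj a) := ⟨c, IsHomLift.domain_eq 𝒳.p f ψ⟩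
    obtain ⟨m, hm⟩ := exists_fiber_preimage G GU hGU (A := A) (B := Cc) τ hτ'
    refine ⟨m.1 ≫ ψ, ?_⟩
    rw [G.toFunctor.map_comp]
    exact (congrArg (fun k => k ≫ G.toFunctor.map ψ) hm).trans hτ

theorem exists_iso_of_fiberwise (hes : ∀ U : C, (GU U).EssSurj) (η : 𝒴.obj) :
    ∃ (ξ : 𝒳.obj) (e : G.toFunctor.obj ξ ≅ η), 𝒴.p.IsHomLift (𝟙 (𝒴.p.obj η)) e.hom := by
  have := hes (𝒴.p.obj η)
  let Y : 𝒴.p.Fiber (𝒴.p.obj η) := ⟨η, rfl⟩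
  let X := (GU (𝒴.p.obj η)).objPreimage Y
  let i : (GU (𝒴.p.obj η)).obj X ≅ Y := (GU (𝒴.p.obj η)).objObjPreimageIso Y
  have hi : 𝒴.p.IsHomLift (𝟙 (𝒴.p.obj η)) i.hom.1 := i.hom.2
  have e0 : G.obj X.1 = ((GU (𝒴.p.obj η)).obj X).1 := (obj_eq G GU hGU X).symm
  refine ⟨X.1, eqToIso e0 ≪≫ (Functor.Fiber.fiberInclusion.mapIso i), ?_⟩
  change 𝒴.p.IsHomLift (𝟙 (𝒴.p.obj η)) (eqToHom e0 ≫ i.hom.1)
  infer_instance

theorem isEquivOver_of_fiberwise [𝒳.p.IsFibered]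
    (hG : ∀ ⦃a b : 𝒳.obj⦄ (φ : a ⟶ b), 𝒳.p.IsStronglyCartesian (𝒳.p.map φ) φ →
      𝒴.p.IsStronglyCartesian (𝒳.p.map φ) (G.toFunctor.map φ))
    (h : ∀ U : C, (GU U).IsEquivalence) : FibCat.IsEquivOver G := by
  have := full_of_fiberwise G GU hGU hG (fun U => (h U).full)
  have := faithful_of_fiberwise G GU hGU hG (fun U => (h U).faithful)
  exact isEquivOver_of_fullyFaithful_of_exists_iso G
    (exists_iso_of_fiberwise G GU hGU (fun U => (h U).essSurj))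

theorem fiber_isEquivalence_of_isEquivOver (h : FibCat.IsEquivOver G) (U : C) :
    (GU U).IsEquivalence := by
  have := isEquivalence_of_isEquivOver h
  refine { faithful := ⟨?_⟩, full := ⟨?_⟩, essSurj := ⟨?_⟩ }
  · intro A B m m' hm
    apply Subtype.ext
    apply G.toFunctor.map_injective
    rw [map_eq' G GU hGU m, map_eq' G GU hGU m', hm]
  · intro A B τ
    have hτ : 𝒴.p.IsHomLift (𝟙 U) τ.1 := τ.2
    let t : G.obj A.1 ⟶ G.obj B.1 :=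
      eqToHom (obj_eq G GU hGU A).symm ≫ τ.1 ≫ eqToHom (obj_eq G GU hGU B)
    have ht : 𝒴.p.IsHomLift (𝟙 U) t := inferInstance
    have ht' : 𝒴.p.IsHomLift (𝟙 U) (G.toFunctor.map (G.toFunctor.preimage t)) := by
      rw [G.toFunctor.map_preimage]
      exact ht
    have hχ : 𝒳.p.IsHomLift (𝟙 U) (G.toFunctor.preimage t) :=
      BasedFunctor.isHomLift_map G (𝟙 U) _
    refine ⟨⟨G.toFunctor.preimage t, hχ⟩, ?_⟩
    apply Subtype.ext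
    rw [map_eq G GU hGU]
    change eqToHom _ ≫ G.toFunctor.map (G.toFunctor.preimage t) ≫ eqToHom _ = τ.1
    rw [G.toFunctor.map_preimage]
    simp [t]
  · intro Y
    obtain ⟨x, e, he⟩ := exists_iso_over_of_isEquivOver h Y.1
    have he' : 𝒴.p.IsHomLift (𝟙 U) e.hom := isHomLift_id_cast 𝒴.p Y.2 e.hom he
    have he'' : 𝒴.p.IsHomLift (𝟙 U) e.inv := inferInstance
    have hx : 𝒳.p.obj x = U := (G.w_obj x).symm.trans (IsHomLift.domain_eq 𝒴.p (𝟙 U) e.hom)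
    let X : 𝒳.p.Fiber U := ⟨x, hx⟩
    refine ⟨X, ⟨{ hom := ⟨eqToHom (obj_eq G GU hGU X) ≫ e.hom, inferInstance⟩
                  inv := ⟨e.inv ≫ eqToHom (obj_eq G GU hGU X).symm, inferInstance⟩
                  hom_inv_id := ?_
                  inv_hom_id := ?_ }⟩⟩
    · apply Subtype.ext
      change (eqToHom _ ≫ e.hom) ≫ (e.inv ≫ eqToHom _) = 𝟙 _
      simp
    · apply Subtype.ext
      change (e.inv ≫ eqToHom _) ≫ (eqToHom _ ≫ e.hom) = 𝟙 _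
      simp

end Groth.Agent.Helper2.FibCatLib.FiberCrit
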