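import Mathlib
import Groth.Prelude.Def_FibCat2
import Groth.Agent.Lib.Helper2.FibCat.EquivCrit
import Groth.Agent.Lib.Helper2.Stk.LocAut

/-!
# Symmetry of the 2-fibre product (helper2)
-/

set_option autoImplicit false
open CategoryTheory CategoryTheory.Functor CategoryTheory.Limits

universe w₁ w₂ w₃ t₁ t₂ t₃ v u

namespace Groth.Agent.Helper2.FibCatLib.FpSwap

open Groth.Agent.Helper2.StkLib

variable {C : Type u} [Category.{v} C]
variable {𝒳 : BasedCategory.{w₁, t₁} C} {𝒴 : BasedCategory.{w₂, t₂} C}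
  {𝒮 : BasedCategory.{w₃, t₃} C} (F : 𝒳 ⥤ᵇ 𝒮) (G : 𝒴 ⥤ᵇ 𝒮)

/-- The symmetry `𝒳 ×_𝒮 𝒴 ⟶ 𝒴 ×_𝒮 𝒳`. -/
def fpSwap : FibCat.fp F G ⥤ᵇ FibCat.fp G F :=
  FibCat.fpLift (FibCat.fpSnd F G) (FibCat.fpFst F G) (FibCat.fpIso F G).symm

theorem fpSwap_fst : BasedFunctor.comp (fpSwap F G) (FibCat.fpFst G F) = FibCat.fpSnd F G := rfl

theorem fpSwap_snd : BasedFunctor.comp (fpSwap F G) (FibCat.fpSnd G F) = FibCat.fpFst F G := rfl

/-- The symmetry is an involution. -/
def fpSwapSwapIso : BasedFunctor.comp (fpSwap F G) (fpSwap G F) ≅ BasedFunctor.id (FibCat.fp F G) :=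
  BasedNatIso.mkNatIso
    (NatIso.ofComponents
      (fun Z => ObjectProperty.isoMk _ (CategoricalPullback.mkIso (Iso.refl _) (Iso.refl _) (by
        change F.map (𝟙 _) ≫ Z.obj.iso.hom = Z.obj.iso.hom ≫ G.map (𝟙 _)
        simp)))
      (by
        intro Z Z' m
        apply ObjectProperty.hom_ext
        apply CategoricalPullback.hom_ext
        · exact (Category.comp_id _).trans (Category.id_comp _).symm
        · exact (Category.comp_id _).trans (Category.id_comp _).symm))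
    (by
      intro Z
      apply fp_isHomLift_of_fst
      have h : 𝒳.p.IsHomLift (𝟙 (𝒳.p.obj Z.obj.fst)) (𝟙 Z.obj.fst) := IsHomLift.id rfl
      exact h)

theorem fpSwap_isEquivOver : FibCat.IsEquivOver (fpSwap F G) :=
  ⟨fpSwap G F, ⟨fpSwapSwapIso F G⟩, ⟨fpSwapSwapIso G F⟩⟩

end Groth.Agent.Helper2.FibCatLib.FpSwap
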