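import Mathlib
import Groth.Prelude.Def_FibCat2
import Groth.Agent.Lib.Helper2.FibCat.EquivCrit
import Groth.Agent.Lib.Helper2.FibCat.Yoneda
import Groth.Agent.Lib.Helper2.EquivOver

/-!
# Categories fibred in setoids are equivalent to categories fibred in sets (helper2)
-/

set_option autoImplicit false
open CategoryTheory CategoryTheory.Functor

universe v₂ u₂ v u

namespace Groth.Agent.Helper2.FibCatLib.SetoidFib

variable {C : Type u} [Category.{v} C] (𝒳 : BasedCategory.{v₂, u₂} C)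

/-- Two objects are related if there is a morphism between them over an identity. -/
def rel (x y : 𝒳.obj) : Prop := ∃ (U : C) (φ : x ⟶ y), 𝒳.p.IsHomLift (𝟙 U) φ

variable {𝒳}

theorem rel_refl (x : 𝒳.obj) : rel 𝒳 x x := ⟨𝒳.p.obj x, 𝟙 x, inferInstance⟩

theorem rel_symm (h : FibCat.IsFibGrpd 𝒳.p) {x y : 𝒳.obj} (hxy : rel 𝒳 x y) : rel 𝒳 y x := by
  obtain ⟨U, φ, hφ⟩ := hxy
  have h1 : 𝒳.p.IsStronglyCartesian (𝟙 U) φ := isStronglyCartesian_of_isFibGrpd 𝒳.p h (𝟙 U) φ hφ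
  have h2 : IsIso φ := IsStronglyCartesian.isIso_of_base_isIso 𝒳.p (𝟙 U) φ
  exact ⟨U, inv φ, IsHomLift.lift_id_inv_isIso _ _ _⟩

theorem rel_trans {x y z : 𝒳.obj} (hxy : rel 𝒳 x y) (hyz : rel 𝒳 y z) : rel 𝒳 x z := by
  obtain ⟨U, φ, hφ⟩ := hxy
  obtain ⟨U', ψ, hψ⟩ := hyz
  have e1 : 𝒳.p.obj y = U := IsHomLift.codomain_eq 𝒳.p (𝟙 U) φ
  have e2 : 𝒳.p.obj y = U' := IsHomLift.domain_eq 𝒳.p (𝟙 U') ψ
  have e : U = U' := e1.symm.trans e2
  subst e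
  exact ⟨U, φ ≫ ψ, inferInstance⟩

variable (𝒳) in
/-- The setoid of isomorphism in the fibres. -/
def fibSetoid (h : FibCat.IsFibGrpd 𝒳.p) : Setoid 𝒳.obj where
  r := rel 𝒳
  iseqv := ⟨rel_refl, rel_symm h, rel_trans⟩

/-- A chosen representative. -/
noncomputable def rep (h : FibCat.IsFibGrpd 𝒳.p) (x : 𝒳.obj) : 𝒳.obj :=
  (Quotient.mk (fibSetoid 𝒳 h) x).out

theorem rep_rel (h : FibCat.IsFibGrpd 𝒳.p) (x : 𝒳.obj) : rel 𝒳 (rep h x) x :=
  Quotient.exact (Quotient.out_eq (Quotient.mk (fibSetoid 𝒳 h) x))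

theorem rep_eq_of_rel (h : FibCat.IsFibGrpd 𝒳.p) {x y : 𝒳.obj} (hxy : rel 𝒳 x y) :
    rep h x = rep h y := by
  unfold rep
  have : Quotient.mk (fibSetoid 𝒳 h) x = Quotient.mk (fibSetoid 𝒳 h) y := Quotient.sound hxy
  rw [this]

theorem rep_rep (h : FibCat.IsFibGrpd 𝒳.p) (x : 𝒳.obj) : rep h (rep h x) = rep h x :=
  rep_eq_of_rel h (rep_rel h x)

variable (𝒳) in
/-- The fibrewise skeleton. -/
abbrev skel (h : FibCat.IsFibGrpd 𝒳.p) : BasedCategory.{v₂, u₂} C where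
  obj := ObjectProperty.FullSubcategory (fun x : 𝒳.obj => rep h x = x)
  p := ObjectProperty.ι (fun x : 𝒳.obj => rep h x = x) ⋙ 𝒳.p

/-- The inclusion of the fibrewise skeleton. -/
def skelι (h : FibCat.IsFibGrpd 𝒳.p) : skel 𝒳 h ⥤ᵇ 𝒳 where
  toFunctor := ObjectProperty.ι (fun x : 𝒳.obj => rep h x = x)
  w := rfl

theorem skelι_isEquivOver (h : FibCat.IsFibGrpd 𝒳.p) : FibCat.IsEquivOver (skelι h) := by
  have h1 : (skelι h).toFunctor.Full :=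
    inferInstanceAs (ObjectProperty.ι (fun x : 𝒳.obj => rep h x = x)).Full
  have h2 : (skelι h).toFunctor.Faithful :=
    inferInstanceAs (ObjectProperty.ι (fun x : 𝒳.obj => rep h x = x)).Faithful
  apply isEquivOver_of_fullyFaithful_of_exists_iso
  intro x
  obtain ⟨U, φ, hφ⟩ := rep_rel h x
  have e : 𝒳.p.obj x = U := IsHomLift.codomain_eq 𝒳.p (𝟙 U) φ
  subst e
  have h3 : 𝒳.p.IsStronglyCartesian (𝟙 (𝒳.p.obj x)) φ :=
    isStronglyCartesian_of_isFibGrpd 𝒳.p h _ φ hφ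
  have h4 : IsIso φ := IsStronglyCartesian.isIso_of_base_isIso 𝒳.p (𝟙 (𝒳.p.obj x)) φ
  exact ⟨⟨rep h x, rep_rep h x⟩, @asIso _ _ _ _ φ h4, hφ⟩

theorem skel_isFibGrpd (h : FibCat.IsFibGrpd 𝒳.p) : FibCat.IsFibGrpd (skel 𝒳 h).p :=
  Groth.Agent.Helper2.isFibGrpd_of_isEquivOver (skelι h) (skelι_isEquivOver h) h

theorem skel_isFibSet (h : FibCat.IsFibSetoid 𝒳.p) : FibCat.IsFibSet (skel 𝒳 h.1).p := by
  refine ⟨skel_isFibGrpd h.1, fun U => ?_⟩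
  have hthin := h.2 U
  refine { subsingleton := ?_, eq_of_hom := ?_ }
  · intro a b
    refine ⟨fun f g => ?_⟩
    apply Subtype.ext
    apply ObjectProperty.hom_ext
    have hf : 𝒳.p.IsHomLift (𝟙 U) f.1.hom := by
      have := f.2
      exact (BasedFunctor.isHomLift_iff (skelι h.1) (𝟙 U) f.1).2 this
    have hg : 𝒳.p.IsHomLift (𝟙 U) g.1.hom := by
      have := g.2
      exact (BasedFunctor.isHomLift_iff (skelι h.1) (𝟙 U) g.1).2 this
    let A : 𝒳.p.Fiber U := ⟨a.1.obj, a.2⟩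
    let B : 𝒳.p.Fiber U := ⟨b.1.obj, b.2⟩
    let f' : A ⟶ B := ⟨f.1.hom, hf⟩
    let g' : A ⟶ B := ⟨g.1.hom, hg⟩
    have : f' = g' := (hthin A B).elim _ _
    exact congrArg Subtype.val this
  · intro a b f
    have hf : 𝒳.p.IsHomLift (𝟙 U) f.1.hom := by
      have := f.2
      exact (BasedFunctor.isHomLift_iff (skelι h.1) (𝟙 U) f.1).2 this
    have hr : rel 𝒳 a.1.obj b.1.obj := ⟨U, f.1.hom, hf⟩
    have h1 := rep_eq_of_rel h.1 hr
    rw [a.1.property, b.1.property] at h1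
    apply Subtype.ext
    exact ObjectProperty.FullSubcategory.ext h1

variable (𝒳) in
theorem exists_fibSet (h : FibCat.IsFibSetoid 𝒳.p) :
    ∃ (𝒴 : BasedCategory.{v₂, u₂} C) (F : 𝒳 ⥤ᵇ 𝒴), FibCat.IsFibSet 𝒴.p ∧ FibCat.IsEquivOver F := by
  obtain ⟨F, hF, -⟩ := isEquivOver_inverse (skelι_isEquivOver h.1)
  exact ⟨skel 𝒳 h.1, F, skel_isFibSet h, hF⟩

end Groth.Agent.Helper2.FibCatLib.SetoidFib
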