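import Mathlib
import Groth.Prelude.Def_FibCat2
import Groth.Prelude.Def_W4stkcategoriessitesFib
import Groth.Agent.Lib.Helper2.FibCat.EquivCrit

/-!
# The relative inertia as a 2-fibre product of diagonals (helper2)
-/

set_option autoImplicit false
open CategoryTheory CategoryTheory.Functor CategoryTheory.Limits

universe v₃ u₃ v₂ u₂ v u

namespace Groth.Agent.Helper2.FibCatLib.Inertia

variable {C : Type u} [Category.{v} C]
variable {𝒳 : BasedCategory.{v₂, u₂} C} {𝒴 : BasedCategory.{v₃, u₃} C} (F : 𝒳 ⥤ᵇ 𝒴)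

theorem diag_obj_iso_hom (x : 𝒳.obj) : ((FibCat.diag F).obj x).obj.iso.hom = 𝟙 (F.obj x) := rfl

theorem diag_obj_fst (x : 𝒳.obj) : ((FibCat.diag F).obj x).obj.fst = x := rfl

theorem diag_obj_snd (x : 𝒳.obj) : ((FibCat.diag F).obj x).obj.snd = x := rfl

/-- An isomorphism between values of the diagonal from a pair of isomorphisms. -/
def dIso {x y : 𝒳.obj} (a b : x ≅ y) (h : F.map a.hom = F.map b.hom) :
    (FibCat.diag F).obj x ≅ (FibCat.diag F).obj y :=
  ObjectProperty.isoMk _ (CategoricalPullback.mkIso a b (by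
    change F.map a.hom ≫ 𝟙 _ = 𝟙 _ ≫ F.map b.hom
    rw [Category.comp_id, Category.id_comp]
    exact h))

@[simp] theorem dIso_hom_fst {x y : 𝒳.obj} (a b : x ≅ y) (h : F.map a.hom = F.map b.hom) :
    (dIso F a b h).hom.hom.fst = a.hom := rfl

@[simp] theorem dIso_hom_snd {x y : 𝒳.obj} (a b : x ≅ y) (h : F.map a.hom = F.map b.hom) :
    (dIso F a b h).hom.hom.snd = b.hom := rfl

theorem isHomLift_of_map_eq_id {x : 𝒳.obj} (α : x ⟶ x) (h : F.map α = 𝟙 (F.obj x)) :
    𝒳.p.IsHomLift (𝟙 (𝒳.p.obj x)) α := by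
  have : 𝒴.p.IsHomLift (𝟙 (𝒳.p.obj x)) (F.map α) := by
    rw [h]
    infer_instance
  exact BasedFunctor.isHomLift_map F _ _

theorem map_aut_eq (A : (FibCat.inertia F).obj) :
    F.map A.aut.hom = F.map (Iso.refl A.pt).hom := by
  rw [A.map_aut]
  exact (F.map_id _).symm

/-- The object of the fibre product of the diagonals attached to an object of the inertia. -/
def eObj (A : (FibCat.inertia F).obj) : (FibCat.fp (FibCat.diag F) (FibCat.diag F)).obj :=
  ⟨{ fst := A.pt
     snd := A.pt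
     iso := dIso F A.aut (Iso.refl _) (map_aut_eq F A) },
    by
      change (FibCat.fp F F).p.IsHomLift (𝟙 (𝒳.p.obj A.pt))
        (dIso F A.aut (Iso.refl _) (map_aut_eq F A)).hom
      have h1 : 𝒳.p.IsHomLift (𝟙 (𝒳.p.obj A.pt)) A.aut.hom :=
        isHomLift_of_map_eq_id F A.aut.hom A.map_aut
      have h2 := IsHomLift.fac' 𝒳.p (𝟙 (𝒳.p.obj A.pt)) A.aut.hom
      refine IsHomLift.of_fac' _ _ _ rfl rfl ?_
      have h3 : 𝒳.p.map A.aut.hom = 𝟙 (𝒳.p.obj A.pt) := by simpa using h2
      exact h3.trans (by simp; rfl)⟩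

theorem diag_map_fst {x y : 𝒳.obj} (φ : x ⟶ y) : ((FibCat.diag F).map φ).hom.fst = φ := rfl

theorem diag_map_snd {x y : 𝒳.obj} (φ : x ⟶ y) : ((FibCat.diag F).map φ).hom.snd = φ := rfl

/-- The comparison functor on underlying categories. -/
def eFunctor : (FibCat.inertia F).obj ⥤ (FibCat.fp (FibCat.diag F) (FibCat.diag F)).obj where
  obj := eObj F
  map {A B} φ := ObjectProperty.homMk
    { fst := φ.hom
      snd := φ.hom
      w := by
        apply ObjectProperty.hom_ext
        apply CategoricalPullback.hom_ext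
        · change φ.hom ≫ B.aut.hom = A.aut.hom ≫ φ.hom
          exact φ.comm.symm
        · change φ.hom ≫ 𝟙 _ = 𝟙 _ ≫ φ.hom
          rw [Category.comp_id, Category.id_comp] }
  map_id A := by
    apply ObjectProperty.hom_ext
    apply CategoricalPullback.hom_ext <;> rfl
  map_comp φ ψ := by
    apply ObjectProperty.hom_ext
    apply CategoricalPullback.hom_ext <;> rfl

/-- The comparison functor over the base. -/
def eBased : FibCat.inertia F ⥤ᵇ FibCat.fp (FibCat.diag F) (FibCat.diag F) where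
  toFunctor := eFunctor F
  w := rfl

theorem eBased_fst : BasedFunctor.comp (eBased F) (FibCat.fpFst _ _) = FibCat.inertiaToBase F := rfl

theorem eBased_snd : BasedFunctor.comp (eBased F) (FibCat.fpSnd _ _) = FibCat.inertiaToBase F := rfl

theorem eFunctor_faithful : (eFunctor F).Faithful where
  map_injective {A B} φ ψ h := by
    apply FibCat.InertiaObj.hom_ext
    exact congrArg (fun t => t.hom.fst) h

theorem eFunctor_full : (eFunctor F).Full where
  map_surjective {A B} g := by
    have hw := g.hom.w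
    have h1 : g.hom.fst ≫ B.aut.hom = A.aut.hom ≫ g.hom.snd :=
      congrArg (fun t => t.hom.fst) hw
    have h2 : g.hom.fst ≫ 𝟙 _ = 𝟙 _ ≫ g.hom.snd :=
      congrArg (fun t => t.hom.snd) hw
    rw [Category.comp_id, Category.id_comp] at h2
    refine ⟨⟨g.hom.fst, ?_⟩, ?_⟩
    · exact (h1.trans (congrArg (fun t => A.aut.hom ≫ t) h2.symm)).symm
    · apply ObjectProperty.hom_ext
      apply CategoricalPullback.hom_ext
      · rfl
      · exact h2

theorem eBased_exists_iso (X : (FibCat.fp (FibCat.diag F) (FibCat.diag F)).obj) :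
    ∃ (A : (FibCat.inertia F).obj) (e : (eFunctor F).obj A ≅ X),
      (FibCat.fp (FibCat.diag F) (FibCat.diag F)).p.IsHomLift
        (𝟙 ((FibCat.fp (FibCat.diag F) (FibCat.diag F)).p.obj X)) e.hom := by
  let a : X.obj.fst ≅ X.obj.snd := (FibCat.fpFst F F).toFunctor.mapIso X.obj.iso
  let b : X.obj.fst ≅ X.obj.snd :=
    ((FibCat.fpProp F F).ι ⋙ CategoricalPullback.π₂ F.toFunctor F.toFunctor).mapIso X.obj.iso
  have hw := X.obj.iso.hom.hom.w
  have hab : F.map a.hom = F.map b.hom := by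
    have : F.map a.hom ≫ 𝟙 _ = 𝟙 _ ≫ F.map b.hom := hw
    rw [Category.comp_id, Category.id_comp] at this
    exact this
  let A : (FibCat.inertia F).obj :=
    ⟨X.obj.fst, a ≪≫ b.symm, by
      change F.map (a.hom ≫ b.inv) = 𝟙 _
      rw [F.map_comp, hab, ← F.map_comp, b.hom_inv_id, F.map_id]⟩
  let e : (eFunctor F).obj A ≅ X :=
    ObjectProperty.isoMk _ (CategoricalPullback.mkIso (Iso.refl X.obj.fst) b (by
      apply ObjectProperty.hom_ext
      apply CategoricalPullback.hom_ext
      · change 𝟙 _ ≫ a.hom = (a.hom ≫ b.inv) ≫ b.hom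
        simp
      · change 𝟙 _ ≫ b.hom = 𝟙 _ ≫ b.hom
        rfl))
  refine ⟨A, e, ?_⟩
  have h1 : (FibCat.fp (FibCat.diag F) (FibCat.diag F)).p.map e.hom =
      𝟙 ((FibCat.fp (FibCat.diag F) (FibCat.diag F)).p.obj X) := 𝒳.p.map_id X.obj.fst
  exact isHomLift_congr' _ h1 _ inferInstance

theorem eBased_isEquivOver : FibCat.IsEquivOver (eBased F) := by
  have h1 : (eBased F).toFunctor.Full := eFunctor_full F
  have h2 : (eBased F).toFunctor.Faithful := eFunctor_faithful F
  exact isEquivOver_of_fullyFaithful_of_exists_iso (eBased F) (eBased_exists_iso F)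

end Groth.Agent.Helper2.FibCatLib.Inertia
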