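import Mathlib
import Groth.Prelude.Def_FibCat2
import Groth.Prelude.Def_W4stkcategoriessitesFib
import Groth.Agent.Lib.Helper2.FibCat.EquivCrit
import Groth.Agent.Lib.Helper2.FibCat.Yoneda
import Groth.Agent.Lib.Helper2.EquivOver
import Groth.Agent.Lib.Helper2.FibGrpd

/-!
# Representable categories over a base: the terminal-object criterion (helper2)
-/

set_option autoImplicit false
open CategoryTheory CategoryTheory.Functor CategoryTheory.Limits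

universe v₃ u₃ v₂ u₂ v u

namespace Groth.Agent.Helper2.FibCatLib.Repr

variable {C : Type u} [Category.{v} C]

/-- An object is terminal: every object has exactly one morphism to it. -/
def IsTerm {𝒜 : Type u₂} [Category.{v₂} 𝒜] (ξ : 𝒜) : Prop := ∀ ρ : 𝒜, Nonempty (Unique (ρ ⟶ ξ))

section Plain

variable {𝒜 : Type u₂} [Category.{v₂} 𝒜] {ℬ : Type u₃} [Category.{v₃} ℬ]

theorem IsTerm.exists_hom {ξ : 𝒜} (h : IsTerm ξ) (ρ : 𝒜) : ∃ f : ρ ⟶ ξ, ∀ g : ρ ⟶ ξ, g = f := by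
  obtain ⟨u⟩ := h ρ
  exact ⟨u.default, fun g => u.uniq g⟩

theorem IsTerm.hom_ext {ξ : 𝒜} (h : IsTerm ξ) {ρ : 𝒜} (f g : ρ ⟶ ξ) : f = g := by
  obtain ⟨u⟩ := h ρ
  exact (u.uniq f).trans (u.uniq g).symm

theorem isTerm_of_iso {ξ ξ' : 𝒜} (e : ξ ≅ ξ') (h : IsTerm ξ) : IsTerm ξ' := by
  intro ρ
  obtain ⟨f, hf⟩ := h.exists_hom ρ
  refine ⟨⟨⟨f ≫ e.hom⟩, fun g => ?_⟩⟩
  have := hf (g ≫ e.inv)
  rw [← this]
  simp

/-- A fully faithful, essentially surjective functor preserves terminal objects. -/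
theorem isTerm_map (Φ : 𝒜 ⥤ ℬ) [Φ.Full] [Φ.Faithful] [Φ.EssSurj] {ξ : 𝒜} (h : IsTerm ξ) :
    IsTerm (Φ.obj ξ) := by
  intro ρ
  let a := Φ.objPreimage ρ
  let i : Φ.obj a ≅ ρ := Φ.objObjPreimageIso ρ
  obtain ⟨f, hf⟩ := h.exists_hom a
  refine ⟨⟨⟨i.inv ≫ Φ.map f⟩, fun g => ?_⟩⟩
  have h1 : Φ.preimage (i.hom ≫ g) = f := hf _
  have h2 : Φ.map (Φ.preimage (i.hom ≫ g)) = i.hom ≫ g := Φ.map_preimage _
  rw [h1] at h2
  rw [h2]
  simp

/-- A fully faithful functor reflects terminal objects. -/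
theorem isTerm_of_map (Φ : 𝒜 ⥤ ℬ) [Φ.Full] [Φ.Faithful] {ξ : 𝒜} (h : IsTerm (Φ.obj ξ)) :
    IsTerm ξ := by
  intro ρ
  obtain ⟨f, hf⟩ := h.exists_hom (Φ.obj ρ)
  refine ⟨⟨⟨Φ.preimage f⟩, fun g => ?_⟩⟩
  apply Φ.map_injective
  exact (hf _).trans (hf _).symm

/-- Terminal objects transfer backwards along a fully faithful, essentially surjective functor. -/
theorem exists_isTerm_of_map (Φ : 𝒜 ⥤ ℬ) [Φ.Full] [Φ.Faithful] [Φ.EssSurj] {η : ℬ}
    (h : IsTerm η) : ∃ ξ : 𝒜, IsTerm ξ := by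
  refine ⟨Φ.objPreimage η, ?_⟩
  apply isTerm_of_map Φ
  exact isTerm_of_iso (Φ.objObjPreimageIso η).symm h

end Plain

theorem isTerm_over_id (U : C) : IsTerm (Over.mk (𝟙 U)) := by
  intro A
  refine ⟨⟨⟨Over.homMk A.hom⟩, fun g => ?_⟩⟩
  apply Over.OverMorphism.ext
  have := Over.w g
  simpa using this

variable {𝒳 : BasedCategory.{v₂, u₂} C}

/-- A representable category over `C` has a terminal object. -/
theorem exists_isTerm_of_isRepresentable (h : FibCat.IsRepresentable 𝒳) :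
    ∃ ξ : 𝒳.obj, IsTerm ξ := by
  obtain ⟨U, F, hF⟩ := h
  have := isEquivalence_of_isEquivOver hF
  exact exists_isTerm_of_map F.toFunctor (isTerm_over_id U)

theorem isFibGrpd_of_isRepresentable (h : FibCat.IsRepresentable 𝒳) : FibCat.IsFibGrpd 𝒳.p := by
  obtain ⟨U, F, hF⟩ := h
  exact Groth.Agent.Helper2.isFibGrpd_of_isEquivOver F hF (isFibGrpd_overCat U)

section OfTerminal

variable {ξ : 𝒳.obj} (hξ : IsTerm ξ)

/-- The unique morphism to the terminal object. -/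
noncomputable def toTerm (ρ : 𝒳.obj) : ρ ⟶ ξ := (hξ.exists_hom ρ).choose

theorem toTerm_comp {ρ ρ' : 𝒳.obj} (φ : ρ ⟶ ρ') : φ ≫ toTerm hξ ρ' = toTerm hξ ρ :=
  hξ.hom_ext _ _

/-- The functor to the slice over the image of the terminal object. -/
noncomputable def toOver : 𝒳 ⥤ᵇ FibCat.overCat (𝒳.p.obj ξ) where
  toFunctor :=
    { obj := fun ρ => Over.mk (𝒳.p.map (toTerm hξ ρ))
      map := fun {ρ ρ'} φ => Over.homMk (𝒳.p.map φ) (by
        change 𝒳.p.map φ ≫ 𝒳.p.map (toTerm hξ ρ') = 𝒳.p.map (toTerm hξ ρ)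
        rw [← Functor.map_comp, toTerm_comp])
      map_id := fun ρ => by
        apply Over.OverMorphism.ext
        exact 𝒳.p.map_id ρ
      map_comp := fun φ ψ => by
        apply Over.OverMorphism.ext
        exact 𝒳.p.map_comp φ ψ }
  w := rfl

theorem toOver_faithful (h𝒳 : FibCat.IsFibGrpd 𝒳.p) : (toOver hξ).toFunctor.Faithful where
  map_injective {ρ ρ'} φ ψ h := by
    have h1 : 𝒳.p.map φ = 𝒳.p.map ψ := congrArg (fun t => t.left) h
    obtain ⟨χ, -, hu⟩ := Groth.Agent.Helper2.IsFibGrpd.existsUnique_lift 𝒳.p h𝒳 (toTerm hξ ρ')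
      (toTerm hξ ρ) (𝒳.p.map φ) (by rw [← Functor.map_comp, toTerm_comp])
    exact (hu φ ⟨rfl, toTerm_comp hξ φ⟩).trans (hu ψ ⟨h1.symm, toTerm_comp hξ ψ⟩).symm

theorem toOver_full (h𝒳 : FibCat.IsFibGrpd 𝒳.p) : (toOver hξ).toFunctor.Full where
  map_surjective {ρ ρ'} m := by
    have hm : m.left ≫ 𝒳.p.map (toTerm hξ ρ') = 𝒳.p.map (toTerm hξ ρ) := Over.w m
    obtain ⟨χ, ⟨h1, -⟩, -⟩ := Groth.Agent.Helper2.IsFibGrpd.existsUnique_lift 𝒳.p h𝒳
      (toTerm hξ ρ') (toTerm hξ ρ) m.left hm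
    refine ⟨χ, ?_⟩
    apply Over.OverMorphism.ext
    exact h1

theorem toOver_exists_iso (h𝒳 : FibCat.IsFibGrpd 𝒳.p) (A : Over (𝒳.p.obj ξ)) :
    ∃ (ρ : 𝒳.obj) (e : (toOver hξ).toFunctor.obj ρ ≅ A),
      (FibCat.overCat (𝒳.p.obj ξ)).p.IsHomLift (𝟙 ((FibCat.overCat (𝒳.p.obj ξ)).p.obj A)) e.hom := by
  obtain ⟨y, φ, e, hφ⟩ := Groth.Agent.Helper2.IsFibGrpd.exists_lift' 𝒳.p h𝒳 ξ A.hom
  have h1 : φ = toTerm hξ y := hξ.hom_ext _ _
  subst h1
  let i : (toOver hξ).toFunctor.obj y ≅ A := Over.isoMk (eqToIso e) (by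
    change eqToHom e ≫ A.hom = 𝒳.p.map (toTerm hξ y)
    exact hφ.symm)
  refine ⟨y, i, ?_⟩
  have h2 : (Over.forget (𝒳.p.obj ξ)).IsHomLift i.hom.left i.hom := over_isHomLift _ i.hom
  have h3 : i.hom.left = eqToHom e := rfl
  exact isHomLift_of_eq (Over.forget (𝒳.p.obj ξ)) e rfl i.hom.left (𝟙 A.left)
    (by rw [h3]; simp) i.hom h2

theorem isEquivOver_toOver (h𝒳 : FibCat.IsFibGrpd 𝒳.p) : FibCat.IsEquivOver (toOver hξ) := by
  have := toOver_faithful hξ h𝒳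
  have := toOver_full hξ h𝒳
  exact isEquivOver_of_fullyFaithful_of_exists_iso (toOver hξ) (toOver_exists_iso hξ h𝒳)

/-- A category fibred in groupoids with a terminal object is representable. -/
theorem isRepresentable_of_isTerm {ξ : 𝒳.obj} (hξ : IsTerm ξ) (h𝒳 : FibCat.IsFibGrpd 𝒳.p) :
    FibCat.IsRepresentable 𝒳 :=
  ⟨𝒳.p.obj ξ, toOver hξ, isEquivOver_toOver hξ h𝒳⟩

end OfTerminal

theorem isRepresentable_iff :
    FibCat.IsRepresentable 𝒳 ↔ (FibCat.IsFibGrpd 𝒳.p ∧ ∃ ξ : 𝒳.obj, IsTerm ξ) := by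
  constructor
  · intro h
    exact ⟨isFibGrpd_of_isRepresentable h, exists_isTerm_of_isRepresentable h⟩
  · rintro ⟨h1, ξ, hξ⟩
    exact isRepresentable_of_isTerm hξ h1

end Groth.Agent.Helper2.FibCatLib.Repr
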