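import Mathlib
import Groth.Prelude.Def_FibCat2
import Groth.Prelude.Def_W4stkcategoriessitesFib
import Groth.Agent.Lib.Helper2.FibCat.EquivCrit
import Groth.Agent.Lib.Helper2.FibCat.Yoneda
import Groth.Agent.Lib.Helper2.FibCat.Repr
import Groth.Agent.Lib.Helper2.FibCat.Inertia
import Groth.Agent.Lib.Helper2.FibProd

/-!
# The 2-fibre product of a functor to `𝒮 ×_C 𝒮` with the diagonal: a dictionary (helper2)
-/

set_option autoImplicit false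
open CategoryTheory CategoryTheory.Functor CategoryTheory.Limits

universe v₃ u₃ v₂ u₂ v u

namespace Groth.Agent.Helper2.FibCatLib.DiagDict

variable {C : Type u} [Category.{v} C]

section IsEq

/-- A morphism that is an `eqToHom`. -/
def IsEq {X Y : C} (f : X ⟶ Y) : Prop := ∃ h : X = Y, f = eqToHom h

theorem IsEq.eq {X Y : C} {f g : X ⟶ Y} (hf : IsEq f) (hg : IsEq g) : f = g := by
  obtain ⟨h, rfl⟩ := hf
  obtain ⟨h', rfl⟩ := hg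
  rfl

theorem IsEq.comp {X Y Z : C} {f : X ⟶ Y} {g : Y ⟶ Z} (hf : IsEq f) (hg : IsEq g) :
    IsEq (f ≫ g) := by
  obtain ⟨h, rfl⟩ := hf
  obtain ⟨h', rfl⟩ := hg
  exact ⟨h.trans h', by simp⟩

theorem isEq_id (X : C) : IsEq (𝟙 X) := ⟨rfl, rfl⟩

theorem isEq_eqToHom {X Y : C} (h : X = Y) : IsEq (eqToHom h) := ⟨h, rfl⟩

theorem isEq_map_of_isHomLift {𝒳 : Type u₂} [Category.{v₂} 𝒳] (p : 𝒳 ⥤ C) {R : C} {a b : 𝒳}
    (φ : a ⟶ b) (h : p.IsHomLift (𝟙 R) φ) : IsEq (p.map φ) := by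
  have := IsHomLift.fac' p (𝟙 R) φ
  rw [this]
  exact (isEq_eqToHom _).comp ((isEq_id _).comp (isEq_eqToHom _))

theorem isEq_of_isHomLift_id {R X Y : C} (κ : X ⟶ Y) (h : (𝟭 C).IsHomLift (𝟙 R) κ) : IsEq κ :=
  isEq_map_of_isHomLift (𝟭 C) κ h

end IsEq

section Dict

variable {𝒮 : BasedCategory.{v₂, u₂} C} {𝒲 : BasedCategory.{v₃, u₃} C}

/-- The product `𝒮 ×_C 𝒮`. -/
abbrev SS (𝒮 : BasedCategory.{v₂, u₂} C) := FibCat.fp (FibCat.toSelf 𝒮) (FibCat.toSelf 𝒮)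

/-- The diagonal of `𝒮` over `C`. -/
abbrev Dg (𝒮 : BasedCategory.{v₂, u₂} C) : 𝒮 ⥤ᵇ SS 𝒮 := FibCat.diag (FibCat.toSelf 𝒮)

variable (H : 𝒲 ⥤ᵇ SS 𝒮)

/-- First component of a functor to the product. -/
abbrev h₁ : 𝒲 ⥤ᵇ 𝒮 := BasedFunctor.comp H (FibCat.fpFst _ _)

/-- Second component of a functor to the product. -/
abbrev h₂ : 𝒲 ⥤ᵇ 𝒮 := BasedFunctor.comp H (FibCat.fpSnd _ _)

/-- The fibre product with the diagonal. -/
abbrev P := FibCat.fp H (Dg 𝒮)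

/-- First component of the structural isomorphism. -/
def θ₁ (Z : (P H).obj) : (h₁ H).toFunctor.obj Z.obj.fst ≅ Z.obj.snd :=
  (FibCat.fpFst _ _).toFunctor.mapIso Z.obj.iso

/-- Second component of the structural isomorphism. -/
def θ₂ (Z : (P H).obj) : (h₂ H).toFunctor.obj Z.obj.fst ≅ Z.obj.snd :=
  (FibCat.fpSnd _ _).toFunctor.mapIso Z.obj.iso

theorem θ₁_isHomLift (Z : (P H).obj) : 𝒮.p.IsHomLift (𝟙 (𝒲.p.obj Z.obj.fst)) (θ₁ H Z).hom := by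
  have hZ : (SS 𝒮).p.IsHomLift (𝟙 (𝒲.p.obj Z.obj.fst)) Z.obj.iso.hom := Z.property
  exact BasedFunctor.preserves_isHomLift (FibCat.fpFst _ _) _ Z.obj.iso.hom

theorem θ₂_isHomLift (Z : (P H).obj) : 𝒮.p.IsHomLift (𝟙 (𝒲.p.obj Z.obj.fst)) (θ₂ H Z).hom := by
  have hZ : (SS 𝒮).p.IsHomLift (𝟙 (𝒲.p.obj Z.obj.fst)) Z.obj.iso.hom := Z.property
  exact BasedFunctor.preserves_isHomLift (FibCat.fpSnd _ _) _ Z.obj.iso.hom

/-- The isomorphism between the two components. -/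
def fZ (Z : (P H).obj) : (h₁ H).toFunctor.obj Z.obj.fst ≅ (h₂ H).toFunctor.obj Z.obj.fst :=
  θ₁ H Z ≪≫ (θ₂ H Z).symm

theorem fZ_isHomLift (Z : (P H).obj) : 𝒮.p.IsHomLift (𝟙 (𝒲.p.obj Z.obj.fst)) (fZ H Z).hom := by
  have h1 := θ₁_isHomLift H Z
  have h2 := θ₂_isHomLift H Z
  have h3 : 𝒮.p.IsHomLift (𝟙 (𝒲.p.obj Z.obj.fst)) (θ₂ H Z).inv := IsHomLift.lift_id_inv _ _ _
  change 𝒮.p.IsHomLift _ ((θ₁ H Z).hom ≫ (θ₂ H Z).inv)
  infer_instance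

theorem hom_w₁ {Z Z' : (P H).obj} (m : Z ⟶ Z') :
    (h₁ H).toFunctor.map m.hom.fst ≫ (θ₁ H Z').hom = (θ₁ H Z).hom ≫ m.hom.snd :=
  congrArg (fun t => t.hom.fst) m.hom.w

theorem hom_w₂ {Z Z' : (P H).obj} (m : Z ⟶ Z') :
    (h₂ H).toFunctor.map m.hom.fst ≫ (θ₂ H Z').hom = (θ₂ H Z).hom ≫ m.hom.snd :=
  congrArg (fun t => t.hom.snd) m.hom.w

/-- The compatibility satisfied by the first component of a morphism. -/
theorem hom_compat {Z Z' : (P H).obj} (m : Z ⟶ Z') :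
    (h₁ H).toFunctor.map m.hom.fst ≫ (fZ H Z').hom = (fZ H Z).hom ≫ (h₂ H).toFunctor.map m.hom.fst := by
  have e1 := hom_w₁ H m
  have e2 := hom_w₂ H m
  change _ ≫ (θ₁ H Z').hom ≫ (θ₂ H Z').inv = ((θ₁ H Z).hom ≫ (θ₂ H Z).inv) ≫ _
  rw [← Category.assoc, e1, Category.assoc, Category.assoc]
  congr 1
  rw [Iso.eq_inv_comp, ← Category.assoc, ← e2, Category.assoc, Iso.hom_inv_id, Category.comp_id]

/-- A morphism is determined by its first component. -/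
theorem hom_ext_fst {Z Z' : (P H).obj} (m m' : Z ⟶ Z') (h : m.hom.fst = m'.hom.fst) : m = m' := by
  apply ObjectProperty.hom_ext
  apply CategoricalPullback.hom_ext h
  have e1 := hom_w₁ H m
  have e2 := hom_w₁ H m'
  rw [h] at e1
  have : (θ₁ H Z).hom ≫ m.hom.snd = (θ₁ H Z).hom ≫ m'.hom.snd := e1.symm.trans e2
  exact (cancel_epi _).1 this

/-- Constructor for morphisms from a compatible first component. -/
theorem exists_hom_of_compat {Z Z' : (P H).obj} (γ : Z.obj.fst ⟶ Z'.obj.fst)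
    (hγ : (h₁ H).toFunctor.map γ ≫ (fZ H Z').hom = (fZ H Z).hom ≫ (h₂ H).toFunctor.map γ) :
    ∃ m : Z ⟶ Z', m.hom.fst = γ := by
  let σ : Z.obj.snd ⟶ Z'.obj.snd := (θ₁ H Z).inv ≫ (h₁ H).toFunctor.map γ ≫ (θ₁ H Z').hom
  have e1 : (h₁ H).toFunctor.map γ ≫ (θ₁ H Z').hom = (θ₁ H Z).hom ≫ σ := by
    simp [σ]
  have e2 : (h₂ H).toFunctor.map γ ≫ (θ₂ H Z').hom = (θ₂ H Z).hom ≫ σ := by
    have hγ' : (h₁ H).toFunctor.map γ ≫ (θ₁ H Z').hom ≫ (θ₂ H Z').inv =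
        ((θ₁ H Z).hom ≫ (θ₂ H Z).inv) ≫ (h₂ H).toFunctor.map γ := hγ
    have : (θ₁ H Z).hom ≫ (θ₂ H Z).inv ≫ (h₂ H).toFunctor.map γ ≫ (θ₂ H Z').hom =
        (θ₁ H Z).hom ≫ σ := by
      rw [← e1, ← Category.assoc, ← Category.assoc, ← hγ']
      simp
    have h2 := (cancel_epi _).1 this
    rw [← h2, Iso.hom_inv_id_assoc]
  refine ⟨ObjectProperty.homMk ⟨γ, σ, ?_⟩, rfl⟩
  apply ObjectProperty.hom_ext
  apply CategoricalPullback.hom_ext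
  · exact e1
  · exact e2

open Groth.Agent.Helper2.FibCatLib.Repr in
/-- Criterion for an object of the fibre product with the diagonal to be terminal. -/
theorem isTerm_of_existsUnique (Z₀ : (P H).obj)
    (h : ∀ Z : (P H).obj, ∃! γ : Z.obj.fst ⟶ Z₀.obj.fst,
      (h₁ H).toFunctor.map γ ≫ (fZ H Z₀).hom = (fZ H Z).hom ≫ (h₂ H).toFunctor.map γ) :
    IsTerm Z₀ := by
  intro Z
  obtain ⟨γ, hγ, hu⟩ := h Z
  obtain ⟨m, hm⟩ := exists_hom_of_compat H γ hγ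
  refine ⟨⟨⟨m⟩, fun m' => ?_⟩⟩
  apply hom_ext_fst H
  exact (hu _ (hom_compat H m')).trans hm.symm

theorem isHomLift_comp_iff {𝒜 : Type u₂} [Category.{v₂} 𝒜] {ℬ : Type u₃} [Category.{v₃} ℬ]
    (F : 𝒜 ⥤ ℬ) (p : ℬ ⥤ C) {R S : C} (f : R ⟶ S) {a b : 𝒜} (φ : a ⟶ b) :
    (F ⋙ p).IsHomLift f φ ↔ p.IsHomLift f (F.map φ) := by
  constructor
  · intro h
    exact IsHomLift.of_fac' p f (F.map φ) (IsHomLift.domain_eq (F ⋙ p) f φ)
      (IsHomLift.codomain_eq (F ⋙ p) f φ) (IsHomLift.fac' (F ⋙ p) f φ)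
  · intro h
    exact IsHomLift.of_fac' (F ⋙ p) f φ (IsHomLift.domain_eq p f (F.map φ))
      (IsHomLift.codomain_eq p f (F.map φ)) (IsHomLift.fac' p f (F.map φ))

/-- Constructor for objects of the fibre product with the diagonal. -/
def mkObj (c : 𝒲.obj) (s : 𝒮.obj) (t₁ : (h₁ H).toFunctor.obj c ≅ s) (t₂ : (h₂ H).toFunctor.obj c ≅ s)
    (ht₁ : 𝒮.p.IsHomLift (𝟙 (𝒲.p.obj c)) t₁.hom) (ht₂ : 𝒮.p.IsHomLift (𝟙 (𝒲.p.obj c)) t₂.hom) :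
    (P H).obj :=
  ⟨{ fst := c
     snd := s
     iso := ObjectProperty.isoMk _ (CategoricalPullback.mkIso t₁ t₂ (by
       have hc : (𝟭 C).IsHomLift (𝟙 (𝒮.p.obj (H.obj c).obj.fst)) (H.obj c).obj.iso.hom :=
         (H.obj c).property
       have e1 : IsEq (𝒮.p.map t₁.hom) := isEq_map_of_isHomLift 𝒮.p _ ht₁
       have e2 : IsEq (𝒮.p.map t₂.hom) := isEq_map_of_isHomLift 𝒮.p _ ht₂
       have e3 : IsEq (H.obj c).obj.iso.hom := isEq_of_isHomLift_id _ hc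
       have e4 : IsEq (((Dg 𝒮).obj s).obj.iso.hom) := isEq_id _
       exact (e1.comp e4).eq (e3.comp e2))) },
    by
      change (SS 𝒮).p.IsHomLift (𝟙 (𝒲.p.obj c)) _
      exact (isHomLift_comp_iff ((FibCat.fpProp (FibCat.toSelf 𝒮) (FibCat.toSelf 𝒮)).ι ⋙
        CategoricalPullback.π₁ (FibCat.toSelf 𝒮).toFunctor (FibCat.toSelf 𝒮).toFunctor) 𝒮.p _ _).2
          ht₁⟩

@[simp] theorem mkObj_fst (c : 𝒲.obj) (s : 𝒮.obj) (t₁ : (h₁ H).toFunctor.obj c ≅ s)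
    (t₂ : (h₂ H).toFunctor.obj c ≅ s) (ht₁ ht₂) : (mkObj H c s t₁ t₂ ht₁ ht₂).obj.fst = c := rfl

theorem mkObj_fZ (c : 𝒲.obj) (s : 𝒮.obj) (t₁ : (h₁ H).toFunctor.obj c ≅ s)
    (t₂ : (h₂ H).toFunctor.obj c ≅ s) (ht₁ ht₂) :
    (fZ H (mkObj H c s t₁ t₂ ht₁ ht₂)).hom = t₁.hom ≫ t₂.inv := rfl

end Dict

end Groth.Agent.Helper2.FibCatLib.DiagDict
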