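import Mathlib
import Groth.Prelude.Def_FibCat2
import Groth.Agent.Lib.Helper2.FibCat.DiagDict
import Groth.Agent.Lib.Helper2.FibCat.EquivCrit
import Groth.Agent.Lib.Helper2.Stk.LocAut

/-!
# The 2-fibre product of a functor to `𝒴 ×_𝒵 𝒴` with the relative diagonal: a dictionary (helper2)
-/

set_option autoImplicit false
open CategoryTheory CategoryTheory.Functor CategoryTheory.Limits

universe v₅ u₅ v₄ u₄ v₃ u₃ v₂ u₂ v u

namespace Groth.Agent.Helper2.FibCatLib.RelDiag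

open Groth.Agent.Helper2.FibCatLib.DiagDict (IsEq isEq_id isEq_eqToHom isEq_map_of_isHomLift
  isEq_of_isHomLift_id isHomLift_comp_iff)
open Groth.Agent.Helper2.StkLib

variable {C : Type u} [Category.{v} C]

section Dict

variable {𝒴 : BasedCategory.{v₂, u₂} C} {𝒵 : BasedCategory.{v₄, u₄} C}
  {𝒲 : BasedCategory.{v₃, u₃} C}
variable {g : 𝒴 ⥤ᵇ 𝒵} (H : 𝒲 ⥤ᵇ FibCat.fp g g)

/-- First component of a functor to the relative product. -/
abbrev h₁ : 𝒲 ⥤ᵇ 𝒴 := BasedFunctor.comp H (FibCat.fpFst g g)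

/-- Second component of a functor to the relative product. -/
abbrev h₂ : 𝒲 ⥤ᵇ 𝒴 := BasedFunctor.comp H (FibCat.fpSnd g g)

/-- The fibre product with the relative diagonal. -/
abbrev P := FibCat.fp H (FibCat.diag g)

/-- First component of the structural isomorphism. -/
def θ₁ (Z : (P H).obj) : (h₁ H).toFunctor.obj Z.obj.fst ≅ Z.obj.snd :=
  (FibCat.fpFst g g).toFunctor.mapIso Z.obj.iso

/-- Second component of the structural isomorphism. -/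
def θ₂ (Z : (P H).obj) : (h₂ H).toFunctor.obj Z.obj.fst ≅ Z.obj.snd :=
  (FibCat.fpSnd g g).toFunctor.mapIso Z.obj.iso

theorem θ₁_isHomLift (Z : (P H).obj) : 𝒴.p.IsHomLift (𝟙 (𝒲.p.obj Z.obj.fst)) (θ₁ H Z).hom := by
  have hZ : (FibCat.fp g g).p.IsHomLift (𝟙 (𝒲.p.obj Z.obj.fst)) Z.obj.iso.hom := Z.property
  exact BasedFunctor.preserves_isHomLift (FibCat.fpFst _ _) _ Z.obj.iso.hom

theorem θ₂_isHomLift (Z : (P H).obj) : 𝒴.p.IsHomLift (𝟙 (𝒲.p.obj Z.obj.fst)) (θ₂ H Z).hom := by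
  have hZ : (FibCat.fp g g).p.IsHomLift (𝟙 (𝒲.p.obj Z.obj.fst)) Z.obj.iso.hom := Z.property
  exact BasedFunctor.preserves_isHomLift (FibCat.fpSnd _ _) _ Z.obj.iso.hom

/-- The isomorphism between the two components. -/
def fZ (Z : (P H).obj) : (h₁ H).toFunctor.obj Z.obj.fst ≅ (h₂ H).toFunctor.obj Z.obj.fst :=
  θ₁ H Z ≪≫ (θ₂ H Z).symm

theorem fZ_isHomLift (Z : (P H).obj) : 𝒴.p.IsHomLift (𝟙 (𝒲.p.obj Z.obj.fst)) (fZ H Z).hom := by
  have h1 := θ₁_isHomLift H Z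
  have h2 := θ₂_isHomLift H Z
  have h3 : 𝒴.p.IsHomLift (𝟙 (𝒲.p.obj Z.obj.fst)) (θ₂ H Z).inv := IsHomLift.lift_id_inv _ _ _
  change 𝒴.p.IsHomLift _ ((θ₁ H Z).hom ≫ (θ₂ H Z).inv)
  infer_instance

/-- The structural relation between the two components. -/
theorem g_θ (Z : (P H).obj) :
    g.toFunctor.map (θ₁ H Z).hom = (H.obj Z.obj.fst).obj.iso.hom ≫ g.toFunctor.map (θ₂ H Z).hom := by
  have h := Z.obj.iso.hom.hom.w
  exact (Category.comp_id _).symm.trans h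

/-- The image of the comparison isomorphism is the structural isomorphism of the image. -/
theorem g_fZ (Z : (P H).obj) :
    g.toFunctor.map (fZ H Z).hom = (H.obj Z.obj.fst).obj.iso.hom := by
  have h := g_θ H Z
  have h2 : g.toFunctor.map (fZ H Z).hom =
      g.toFunctor.map (θ₁ H Z).hom ≫ g.toFunctor.map (θ₂ H Z).inv := g.toFunctor.map_comp _ _
  have h3 : g.toFunctor.map (θ₂ H Z).hom ≫ g.toFunctor.map (θ₂ H Z).inv = 𝟙 _ := by
    rw [← Functor.map_comp, Iso.hom_inv_id, CategoryTheory.Functor.map_id]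
  rw [h2, h]
  exact (Category.assoc _ _ _).trans ((congrArg (fun k => _ ≫ k) h3).trans (Category.comp_id _))

theorem hom_w₁ {Z Z' : (P H).obj} (m : Z ⟶ Z') :
    (h₁ H).toFunctor.map m.hom.fst ≫ (θ₁ H Z').hom = (θ₁ H Z).hom ≫ m.hom.snd :=
  congrArg (fun t => t.hom.fst) m.hom.w

theorem hom_w₂ {Z Z' : (P H).obj} (m : Z ⟶ Z') :
    (h₂ H).toFunctor.map m.hom.fst ≫ (θ₂ H Z').hom = (θ₂ H Z).hom ≫ m.hom.snd :=
  congrArg (fun t => t.hom.snd) m.hom.w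

/-- The compatibility satisfied by the first component of a morphism. -/
theorem hom_compat {Z Z' : (P H).obj} (m : Z ⟶ Z') :
    (h₁ H).toFunctor.map m.hom.fst ≫ (fZ H Z').hom = (fZ H Z).hom ≫ (h₂ H).toFunctor.map m.hom.fst := by
  have e1 := hom_w₁ H m
  have e2 := hom_w₂ H m
  change _ ≫ (θ₁ H Z').hom ≫ (θ₂ H Z').inv = ((θ₁ H Z).hom ≫ (θ₂ H Z).inv) ≫ _
  rw [← Category.assoc, e1, Category.assoc, Category.assoc]
  congr 1
  rw [Iso.eq_inv_comp, ← Category.assoc, ← e2, Category.assoc, Iso.hom_inv_id, Category.comp_id]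

/-- A morphism is determined by its first component. -/
theorem hom_ext_fst {Z Z' : (P H).obj} (m m' : Z ⟶ Z') (h : m.hom.fst = m'.hom.fst) : m = m' := by
  apply ObjectProperty.hom_ext
  apply CategoricalPullback.hom_ext h
  have e1 := hom_w₁ H m
  have e2 := hom_w₁ H m'
  rw [h] at e1
  have : (θ₁ H Z).hom ≫ m.hom.snd = (θ₁ H Z).hom ≫ m'.hom.snd := e1.symm.trans e2
  exact (cancel_epi _).1 this

/-- Constructor for morphisms from a compatible first component. -/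
theorem exists_hom_of_compat {Z Z' : (P H).obj} (γ : Z.obj.fst ⟶ Z'.obj.fst)
    (hγ : (h₁ H).toFunctor.map γ ≫ (fZ H Z').hom = (fZ H Z).hom ≫ (h₂ H).toFunctor.map γ) :
    ∃ m : Z ⟶ Z', m.hom.fst = γ := by
  let σ : Z.obj.snd ⟶ Z'.obj.snd := (θ₁ H Z).inv ≫ (h₁ H).toFunctor.map γ ≫ (θ₁ H Z').hom
  have e1 : (h₁ H).toFunctor.map γ ≫ (θ₁ H Z').hom = (θ₁ H Z).hom ≫ σ := by
    simp [σ]
  have e2 : (h₂ H).toFunctor.map γ ≫ (θ₂ H Z').hom = (θ₂ H Z).hom ≫ σ := by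
    have hγ' : (h₁ H).toFunctor.map γ ≫ (θ₁ H Z').hom ≫ (θ₂ H Z').inv =
        ((θ₁ H Z).hom ≫ (θ₂ H Z).inv) ≫ (h₂ H).toFunctor.map γ := hγ
    have : (θ₁ H Z).hom ≫ (θ₂ H Z).inv ≫ (h₂ H).toFunctor.map γ ≫ (θ₂ H Z').hom =
        (θ₁ H Z).hom ≫ σ := by
      rw [← e1, ← Category.assoc, ← Category.assoc, ← hγ']
      simp
    have h2 := (cancel_epi _).1 this
    rw [← h2, Iso.hom_inv_id_assoc]
  refine ⟨ObjectProperty.homMk ⟨γ, σ, ?_⟩, rfl⟩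
  apply ObjectProperty.hom_ext
  apply CategoricalPullback.hom_ext
  · exact e1
  · exact e2

/-- Constructor for objects of the fibre product with the relative diagonal. -/
def mkObj (c : 𝒲.obj) (s : 𝒴.obj) (t₁ : (h₁ H).toFunctor.obj c ≅ s) (t₂ : (h₂ H).toFunctor.obj c ≅ s)
    (ht₁ : 𝒴.p.IsHomLift (𝟙 (𝒲.p.obj c)) t₁.hom)
    (hc : g.toFunctor.map t₁.hom = (H.obj c).obj.iso.hom ≫ g.toFunctor.map t₂.hom) :
    (P H).obj :=
  ⟨{ fst := c
     snd := s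
     iso := ObjectProperty.isoMk _ (CategoricalPullback.mkIso t₁ t₂
       ((Category.comp_id _).trans hc)) },
    by
      change (FibCat.fp g g).p.IsHomLift (𝟙 (𝒲.p.obj c)) _
      exact (isHomLift_comp_iff ((FibCat.fpProp g g).ι ⋙
        CategoricalPullback.π₁ g.toFunctor g.toFunctor) 𝒴.p _ _).2 ht₁⟩

@[simp] theorem mkObj_fst (c : 𝒲.obj) (s : 𝒴.obj) (t₁ : (h₁ H).toFunctor.obj c ≅ s)
    (t₂ : (h₂ H).toFunctor.obj c ≅ s) (ht₁ hc) : (mkObj H c s t₁ t₂ ht₁ hc).obj.fst = c := rfl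

theorem mkObj_θ₁ (c : 𝒲.obj) (s : 𝒴.obj) (t₁ : (h₁ H).toFunctor.obj c ≅ s)
    (t₂ : (h₂ H).toFunctor.obj c ≅ s) (ht₁ hc) :
    (θ₁ H (mkObj H c s t₁ t₂ ht₁ hc)).hom = t₁.hom := rfl

theorem mkObj_θ₂ (c : 𝒲.obj) (s : 𝒴.obj) (t₁ : (h₁ H).toFunctor.obj c ≅ s)
    (t₂ : (h₂ H).toFunctor.obj c ≅ s) (ht₁ hc) :
    (θ₂ H (mkObj H c s t₁ t₂ ht₁ hc)).hom = t₂.hom := rfl

theorem mkObj_fZ (c : 𝒲.obj) (s : 𝒴.obj) (t₁ : (h₁ H).toFunctor.obj c ≅ s)
    (t₂ : (h₂ H).toFunctor.obj c ≅ s) (ht₁ hc) :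
    (fZ H (mkObj H c s t₁ t₂ ht₁ hc)).hom = t₁.hom ≫ t₂.inv := rfl

end Dict

end Groth.Agent.Helper2.FibCatLib.RelDiag
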