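import Mathlib
import Groth.Prelude.Def_FibCat2
import Groth.Agent.Lib.Helper2.FibCat.RelDiag
import Groth.Agent.Lib.Helper2.FibCat.FpMap
import Groth.Agent.Lib.Helper2.EquivOver

/-!
# The diagonal of a base change is a base change of the diagonal (helper2)

For `f : 𝒳 ⟶ 𝒴`, `g : 𝒴' ⟶ 𝒴`, `𝒳' = 𝒴' ×_𝒴 𝒳` and `f' : 𝒳' ⟶ 𝒴'` the first projection, the square
formed by the diagonals of `f'` and `f` is 2-cartesian.
-/

set_option autoImplicit false
open CategoryTheory CategoryTheory.Functor CategoryTheory.Limits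

universe v₆ u₆ v₅ u₅ v₄ u₄ v₃ u₃ v₂ u₂ v u

namespace Groth.Agent.Helper2.FibCatLib.DiagBC

open Groth.Agent.Helper2.FibCatLib.RelDiag Groth.Agent.Helper2.StkLib
open Groth.Agent.Helper2.FibCatLib

variable {C : Type u} [Category.{v} C]
variable {𝒳 : BasedCategory.{v₂, u₂} C} {𝒴 : BasedCategory.{v₃, u₃} C}
  {𝒴' : BasedCategory.{v₄, u₄} C}
variable (f : 𝒳 ⥤ᵇ 𝒴) (g : 𝒴' ⥤ᵇ 𝒴)

/-- The base change of `f`. -/
abbrev f' : FibCat.fp g f ⥤ᵇ 𝒴' := FibCat.fpFst g f

/-- The projection to `𝒳`. -/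
abbrev q : FibCat.fp g f ⥤ᵇ 𝒳 := FibCat.fpSnd g f

/-- The structural natural isomorphism of the fibre product, as a plain natural isomorphism. -/
def eIso : (f' f g).toFunctor ⋙ g.toFunctor ≅ (q f g).toFunctor ⋙ f.toFunctor :=
  (BasedNatTrans.forgetful _ _).mapIso (FibCat.fpIso g f)

theorem eIso_hom_app (w : (FibCat.fp g f).obj) : (eIso f g).hom.app w = w.obj.iso.hom := rfl

theorem eIso_isHomLift (w : (FibCat.fp g f).obj) :
    𝒴.p.IsHomLift (𝟙 ((FibCat.fp g f).p.obj w)) ((eIso f g).hom.app w) := w.property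

/-- The functor `𝒳' ×_{𝒴'} 𝒳' ⟶ 𝒳 ×_𝒴 𝒳`. -/
def K : FibCat.fp (f' f g) (f' f g) ⥤ᵇ FibCat.fp f f :=
  FpMap.fpMap (f' f g) (f' f g) f f (q f g) (q f g) g (eIso f g) (eIso f g)
    (eIso_isHomLift f g) (eIso_isHomLift f g)

theorem K_iso_hom (Z : (FibCat.fp (f' f g) (f' f g)).obj) :
    ((K f g).obj Z).obj.iso.hom =
      Z.obj.fst.obj.iso.inv ≫ g.map Z.obj.iso.hom ≫ Z.obj.snd.obj.iso.hom := rfl

theorem compat_aux (w : (FibCat.fp g f).obj) :
    f.toFunctor.map (𝟙 w.obj.snd) =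
      (w.obj.iso.inv ≫ g.map (𝟙 w.obj.fst) ≫ w.obj.iso.hom) ≫ f.toFunctor.map (𝟙 w.obj.snd) := by
  rw [show g.map (𝟙 w.obj.fst) = 𝟙 _ from g.toFunctor.map_id _, Category.id_comp, Iso.inv_hom_id,
    Category.id_comp]

/-- The comparison on objects. -/
def ΨObj (w : (FibCat.fp g f).obj) : (P (K f g)).obj :=
  mkObj (K f g) ((FibCat.diag (f' f g)).obj w) w.obj.snd (Iso.refl _) (Iso.refl _)
    (IsHomLift.id (fp_snd_proj g f w)) (compat_aux f g w)

/-- The comparison on morphisms. -/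
def ΨMap {w w' : (FibCat.fp g f).obj} (m : w ⟶ w') : ΨObj f g w ⟶ ΨObj f g w' :=
  ObjectProperty.homMk
    { fst := (FibCat.diag (f' f g)).map m
      snd := m.hom.snd
      w := by
        apply ObjectProperty.hom_ext
        apply CategoricalPullback.hom_ext
        · change m.hom.snd ≫ 𝟙 _ = 𝟙 _ ≫ m.hom.snd
          rw [Category.comp_id, Category.id_comp]
        · change m.hom.snd ≫ 𝟙 _ = 𝟙 _ ≫ m.hom.snd
          rw [Category.comp_id, Category.id_comp] }

/-- The comparison functor. -/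
def Ψ' : (FibCat.fp g f).obj ⥤ (P (K f g)).obj where
  obj := ΨObj f g
  map m := ΨMap f g m
  map_id w := by
    apply hom_ext_fst
    exact (FibCat.diag (f' f g)).toFunctor.map_id w
  map_comp m m' := by
    apply hom_ext_fst
    exact (FibCat.diag (f' f g)).toFunctor.map_comp m m'

/-- The comparison functor as a functor over the base. -/
def Ψ : FibCat.fp g f ⥤ᵇ P (K f g) where
  toFunctor := Ψ' f g
  w := rfl

/-- The comparison functor followed by the first projection is the diagonal of the base change. -/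
theorem Ψ_fst : BasedFunctor.comp (Ψ f g) (FibCat.fpFst (K f g) (FibCat.diag f)) =
    FibCat.diag (f' f g) := rfl

instance Ψ'_faithful : (Ψ' f g).Faithful where
  map_injective {w w'} m m' h := by
    have h1 : (FibCat.diag (f' f g)).map m = (FibCat.diag (f' f g)).map m' :=
      congrArg (fun k => k.hom.fst) h
    exact congrArg (fun k => k.hom.fst) h1

instance Ψ'_full : (Ψ' f g).Full where
  map_surjective {w w'} n := by
    have e1 := hom_w₁ (K f g) n
    have e2 := hom_w₂ (K f g) n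
    have e1' : n.hom.fst.hom.fst.hom.snd = n.hom.snd := by
      have : n.hom.fst.hom.fst.hom.snd ≫ 𝟙 _ = 𝟙 _ ≫ n.hom.snd := e1
      rwa [Category.comp_id, Category.id_comp] at this
    have e2' : n.hom.fst.hom.snd.hom.snd = n.hom.snd := by
      have : n.hom.fst.hom.snd.hom.snd ≫ 𝟙 _ = 𝟙 _ ≫ n.hom.snd := e2
      rwa [Category.comp_id, Category.id_comp] at this
    have e3 : n.hom.fst.hom.fst.hom.fst = n.hom.fst.hom.snd.hom.fst := by
      have : n.hom.fst.hom.fst.hom.fst ≫ 𝟙 _ = 𝟙 _ ≫ n.hom.fst.hom.snd.hom.fst := n.hom.fst.hom.w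
      rwa [Category.comp_id, Category.id_comp] at this
    have e4 : n.hom.fst.hom.fst = n.hom.fst.hom.snd := by
      apply ObjectProperty.hom_ext
      apply CategoricalPullback.hom_ext
      · exact e3
      · exact e1'.trans e2'.symm
    refine ⟨n.hom.fst.hom.fst, ?_⟩
    apply hom_ext_fst
    apply ObjectProperty.hom_ext
    apply CategoricalPullback.hom_ext
    · rfl
    · exact e4

theorem Ψ_exists_iso (Y : (P (K f g)).obj) :
    ∃ (w : (FibCat.fp g f).obj) (e : (Ψ f g).toFunctor.obj w ≅ Y),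
      (P (K f g)).p.IsHomLift (𝟙 ((P (K f g)).p.obj Y)) e.hom := by
  let c : (FibCat.fp (f' f g) (f' f g)).obj := Y.obj.fst
  let w₁ : (FibCat.fp g f).obj := c.obj.fst
  let w₂ : (FibCat.fp g f).obj := c.obj.snd
  let κ : w₁.obj.fst ≅ w₂.obj.fst := c.obj.iso
  let R : C := 𝒴'.p.obj w₁.obj.fst
  have hκ : 𝒴'.p.IsHomLift (𝟙 R) κ.hom := c.property
  let φ : w₁.obj.snd ≅ w₂.obj.snd := fZ (K f g) Y
  have hφ : 𝒳.p.IsHomLift (𝟙 R) φ.hom := fZ_isHomLift (K f g) Y
  have hfφ : f.toFunctor.map φ.hom = w₁.obj.iso.inv ≫ g.map κ.hom ≫ w₂.obj.iso.hom :=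
    g_fZ (K f g) Y
  -- the isomorphism `w₁ ≅ w₂`
  let ε : w₁ ≅ w₂ := ObjectProperty.isoMk _ (CategoricalPullback.mkIso κ φ (by
    change g.map κ.hom ≫ w₂.obj.iso.hom = w₁.obj.iso.hom ≫ f.toFunctor.map φ.hom
    rw [hfφ, Iso.hom_inv_id_assoc]))
  have hε : (FibCat.fp g f).p.IsHomLift (𝟙 R) ε.hom := by
    apply fp_isHomLift_of_fst
    exact hκ
  let isoC : (FibCat.diag (f' f g)).obj w₁ ≅ c :=
    ObjectProperty.isoMk _ (CategoricalPullback.mkIso (Iso.refl w₁) ε (by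
      change (f' f g).map (𝟙 w₁) ≫ κ.hom = 𝟙 _ ≫ (f' f g).map ε.hom
      rw [show (f' f g).map (𝟙 w₁) = 𝟙 _ from (f' f g).toFunctor.map_id w₁, Category.id_comp,
        Category.id_comp]
      rfl))
  refine ⟨w₁, ObjectProperty.isoMk _ (CategoricalPullback.mkIso isoC (θ₁ (K f g) Y) ?_), ?_⟩
  · apply ObjectProperty.hom_ext
    apply CategoricalPullback.hom_ext
    · change (q f g).map (𝟙 w₁) ≫ (θ₁ (K f g) Y).hom = 𝟙 _ ≫ (θ₁ (K f g) Y).hom
      rw [show (q f g).map (𝟙 w₁) = 𝟙 _ from (q f g).toFunctor.map_id w₁]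
      rfl
    · change ((θ₁ (K f g) Y).hom ≫ (θ₂ (K f g) Y).inv) ≫ (θ₂ (K f g) Y).hom =
        𝟙 _ ≫ (θ₁ (K f g) Y).hom
      rw [Category.assoc, Iso.inv_hom_id, Category.comp_id, Category.id_comp]
  · apply fp_isHomLift_of_fst
    apply fp_isHomLift_of_fst
    exact IsHomLift.id (p := (FibCat.fp g f).p) rfl

/-- The square of diagonals is 2-cartesian. -/
theorem Ψ_isEquivOver : FibCat.IsEquivOver (Ψ f g) := by
  have h1 : (Ψ f g).toFunctor.Full := inferInstanceAs (Ψ' f g).Full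
  have h2 : (Ψ f g).toFunctor.Faithful := inferInstanceAs (Ψ' f g).Faithful
  exact isEquivOver_of_fullyFaithful_of_exists_iso _ (Ψ_exists_iso f g)

omit [Category.{v} C] in
theorem liftK_aux {𝒟 : Type u₂} [Category.{v₂} 𝒟] {A B D : 𝒟} (ti : B ⟶ A) (th : A ⟶ B)
    (h : ti ≫ th = 𝟙 B) (α : B ⟶ D) (i1 : B ⟶ B) (hi1 : i1 = 𝟙 B) (g1 : A ⟶ A) (hg1 : g1 = 𝟙 A)
    (i2 : D ⟶ D) (hi2 : i2 = 𝟙 D) : i1 ≫ α = (ti ≫ g1 ≫ (th ≫ α)) ≫ i2 := by
  subst hi1 hg1 hi2
  rw [Category.id_comp, Category.id_comp, Category.comp_id, ← Category.assoc, h, Category.id_comp]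

section Lift

variable {𝒱 : BasedCategory.{v₅, u₅} C} (Y : 𝒱 ⥤ᵇ FibCat.fp f f) (z : 𝒱 ⥤ᵇ 𝒴')
  (θ : BasedFunctor.comp z g ≅
    BasedFunctor.comp (BasedFunctor.comp Y (FibCat.fpFst f f)) f)

/-- First component of the lift. -/
def liftA₁ : 𝒱 ⥤ᵇ FibCat.fp g f :=
  FibCat.fpLift z (BasedFunctor.comp Y (FibCat.fpFst f f)) θ

/-- Second component of the lift. -/
def liftA₂ : 𝒱 ⥤ᵇ FibCat.fp g f :=
  FibCat.fpLift z (BasedFunctor.comp Y (FibCat.fpSnd f f))
    (θ ≪≫ Groth.Agent.Helper2.whiskerLeftIso Y (FibCat.fpIso f f))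

/-- The lift of a functor to `𝒳 ×_𝒴 𝒳` through `K`, given a lift of its image in `𝒴`. -/
def liftK : 𝒱 ⥤ᵇ FibCat.fp (f' f g) (f' f g) :=
  FibCat.fpLift (liftA₁ f g Y z θ) (liftA₂ f g Y z θ) (Iso.refl _)

/-- The lift followed by `K` is the given functor. -/
def liftKIso : BasedFunctor.comp (liftK f g Y z θ) (K f g) ≅ Y :=
  BasedNatIso.mkNatIso
    (NatIso.ofComponents
      (fun v => ObjectProperty.isoMk _ (CategoricalPullback.mkIso (Iso.refl _) (Iso.refl _) 
        (liftK_aux (θ.inv.toNatTrans.app v) (θ.hom.toNatTrans.app v)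
          (congrArg (fun t => t.toNatTrans.app v) θ.inv_hom_id) (Y.obj v).obj.iso.hom _
          (f.toFunctor.map_id _) _ (g.toFunctor.map_id _) _ (f.toFunctor.map_id _))))
      (by
        intro v v' φ
        apply ObjectProperty.hom_ext
        apply CategoricalPullback.hom_ext
        · exact (Category.comp_id _).trans (Category.id_comp _).symm
        · exact (Category.comp_id _).trans (Category.id_comp _).symm))
    (by
      intro v
      apply fp_isHomLift_of_fst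
      exact IsHomLift.id (p := 𝒳.p) ((BasedFunctor.comp Y (FibCat.fpFst f f)).w_obj v))

end Lift

end Groth.Agent.Helper2.FibCatLib.DiagBC
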