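import Mathlib
import Groth.Prelude.Def_FibCat2
import Groth.Agent.Lib.Helper2.FibCat.EquivCrit
import Groth.Agent.Lib.Helper2.Stk.LocAut

/-!
# The graph equivalence `𝒳 ≃ 𝒳 ×_𝒴 𝒴` (helper2)
-/

set_option autoImplicit false
open CategoryTheory CategoryTheory.Functor CategoryTheory.Limits

universe v₃ u₃ v₂ u₂ v u

namespace Groth.Agent.Helper2.FibCatLib.FpId

open Groth.Agent.Helper2.StkLib Groth.Agent.Helper2.FibCatLib

variable {C : Type u} [Category.{v} C]
variable {𝒳 : BasedCategory.{v₂, u₂} C} {𝒴 : BasedCategory.{v₃, u₃} C}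
variable (f : 𝒳 ⥤ᵇ 𝒴)

/-- The graph functor `𝒳 ⟶ 𝒳 ×_𝒴 𝒴`, `x ↦ (x, f x, 𝟙)`. -/
def graphE : 𝒳 ⥤ᵇ FibCat.fp f (BasedFunctor.id 𝒴) :=
  FibCat.fpLift (BasedFunctor.id 𝒳) f (Iso.refl _)

theorem graphE_fst : BasedFunctor.comp (graphE f) (FibCat.fpFst f (BasedFunctor.id 𝒴)) =
    BasedFunctor.id 𝒳 := rfl

theorem graphE_snd : BasedFunctor.comp (graphE f) (FibCat.fpSnd f (BasedFunctor.id 𝒴)) = f := rfl

instance graphE_faithful : (graphE f).toFunctor.Faithful where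
  map_injective {x x'} m m' h := congrArg (fun k => k.hom.fst) h

instance graphE_full : (graphE f).toFunctor.Full where
  map_surjective {x x'} n := by
    refine ⟨n.hom.fst, ?_⟩
    apply ObjectProperty.hom_ext
    apply CategoricalPullback.hom_ext
    · rfl
    · have hw : f.map n.hom.fst ≫ 𝟙 _ = 𝟙 _ ≫ n.hom.snd := n.hom.w
      rw [Category.comp_id, Category.id_comp] at hw
      exact hw

theorem graphE_exists_iso (Y : (FibCat.fp f (BasedFunctor.id 𝒴)).obj) :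
    ∃ (x : 𝒳.obj) (e : (graphE f).toFunctor.obj x ≅ Y),
      (FibCat.fp f (BasedFunctor.id 𝒴)).p.IsHomLift
        (𝟙 ((FibCat.fp f (BasedFunctor.id 𝒴)).p.obj Y)) e.hom := by
  refine ⟨Y.obj.fst, ObjectProperty.isoMk _
    (CategoricalPullback.mkIso (Iso.refl _) Y.obj.iso ?_), ?_⟩
  · change f.map (𝟙 _) ≫ Y.obj.iso.hom = 𝟙 _ ≫ Y.obj.iso.hom
    rw [show f.map (𝟙 Y.obj.fst) = 𝟙 _ from f.toFunctor.map_id _]
  · apply fp_isHomLift_of_fst
    exact IsHomLift.id (p := 𝒳.p) rfl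

/-- The graph functor is an equivalence over the base. -/
theorem graphE_isEquivOver : FibCat.IsEquivOver (graphE f) :=
  isEquivOver_of_fullyFaithful_of_exists_iso _ (graphE_exists_iso f)

end Groth.Agent.Helper2.FibCatLib.FpId
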