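import Mathlib
import Groth.Prelude.Def_FibCat2
import Groth.Agent.Lib.Helper2.FibCat.RelDiag

/-!
# The magic square: `𝒜 ×_𝒴 ℬ ⟶ 𝒜 ×_𝒵 ℬ` is a base change of the diagonal of `𝒴 ⟶ 𝒵` (helper2)
-/

set_option autoImplicit false
open CategoryTheory CategoryTheory.Functor CategoryTheory.Limits

universe v₆ u₆ v₅ u₅ v₄ u₄ v₃ u₃ v₂ u₂ v u

namespace Groth.Agent.Helper2.FibCatLib.Magic

open Groth.Agent.Helper2.FibCatLib.RelDiag Groth.Agent.Helper2.StkLib
open Groth.Agent.Helper2.FibCatLib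

variable {C : Type u} [Category.{v} C]
variable {𝒜 : BasedCategory.{v₅, u₅} C} {ℬ : BasedCategory.{v₆, u₆} C}
  {𝒴 : BasedCategory.{v₂, u₂} C} {𝒵 : BasedCategory.{v₄, u₄} C}
variable (a : 𝒜 ⥤ᵇ 𝒴) (b : ℬ ⥤ᵇ 𝒴) (g : 𝒴 ⥤ᵇ 𝒵)

/-- The canonical functor `𝒜 ×_𝒴 ℬ ⟶ 𝒜 ×_𝒵 ℬ`. -/
def canon : FibCat.fp a b ⥤ᵇ FibCat.fp (BasedFunctor.comp a g) (BasedFunctor.comp b g) where
  toFunctor :=
    { obj := fun Z => fpMkObj (BasedFunctor.comp a g) (BasedFunctor.comp b g) Z.obj.fst Z.obj.snd
        (g.toFunctor.mapIso Z.obj.iso) (by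
          have hZ : 𝒴.p.IsHomLift (𝟙 (𝒜.p.obj Z.obj.fst)) Z.obj.iso.hom := Z.property
          change 𝒵.p.IsHomLift (𝟙 (𝒜.p.obj Z.obj.fst)) (g.map Z.obj.iso.hom)
          infer_instance)
      map := fun {Z Z'} m => fpMkHom (BasedFunctor.comp a g) (BasedFunctor.comp b g)
        m.hom.fst m.hom.snd
        ((g.toFunctor.map_comp _ _).symm.trans
          ((congrArg (fun k => g.toFunctor.map k) m.hom.w).trans (g.toFunctor.map_comp _ _)))
      map_id := fun Z => by
        apply ObjectProperty.hom_ext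
        apply CategoricalPullback.hom_ext <;> rfl
      map_comp := fun m m' => by
        apply ObjectProperty.hom_ext
        apply CategoricalPullback.hom_ext <;> rfl }
  w := rfl

/-- The functor `𝒜 ×_𝒵 ℬ ⟶ 𝒴 ×_𝒵 𝒴`. -/
def Hc : FibCat.fp (BasedFunctor.comp a g) (BasedFunctor.comp b g) ⥤ᵇ FibCat.fp g g where
  toFunctor :=
    { obj := fun Z => fpMkObj g g (a.obj Z.obj.fst) (b.obj Z.obj.snd) Z.obj.iso (by
        have hZ : 𝒵.p.IsHomLift (𝟙 (𝒜.p.obj Z.obj.fst)) Z.obj.iso.hom := Z.property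
        exact isHomLift_id_cast 𝒵.p (a.w_obj Z.obj.fst).symm _ hZ)
      map := fun {Z Z'} m => fpMkHom g g (a.map m.hom.fst) (b.map m.hom.snd) m.hom.w
      map_id := fun Z => by
        apply ObjectProperty.hom_ext
        apply CategoricalPullback.hom_ext
        · exact a.toFunctor.map_id _
        · exact b.toFunctor.map_id _
      map_comp := fun m m' => by
        apply ObjectProperty.hom_ext
        apply CategoricalPullback.hom_ext
        · exact a.toFunctor.map_comp _ _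
        · exact b.toFunctor.map_comp _ _ }
  w := congrArg (fun k => (FibCat.fpFst _ _).toFunctor ⋙ k) a.w

/-- The comparison on objects. -/
def ΨObj (Z : (FibCat.fp a b).obj) : (P (Hc a b g)).obj :=
  mkObj (Hc a b g) ((canon a b g).obj Z) (b.obj Z.obj.snd) Z.obj.iso (Iso.refl _) Z.property
    ((congrArg (fun k => g.toFunctor.map Z.obj.iso.hom ≫ k) (g.toFunctor.map_id _)).trans
      (Category.comp_id _)).symm

/-- The comparison on morphisms. -/
def ΨMap {Z Z' : (FibCat.fp a b).obj} (m : Z ⟶ Z') : ΨObj a b g Z ⟶ ΨObj a b g Z' :=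
  ObjectProperty.homMk
    { fst := (canon a b g).map m
      snd := b.map m.hom.snd
      w := by
        apply ObjectProperty.hom_ext
        apply CategoricalPullback.hom_ext
        · exact m.hom.w
        · change b.map m.hom.snd ≫ 𝟙 _ = 𝟙 _ ≫ b.map m.hom.snd
          rw [Category.comp_id, Category.id_comp] }

/-- The comparison functor. -/
def Ψ' : (FibCat.fp a b).obj ⥤ (P (Hc a b g)).obj where
  obj := ΨObj a b g
  map m := ΨMap a b g m
  map_id Z := by
    apply hom_ext_fst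
    rfl
  map_comp m m' := by
    apply hom_ext_fst
    rfl

/-- The comparison functor as a functor over the base. -/
def Ψ : FibCat.fp a b ⥤ᵇ P (Hc a b g) where
  toFunctor := Ψ' a b g
  w := rfl

/-- The comparison functor followed by the first projection is the canonical functor. -/
theorem Ψ_fst : BasedFunctor.comp (Ψ a b g) (FibCat.fpFst (Hc a b g) (FibCat.diag g)) =
    canon a b g := rfl

instance Ψ'_faithful : (Ψ' a b g).Faithful where
  map_injective {Z Z'} m m' h := by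
    have h1 : (canon a b g).map m = (canon a b g).map m' := congrArg (fun k => k.hom.fst) h
    apply ObjectProperty.hom_ext
    apply CategoricalPullback.hom_ext
    · exact congrArg (fun k => k.hom.fst) h1
    · exact congrArg (fun k => k.hom.snd) h1

instance Ψ'_full : (Ψ' a b g).Full where
  map_surjective {Z Z'} n := by
    have hw := hom_compat (Hc a b g) n
    have hw' : a.map n.hom.fst.hom.fst ≫ (Z'.obj.iso.hom ≫ 𝟙 _) =
        (Z.obj.iso.hom ≫ 𝟙 _) ≫ b.map n.hom.fst.hom.snd := hw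
    rw [Category.comp_id, Category.comp_id] at hw'
    refine ⟨fpMkHom a b n.hom.fst.hom.fst n.hom.fst.hom.snd hw', ?_⟩
    apply hom_ext_fst
    apply ObjectProperty.hom_ext
    apply CategoricalPullback.hom_ext <;> rfl

theorem Ψ_exists_iso (Y : (P (Hc a b g)).obj) :
    ∃ (Z : (FibCat.fp a b).obj) (e : (Ψ a b g).toFunctor.obj Z ≅ Y),
      (P (Hc a b g)).p.IsHomLift (𝟙 ((P (Hc a b g)).p.obj Y)) e.hom := by
  let c : (FibCat.fp (BasedFunctor.comp a g) (BasedFunctor.comp b g)).obj := Y.obj.fst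
  let x : 𝒜.obj := c.obj.fst
  let y : ℬ.obj := c.obj.snd
  let φ : a.obj x ≅ b.obj y := fZ (Hc a b g) Y
  have hφ : 𝒴.p.IsHomLift (𝟙 (𝒜.p.obj x)) φ.hom := fZ_isHomLift (Hc a b g) Y
  have hgφ : g.toFunctor.map φ.hom = c.obj.iso.hom := g_fZ (Hc a b g) Y
  let Z₀ : (FibCat.fp a b).obj := fpMkObj a b x y φ hφ
  let isoC : (canon a b g).obj Z₀ ≅ c :=
    ObjectProperty.isoMk _ (CategoricalPullback.mkIso (Iso.refl x) (Iso.refl y) (by
      change g.map (a.map (𝟙 x)) ≫ c.obj.iso.hom = g.toFunctor.map φ.hom ≫ g.map (b.map (𝟙 y))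
      rw [hgφ]
      have e1 : g.map (a.map (𝟙 x)) = 𝟙 _ := by
        rw [show a.map (𝟙 x) = 𝟙 _ from a.toFunctor.map_id x]
        exact g.toFunctor.map_id _
      have e2 : g.map (b.map (𝟙 y)) = 𝟙 _ := by
        rw [show b.map (𝟙 y) = 𝟙 _ from b.toFunctor.map_id y]
        exact g.toFunctor.map_id _
      rw [e1, e2, Category.id_comp, Category.comp_id]))
  refine ⟨Z₀, ObjectProperty.isoMk _ (CategoricalPullback.mkIso isoC (θ₂ (Hc a b g) Y) ?_), ?_⟩
  · apply ObjectProperty.hom_ext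
    apply CategoricalPullback.hom_ext
    · change a.map (𝟙 x) ≫ (θ₁ (Hc a b g) Y).hom =
        ((θ₁ (Hc a b g) Y).hom ≫ (θ₂ (Hc a b g) Y).inv) ≫ (θ₂ (Hc a b g) Y).hom
      rw [show a.map (𝟙 x) = 𝟙 _ from a.toFunctor.map_id x, Category.id_comp, Category.assoc,
        Iso.inv_hom_id, Category.comp_id]
    · change b.map (𝟙 y) ≫ (θ₂ (Hc a b g) Y).hom = 𝟙 _ ≫ (θ₂ (Hc a b g) Y).hom
      rw [show b.map (𝟙 y) = 𝟙 _ from b.toFunctor.map_id y]
      rfl
  · apply fp_isHomLift_of_fst
    apply fp_isHomLift_of_fst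
    exact IsHomLift.id (p := 𝒜.p) rfl

/-- The magic square is 2-cartesian. -/
theorem Ψ_isEquivOver : FibCat.IsEquivOver (Ψ a b g) := by
  have h1 : (Ψ a b g).toFunctor.Full := inferInstanceAs (Ψ' a b g).Full
  have h2 : (Ψ a b g).toFunctor.Faithful := inferInstanceAs (Ψ' a b g).Faithful
  exact isEquivOver_of_fullyFaithful_of_exists_iso _ (Ψ_exists_iso a b g)

/-- The diagonal of a composite factors through the diagonal of the first functor followed by the
canonical functor. -/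
def diagCompIso {𝒳 : BasedCategory.{v₃, u₃} C} (f : 𝒳 ⥤ᵇ 𝒴) (g : 𝒴 ⥤ᵇ 𝒵) :
    FibCat.diag (BasedFunctor.comp f g) ≅ BasedFunctor.comp (FibCat.diag f) (canon f f g) :=
  BasedNatIso.mkNatIso
    (NatIso.ofComponents
      (fun x => ObjectProperty.isoMk _ (CategoricalPullback.mkIso (Iso.refl _) (Iso.refl _) (by
        change g.map (f.map (𝟙 x)) ≫ g.map (𝟙 (f.obj x)) = 𝟙 _ ≫ g.map (f.map (𝟙 x))
        rw [show g.map (𝟙 (f.obj x)) = 𝟙 _ from g.toFunctor.map_id _, Category.comp_id,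
          Category.id_comp])))
      (by
        intro x x' φ
        apply ObjectProperty.hom_ext
        apply CategoricalPullback.hom_ext
        · exact (Category.comp_id _).trans (Category.id_comp _).symm
        · exact (Category.comp_id _).trans (Category.id_comp _).symm))
    (by
      intro x
      apply fp_isHomLift_of_fst
      exact IsHomLift.id (p := 𝒳.p) rfl)

end Groth.Agent.Helper2.FibCatLib.Magic
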