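import Mathlib
import Groth.Prelude.Def_FibCat2
import Groth.Agent.Lib.Helper2.FibCat.RelDiag
import Groth.Agent.Lib.Helper2.EquivOver

/-!
# A section of `f` is a base change of the diagonal of `f` (helper2)
-/

set_option autoImplicit false
open CategoryTheory CategoryTheory.Functor CategoryTheory.Limits

universe v₃ u₃ v₂ u₂ v u

namespace Groth.Agent.Helper2.FibCatLib.Section

open Groth.Agent.Helper2.FibCatLib.RelDiag Groth.Agent.Helper2.StkLib
open Groth.Agent.Helper2.FibCatLib Groth.Agent.Helper2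

variable {C : Type u} [Category.{v} C]
variable {𝒳 : BasedCategory.{v₂, u₂} C} {𝒯 : BasedCategory.{v₃, u₃} C}
variable (f : 𝒳 ⥤ᵇ 𝒯) (s : 𝒯 ⥤ᵇ 𝒳) (e : BasedFunctor.comp s f ≅ BasedFunctor.id 𝒯)

/-- The components of the 2-isomorphism. -/
def eApp (t : 𝒯.obj) : f.obj (s.obj t) ≅ t := ((BasedNatTrans.forgetful _ _).mapIso e).app t

theorem eApp_isHomLift (t : 𝒯.obj) : 𝒯.p.IsHomLift (𝟙 (𝒯.p.obj t)) (eApp f s e t).hom :=
  e.hom.isHomLift' t

theorem eApp_naturality {t t' : 𝒯.obj} (τ : t ⟶ t') :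
    f.map (s.map τ) ≫ (eApp f s e t').hom = (eApp f s e t).hom ≫ τ :=
  e.hom.toNatTrans.naturality τ

theorem map_eApp (t : 𝒯.obj) :
    f.map (s.map (eApp f s e t).hom) = (eApp f s e (f.obj (s.obj t))).hom := by
  have h := eApp_naturality f s e (eApp f s e t).hom
  exact (cancel_mono (eApp f s e t).hom).1 h

/-- The functor `𝒳 ⟶ 𝒳 ×_𝒯 𝒳`, `x ↦ (x, s (f x))`. -/
def H : 𝒳 ⥤ᵇ FibCat.fp f f :=
  FibCat.fpLift (BasedFunctor.id 𝒳) (BasedFunctor.comp f s) (whiskerLeftIso f e).symm

theorem H_iso_hom (x : 𝒳.obj) : ((H f s e).obj x).obj.iso.hom = (eApp f s e (f.obj x)).inv := rfl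

theorem compat_aux (t : 𝒯.obj) :
    f.toFunctor.map (𝟙 (s.obj t)) =
      (eApp f s e (f.obj (s.obj t))).inv ≫ f.toFunctor.map (s.map (eApp f s e t).hom) := by
  have h := map_eApp f s e t
  rw [show f.toFunctor.map (s.map (eApp f s e t).hom) = _ from h, Iso.inv_hom_id]
  exact f.toFunctor.map_id _

/-- The comparison on objects. -/
def SgObj (t : 𝒯.obj) : (P (H f s e)).obj :=
  mkObj (H f s e) (s.obj t) (s.obj t) (Iso.refl _) (s.toFunctor.mapIso (eApp f s e t))
    (IsHomLift.id (p := 𝒳.p) rfl) (compat_aux f s e t)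

/-- The comparison on morphisms. -/
def SgMap {t t' : 𝒯.obj} (τ : t ⟶ t') : SgObj f s e t ⟶ SgObj f s e t' :=
  ObjectProperty.homMk
    { fst := s.map τ
      snd := s.map τ
      w := by
        apply ObjectProperty.hom_ext
        apply CategoricalPullback.hom_ext
        · change s.map τ ≫ 𝟙 _ = 𝟙 _ ≫ s.map τ
          rw [Category.comp_id, Category.id_comp]
        · change s.map (f.map (s.map τ)) ≫ s.map (eApp f s e t').hom =
            s.map (eApp f s e t).hom ≫ s.map τ
          rw [← s.toFunctor.map_comp, ← s.toFunctor.map_comp]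
          exact congrArg (fun k => s.toFunctor.map k) (eApp_naturality f s e τ) }

/-- The comparison functor. -/
def Sg' : 𝒯.obj ⥤ (P (H f s e)).obj where
  obj := SgObj f s e
  map τ := SgMap f s e τ
  map_id t := by
    apply hom_ext_fst
    exact s.toFunctor.map_id t
  map_comp τ τ' := by
    apply hom_ext_fst
    exact s.toFunctor.map_comp τ τ'

/-- The comparison functor as a functor over the base. -/
def Sg : 𝒯 ⥤ᵇ P (H f s e) where
  toFunctor := Sg' f s e
  w := s.w

/-- The comparison functor followed by the first projection is the section. -/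
theorem Sg_fst : BasedFunctor.comp (Sg f s e) (FibCat.fpFst (H f s e) (FibCat.diag f)) = s := rfl

include f e in
theorem eq_of_map_eq {t t' : 𝒯.obj} (τ τ' : t ⟶ t') (h : s.map τ = s.map τ') : τ = τ' := by
  have h1 := eApp_naturality f s e τ
  have h2 := eApp_naturality f s e τ'
  rw [h] at h1
  have h3 : (eApp f s e t).hom ≫ τ = (eApp f s e t).hom ≫ τ' := h1.symm.trans h2
  exact (cancel_epi _).1 h3

instance Sg'_faithful : (Sg' f s e).Faithful where
  map_injective {t t'} τ τ' h := by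
    have h1 : s.map τ = s.map τ' := congrArg (fun k => k.hom.fst) h
    exact eq_of_map_eq f s e τ τ' h1

instance Sg'_full : (Sg' f s e).Full where
  map_surjective {t t'} n := by
    have hw := hom_compat (H f s e) n
    let γ : s.obj t ⟶ s.obj t' := n.hom.fst
    have hw' : γ ≫ (𝟙 _ ≫ s.map (eApp f s e t').inv) =
        (𝟙 _ ≫ s.map (eApp f s e t).inv) ≫ s.map (f.map γ) := hw
    rw [Category.id_comp, Category.id_comp] at hw'
    let τ : t ⟶ t' := (eApp f s e t).inv ≫ f.map γ ≫ (eApp f s e t').hom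
    have hτ : s.map τ = γ := by
      have h1 : s.map τ = s.map (eApp f s e t).inv ≫ s.map (f.map γ) ≫
          s.map (eApp f s e t').hom :=
        (s.toFunctor.map_comp _ _).trans (congrArg (fun k => _ ≫ k) (s.toFunctor.map_comp _ _))
      have h2 : s.map (eApp f s e t').inv ≫ s.map (eApp f s e t').hom = 𝟙 _ :=
        (s.toFunctor.map_comp _ _).symm.trans
          ((congrArg (fun k => s.toFunctor.map k) (eApp f s e t').inv_hom_id).trans
            (s.toFunctor.map_id _))
      rw [h1, ← Category.assoc, ← hw', Category.assoc, h2, Category.comp_id]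
    refine ⟨τ, ?_⟩
    apply hom_ext_fst
    exact hτ

theorem Sg_exists_iso (Y : (P (H f s e)).obj) :
    ∃ (t : 𝒯.obj) (E : (Sg f s e).toFunctor.obj t ≅ Y),
      (P (H f s e)).p.IsHomLift (𝟙 ((P (H f s e)).p.obj Y)) E.hom := by
  let c : 𝒳.obj := Y.obj.fst
  let t : 𝒯.obj := f.obj c
  let φ : c ≅ s.obj (f.obj c) := fZ (H f s e) Y
  have hφ : 𝒳.p.IsHomLift (𝟙 (𝒳.p.obj c)) φ.hom := fZ_isHomLift (H f s e) Y
  have hφi : 𝒳.p.IsHomLift (𝟙 (𝒳.p.obj c)) φ.inv := IsHomLift.lift_id_inv _ _ _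
  have hfφ : f.toFunctor.map φ.hom = (eApp f s e (f.obj c)).inv := g_fZ (H f s e) Y
  have hfφi : f.toFunctor.map φ.inv = (eApp f s e (f.obj c)).hom := by
    have h1 : f.toFunctor.map φ.inv ≫ f.toFunctor.map φ.hom = 𝟙 _ := by
      rw [← f.toFunctor.map_comp, Iso.inv_hom_id]
      exact f.toFunctor.map_id _
    rw [hfφ] at h1
    have h2 := congrArg (fun k => k ≫ (eApp f s e (f.obj c)).hom) h1
    simpa using h2
  refine ⟨t, ObjectProperty.isoMk _ (CategoricalPullback.mkIso φ.symm (θ₂ (H f s e) Y) ?_), ?_⟩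
  · apply ObjectProperty.hom_ext
    apply CategoricalPullback.hom_ext
    · change ((θ₂ (H f s e) Y).hom ≫ (θ₁ (H f s e) Y).inv) ≫ (θ₁ (H f s e) Y).hom =
        𝟙 _ ≫ (θ₂ (H f s e) Y).hom
      rw [Category.assoc, Iso.inv_hom_id, Category.comp_id, Category.id_comp]
    · change s.map (f.toFunctor.map φ.inv) ≫ (θ₂ (H f s e) Y).hom =
        s.map (eApp f s e (f.obj c)).hom ≫ (θ₂ (H f s e) Y).hom
      rw [hfφi]
  · apply fp_isHomLift_of_fst
    exact hφi

/-- The section square is 2-cartesian. -/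
theorem Sg_isEquivOver : FibCat.IsEquivOver (Sg f s e) := by
  have h1 : (Sg f s e).toFunctor.Full := inferInstanceAs (Sg' f s e).Full
  have h2 : (Sg f s e).toFunctor.Faithful := inferInstanceAs (Sg' f s e).Faithful
  exact isEquivOver_of_fullyFaithful_of_exists_iso _ (Sg_exists_iso f s e)

end Groth.Agent.Helper2.FibCatLib.Section
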