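import Mathlib
import Groth.Prelude.Def_FibCat2
import Groth.Agent.Lib.Helper2.FibCat.FpMap
import Groth.Agent.Lib.Helper2.EquivOver
import Groth.Agent.Lib.Helper2.Stk.LocAut

/-!
# The diagonal is invariant under squares of equivalences (helper2)
-/

set_option autoImplicit false
open CategoryTheory CategoryTheory.Functor CategoryTheory.Limits

universe v₆ u₆ v₅ u₅ v₄ u₄ v₃ u₃ v₂ u₂ v u

namespace Groth.Agent.Helper2.FibCatLib.DiagSquare

open Groth.Agent.Helper2.StkLib Groth.Agent.Helper2.FibCatLib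

variable {C : Type u} [Category.{v} C]
variable {𝒳 : BasedCategory.{v₂, u₂} C} {𝒴 : BasedCategory.{v₃, u₃} C}
  {𝒳' : BasedCategory.{v₄, u₄} C} {𝒴' : BasedCategory.{v₅, u₅} C}
variable (f : 𝒳 ⥤ᵇ 𝒴) (f' : 𝒳' ⥤ᵇ 𝒴') (a : 𝒳' ⥤ᵇ 𝒳) (b : 𝒴' ⥤ᵇ 𝒴)
  (e : BasedFunctor.comp f' b ≅ BasedFunctor.comp a f)

/-- The 2-isomorphism of the square as a plain natural isomorphism. -/
def eN : f'.toFunctor ⋙ b.toFunctor ≅ a.toFunctor ⋙ f.toFunctor :=
  (BasedNatTrans.forgetful _ _).mapIso e

theorem eN_isHomLift (x : 𝒳'.obj) :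
    𝒴.p.IsHomLift (𝟙 (𝒳'.p.obj x)) ((eN f f' a b e).hom.app x) :=
  e.hom.isHomLift' x

/-- The functor induced on the targets of the diagonals. -/
def M : FibCat.fp f' f' ⥤ᵇ FibCat.fp f f :=
  FpMap.fpMap f' f' f f a a b (eN f f' a b e) (eN f f' a b e) (eN_isHomLift f f' a b e)
    (eN_isHomLift f f' a b e)

theorem M_isEquivOver (ha : FibCat.IsEquivOver a) (hb : FibCat.IsEquivOver b) :
    FibCat.IsEquivOver (M f f' a b e) := by
  have := isEquivalence_of_isEquivOver hb
  exact FpMap.fpMap_isEquivOver f' f' f f a a b (eN f f' a b e) (eN f f' a b e)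
    (eN_isHomLift f f' a b e) (eN_isHomLift f f' a b e) ha ha

omit [Category.{v} C] in
theorem compat_aux {𝒟 : Type u₂} [Category.{v₂} 𝒟] {A B : 𝒟} (i : B ⟶ A) (h : A ⟶ B)
    (hih : i ≫ h = 𝟙 B) (m : B ⟶ B) (hm : m = 𝟙 B) (n : A ⟶ A) (hn : n = 𝟙 A) (k : B ⟶ B)
    (hk : k = 𝟙 B) : m ≫ k = (i ≫ n ≫ h) ≫ m := by
  subst hm hn hk
  rw [Category.id_comp, Category.comp_id, Category.id_comp, hih]

/-- The diagonals commute with the induced functor. -/
def diagIso : BasedFunctor.comp (FibCat.diag f') (M f f' a b e) ≅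
    BasedFunctor.comp a (FibCat.diag f) :=
  BasedNatIso.mkNatIso
    (NatIso.ofComponents
      (fun x => ObjectProperty.isoMk _ (CategoricalPullback.mkIso (Iso.refl _) (Iso.refl _)
        (compat_aux ((eN f f' a b e).inv.app x) ((eN f f' a b e).hom.app x)
          ((eN f f' a b e).inv_hom_id_app x) _ (f.toFunctor.map_id _) _ (b.toFunctor.map_id _) _
          rfl)))
      (by
        intro x x' φ
        apply ObjectProperty.hom_ext
        apply CategoricalPullback.hom_ext
        · exact (Category.comp_id _).trans (Category.id_comp _).symm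
        · exact (Category.comp_id _).trans (Category.id_comp _).symm))
    (by
      intro x
      apply fp_isHomLift_of_fst
      exact IsHomLift.id (p := 𝒳.p) (a.w_obj x))

end Groth.Agent.Helper2.FibCatLib.DiagSquare
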