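import Mathlib
import Groth.Prelude.Def_FibCat2
import Groth.Prelude.Def_W4stkcategoriessitesFib
import Groth.Agent.Lib.Helper2.FibCat.EquivCrit
import Groth.Agent.Lib.Helper2.FibCat.Yoneda
import Groth.Agent.Lib.Helper2.FibCat.Repr
import Groth.Agent.Lib.Helper2.EquivOver

/-!
# Functors between slices over the base (helper2)
-/

set_option autoImplicit false
open CategoryTheory CategoryTheory.Functor CategoryTheory.Limits

universe v₃ u₃ v₂ u₂ v u

namespace Groth.Agent.Helper2.FibCatLib.OverFun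

open Groth.Agent.Helper2.FibCatLib.Repr

variable {C : Type u} [Category.{v} C]

/-- Composition with a morphism, as a functor over `C` between slices. -/
def overMapBased {U V : C} (f : U ⟶ V) : FibCat.overCat U ⥤ᵇ FibCat.overCat V :=
  ⟨Over.map f, Over.mapForget_eq f⟩

theorem over_isHomLift_id_of_left_eq {U : C} {A B : Over U} (φ : A ⟶ B) (e : A.left = B.left)
    (h : φ.left = eqToHom e) : (Over.forget U).IsHomLift (𝟙 B.left) φ := by
  refine IsHomLift.of_fac' (Over.forget U) (𝟙 B.left) φ e rfl ?_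
  change φ.left = _
  rw [h]
  simp

theorem over_hom_aux {U V : C} (A : Over V) (hA : A.left = U) :
    eqToHom hA ≫ (𝟙 U ≫ (eqToHom hA.symm ≫ A.hom)) = A.hom := by
  subst hA
  simp

variable {𝒳 : BasedCategory.{v₂, u₂} C}

/-- Two functors `C/U ⟶ 𝒳` over `C`, with `𝒳` fibred in groupoids, are 2-isomorphic as soon as their
values at `𝟙 U` are isomorphic in the fibre. -/
theorem nonempty_iso_of_app_id (h𝒳 : FibCat.IsFibGrpd 𝒳.p) {U : C} (Φ Ψ : FibCat.overCat U ⥤ᵇ 𝒳)
    (a : Φ.toFunctor.obj (Over.mk (𝟙 U)) ≅ Ψ.toFunctor.obj (Over.mk (𝟙 U)))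
    (ha : 𝒳.p.IsHomLift (𝟙 U) a.hom) : Nonempty (Φ ≅ Ψ) := by
  have := evalAtId_isEquivalence_of_isFibGrpd 𝒳 U h𝒳
  have ha' : 𝒳.p.IsHomLift (𝟙 U) a.inv := IsHomLift.lift_id_inv _ _ _
  let i : (FibCat.evalAtId 𝒳 U).obj Φ ≅ (FibCat.evalAtId 𝒳 U).obj Ψ :=
    { hom := ⟨a.hom, ha⟩
      inv := ⟨a.inv, ha'⟩
      hom_inv_id := Subtype.ext a.hom_inv_id
      inv_hom_id := Subtype.ext a.inv_hom_id }
  exact ⟨(FibCat.evalAtId 𝒳 U).preimageIso i⟩

/-- The morphism classifying a functor between slices. -/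
def classify {U V : C} (Φ : FibCat.overCat U ⥤ᵇ FibCat.overCat V) : U ⟶ V :=
  eqToHom (Φ.w_obj (Over.mk (𝟙 U))).symm ≫ (Φ.toFunctor.obj (Over.mk (𝟙 U))).hom

/-- Every functor between slices over `C` is 2-isomorphic to composition with a morphism. -/
theorem nonempty_iso_overMapBased {U V : C} (Φ : FibCat.overCat U ⥤ᵇ FibCat.overCat V) :
    Nonempty (Φ ≅ overMapBased (classify Φ)) := by
  have hA : (Φ.toFunctor.obj (Over.mk (𝟙 U))).left = U := Φ.w_obj (Over.mk (𝟙 U))
  let i : Φ.toFunctor.obj (Over.mk (𝟙 U)) ≅ (overMapBased (classify Φ)).toFunctor.obj (Over.mk (𝟙 U)) :=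
    Over.isoMk (eqToIso hA) (over_hom_aux _ hA)
  refine nonempty_iso_of_app_id (isFibGrpd_overCat V) Φ _ i ?_
  exact over_isHomLift_id_of_left_eq i.hom hA rfl

/-- A functor between slices whose underlying functor is an equivalence is classified by an
isomorphism. -/
theorem isIso_classify {U V : C} (Φ : FibCat.overCat U ⥤ᵇ FibCat.overCat V)
    [Φ.toFunctor.IsEquivalence] : IsIso (classify Φ) := by
  have h1 : IsTerm (Φ.toFunctor.obj (Over.mk (𝟙 U))) := isTerm_map Φ.toFunctor (isTerm_over_id U)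
  have h2 : IsTerm (Over.mk (𝟙 V)) := isTerm_over_id V
  obtain ⟨f, -⟩ := h2.exists_hom (Φ.toFunctor.obj (Over.mk (𝟙 U)))
  obtain ⟨g, -⟩ := h1.exists_hom (Over.mk (𝟙 V))
  have hfg : f ≫ g = 𝟙 _ := h1.hom_ext _ _
  have hgf : g ≫ f = 𝟙 _ := h2.hom_ext _ _
  have hf : f.left = (Φ.toFunctor.obj (Over.mk (𝟙 U))).hom := by
    have := Over.w f
    simpa using this
  have : IsIso (Φ.toFunctor.obj (Over.mk (𝟙 U))).hom := by
    rw [← hf]
    exact ⟨g.left, congrArg (fun t => t.left) hfg, congrArg (fun t => t.left) hgf⟩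
  unfold classify
  exact IsIso.comp_isIso' inferInstance this

end Groth.Agent.Helper2.FibCatLib.OverFun
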