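import Mathlib
import Groth.Prelude.Def_FibCat2
import Groth.Prelude.Def_W4stkcategoriessitesFib
import Groth.Agent.Lib.Helper2.FibCat.DiagDict

/-!
# Representability of the diagonal from representability of all `C/U ⟶ 𝒮` (helper2)
-/

set_option autoImplicit false
open CategoryTheory CategoryTheory.Functor CategoryTheory.Limits

universe v₃ u₃ v₂ u₂ v u

namespace Groth.Agent.Helper2.FibCatLib.DiagRepBack

open Groth.Agent.Helper2.FibCatLib.DiagDict Groth.Agent.Helper2.FibCatLib.Repr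

variable {C : Type u} [Category.{v} C]

section Plain

variable {𝒳 : Type u₂} [Category.{v₂} 𝒳] (p : 𝒳 ⥤ C)

/-- A lift of an identity is a lift of any `eqToHom`. -/
theorem isHomLift_eqToHom_of_id {R S : C} (e : R = S) {a b : 𝒳} (φ : a ⟶ b)
    (h : p.IsHomLift (𝟙 R) φ) : p.IsHomLift (eqToHom e) φ := by
  subst e
  exact h

end Plain

variable [HasEqualizers C] {𝒮 : BasedCategory.{v₂, u₂} C} (h𝒮 : FibCat.IsFibGrpd 𝒮.p) {W : C}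
  (H : FibCat.overCat W ⥤ᵇ SS 𝒮)
  (ξ₀ : (FibCat.fp (h₁ H) (h₂ H)).obj)

/-- The two legs have the same source. -/
theorem eT : ξ₀.obj.snd.left = ξ₀.obj.fst.left :=
  Groth.Agent.Helper2.fp_snd_proj (h₁ H) (h₂ H) ξ₀

/-- First leg. -/
abbrev hatA : ξ₀.obj.fst.left ⟶ W := ξ₀.obj.fst.hom

/-- Second leg. -/
abbrev hatB : ξ₀.obj.fst.left ⟶ W := eqToHom (eT H ξ₀).symm ≫ ξ₀.obj.snd.hom

/-- The equalizer of the two legs. -/
noncomputable abbrev E : C := equalizer (hatA H ξ₀) (hatB H ξ₀)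

/-- The inclusion of the equalizer. -/
noncomputable abbrev ι : E H ξ₀ ⟶ ξ₀.obj.fst.left := equalizer.ι (hatA H ξ₀) (hatB H ξ₀)

/-- The equalizer as an object of the slice. -/
noncomputable abbrev c₀ : (FibCat.overCat W).obj := Over.mk (ι H ξ₀ ≫ hatA H ξ₀)

/-- The inclusion as a morphism to the first leg. -/
noncomputable def ιa : c₀ H ξ₀ ⟶ ξ₀.obj.fst := Over.homMk (ι H ξ₀) rfl

/-- The inclusion as a morphism to the second leg. -/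
noncomputable def ιb : c₀ H ξ₀ ⟶ ξ₀.obj.snd :=
  Over.homMk (ι H ξ₀ ≫ eqToHom (eT H ξ₀).symm) (by
    have := equalizer.condition (hatA H ξ₀) (hatB H ξ₀)
    simp only [Over.mk_hom, Category.assoc]
    exact this.symm)

@[simp] theorem ιa_left : (ιa H ξ₀).left = ι H ξ₀ := rfl

@[simp] theorem ιb_left : (ιb H ξ₀).left = ι H ξ₀ ≫ eqToHom (eT H ξ₀).symm := rfl

/-- The structural isomorphism of `ξ₀`. -/
abbrev f₀ : (h₁ H).toFunctor.obj ξ₀.obj.fst ≅ (h₂ H).toFunctor.obj ξ₀.obj.snd := ξ₀.obj.iso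

theorem f₀_isHomLift : 𝒮.p.IsHomLift (eqToHom (eT H ξ₀).symm) (f₀ H ξ₀).hom := by
  have h : 𝒮.p.IsHomLift (𝟙 ξ₀.obj.fst.left) (f₀ H ξ₀).hom := ξ₀.property
  exact isHomLift_eqToHom_of_id 𝒮.p _ _ h

theorem h_map_isHomLift (K : FibCat.overCat W ⥤ᵇ 𝒮) {A B : Over W} (ψ : A ⟶ B) :
    𝒮.p.IsHomLift ψ.left (K.toFunctor.map ψ) := isHomLift_map_over W K ψ

include h𝒮 in
theorem h_map_isStronglyCartesian (K : FibCat.overCat W ⥤ᵇ 𝒮) {A B : Over W} (ψ : A ⟶ B) :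
    𝒮.p.IsStronglyCartesian ψ.left (K.toFunctor.map ψ) :=
  isStronglyCartesian_of_isFibGrpd 𝒮.p h𝒮 _ _ (h_map_isHomLift K ψ)

theorem comp_isHomLift :
    𝒮.p.IsHomLift (ιb H ξ₀).left ((h₁ H).toFunctor.map (ιa H ξ₀) ≫ (f₀ H ξ₀).hom) := by
  have h1 := h_map_isHomLift (h₁ H) (ιa H ξ₀)
  have h2 := f₀_isHomLift H ξ₀
  change 𝒮.p.IsHomLift ((ιa H ξ₀).left ≫ eqToHom (eT H ξ₀).symm) _
  infer_instance

include h𝒮 in
/-- The pulled-back isomorphism over the equalizer. -/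
theorem exists_fE : ∃ f : (h₁ H).toFunctor.obj (c₀ H ξ₀) ⟶ (h₂ H).toFunctor.obj (c₀ H ξ₀),
    𝒮.p.IsHomLift (𝟙 (E H ξ₀)) f ∧
      f ≫ (h₂ H).toFunctor.map (ιb H ξ₀) = (h₁ H).toFunctor.map (ιa H ξ₀) ≫ (f₀ H ξ₀).hom := by
  have h1 := h_map_isStronglyCartesian h𝒮 (h₂ H) (ιb H ξ₀)
  have h2 := comp_isHomLift H ξ₀
  obtain ⟨f, ⟨hf1, hf2⟩, -⟩ := IsStronglyCartesian.universal_property 𝒮.p (ιb H ξ₀).left
    ((h₂ H).toFunctor.map (ιb H ξ₀)) (𝟙 (E H ξ₀)) (ιb H ξ₀).left (Category.id_comp _).symm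
    ((h₁ H).toFunctor.map (ιa H ξ₀) ≫ (f₀ H ξ₀).hom)
  exact ⟨f, hf1, hf2⟩

theorem left_comp {A B D : (FibCat.overCat W).obj} (f : A ⟶ B) (g : B ⟶ D) :
    (f ≫ g).left = f.left ≫ g.left := rfl

theorem over_ext {A B : (FibCat.overCat W).obj} (f g : A ⟶ B) (h : f.left = g.left) : f = g :=
  Over.OverMorphism.ext h

include h𝒮 in
theorem exists_isTerm (hξ₀ : IsTerm ξ₀) : ∃ Z₀ : (P H).obj, IsTerm Z₀ := by
  obtain ⟨fE, hfE1, hfE2⟩ := exists_fE h𝒮 H ξ₀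
  have hsc : 𝒮.p.IsStronglyCartesian (𝟙 (E H ξ₀)) fE :=
    isStronglyCartesian_of_isFibGrpd 𝒮.p h𝒮 _ _ hfE1
  have hiso : IsIso fE := IsStronglyCartesian.isIso_of_base_isIso 𝒮.p (𝟙 (E H ξ₀)) fE
  let t₁ : (h₁ H).toFunctor.obj (c₀ H ξ₀) ≅ (h₂ H).toFunctor.obj (c₀ H ξ₀) := asIso fE
  let Z₀ : (P H).obj := mkObj H (c₀ H ξ₀) ((h₂ H).toFunctor.obj (c₀ H ξ₀)) t₁ (Iso.refl _) hfE1
    (IsHomLift.id ((h₂ H).w_obj (c₀ H ξ₀)))
  have hfZ₀ : (fZ H Z₀).hom = fE := by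
    have : (fZ H Z₀).hom = t₁.hom ≫ (Iso.refl _).inv := mkObj_fZ H _ _ _ _ _ _
    rw [this]
    simp [t₁]
  refine ⟨Z₀, isTerm_of_existsUnique H Z₀ ?_⟩
  intro Z
  let ζ : (FibCat.fp (h₁ H) (h₂ H)).obj := ⟨⟨Z.obj.fst, Z.obj.fst, fZ H Z⟩, fZ_isHomLift H Z⟩
  obtain ⟨μ, hμ⟩ := hξ₀.exists_hom ζ
  let α : Z.obj.fst ⟶ ξ₀.obj.fst := μ.hom.fst
  let β : Z.obj.fst ⟶ ξ₀.obj.snd := μ.hom.snd
  have hw : (h₁ H).toFunctor.map α ≫ (f₀ H ξ₀).hom = (fZ H Z).hom ≫ (h₂ H).toFunctor.map β :=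
    μ.hom.w
  -- the two underlying morphisms agree
  have hαβ : α.left ≫ eqToHom (eT H ξ₀).symm = β.left := by
    have i1 := h_map_isHomLift (h₁ H) α
    have i2 := f₀_isHomLift H ξ₀
    have i3 : 𝒮.p.IsHomLift (𝟙 Z.obj.fst.left) (fZ H Z).hom := fZ_isHomLift H Z
    have i4 := h_map_isHomLift (h₂ H) β
    have j1 : 𝒮.p.IsHomLift (α.left ≫ eqToHom (eT H ξ₀).symm)
        ((h₁ H).toFunctor.map α ≫ (f₀ H ξ₀).hom) := inferInstance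
    have j2 : 𝒮.p.IsHomLift (𝟙 Z.obj.fst.left ≫ β.left)
        ((fZ H Z).hom ≫ (h₂ H).toFunctor.map β) := inferInstance
    rw [← hw] at j2
    have := Groth.Agent.Helper2.isHomLift_base_unique 𝒮.p (α.left ≫ eqToHom (eT H ξ₀).symm)
      (𝟙 Z.obj.fst.left ≫ β.left) ((h₁ H).toFunctor.map α ≫ (f₀ H ξ₀).hom)
    exact this.trans (Category.id_comp _)
  have hta : α.left ≫ hatA H ξ₀ = Z.obj.fst.hom := Over.w α
  have htb : α.left ≫ hatB H ξ₀ = Z.obj.fst.hom := by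
    have h1 : β.left ≫ ξ₀.obj.snd.hom = Z.obj.fst.hom := Over.w β
    have h2 : α.left ≫ hatB H ξ₀ = (α.left ≫ eqToHom (eT H ξ₀).symm) ≫ ξ₀.obj.snd.hom :=
      (Category.assoc _ _ _).symm
    rw [h2, hαβ, h1]
  let t' : Z.obj.fst.left ⟶ E H ξ₀ := equalizer.lift α.left (hta.trans htb.symm)
  have ht' : t' ≫ ι H ξ₀ = α.left := equalizer.lift_ι _ _
  let γ : Z.obj.fst ⟶ c₀ H ξ₀ := Over.homMk t' (by
    change t' ≫ ι H ξ₀ ≫ hatA H ξ₀ = Z.obj.fst.hom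
    rw [← Category.assoc, ht', hta])
  have hγa : γ ≫ ιa H ξ₀ = α := over_ext _ _ ht'
  have hγb : γ ≫ ιb H ξ₀ = β := by
    apply over_ext
    change t' ≫ ι H ξ₀ ≫ eqToHom (eT H ξ₀).symm = β.left
    rw [← Category.assoc, ht', hαβ]
  have key : ∀ γ' : Z.obj.fst ⟶ c₀ H ξ₀,
      ((h₁ H).toFunctor.map γ' ≫ fE = (fZ H Z).hom ≫ (h₂ H).toFunctor.map γ') ↔
        ((h₁ H).toFunctor.map (γ' ≫ ιa H ξ₀) ≫ (f₀ H ξ₀).hom =
          (fZ H Z).hom ≫ (h₂ H).toFunctor.map (γ' ≫ ιb H ξ₀)) := by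
    intro γ'
    rw [Functor.map_comp, Functor.map_comp, Category.assoc, ← hfE2]
    constructor
    · intro h
      rw [← Category.assoc, h, Category.assoc]
    · intro h
      have hsc2 := h_map_isStronglyCartesian h𝒮 (h₂ H) (ιb H ξ₀)
      have i1 := h_map_isHomLift (h₁ H) γ'
      have i2 := h_map_isHomLift (h₂ H) γ'
      have i3 : 𝒮.p.IsHomLift (𝟙 Z.obj.fst.left) (fZ H Z).hom := fZ_isHomLift H Z
      have j0 : 𝒮.p.IsHomLift (γ'.left ≫ 𝟙 (E H ξ₀)) ((h₁ H).toFunctor.map γ' ≫ fE) :=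
        inferInstance
      have j1 : 𝒮.p.IsHomLift γ'.left ((h₁ H).toFunctor.map γ' ≫ fE) :=
        isHomLift_congr' 𝒮.p (Category.comp_id _) _ j0
      have j2 : 𝒮.p.IsHomLift γ'.left ((fZ H Z).hom ≫ (h₂ H).toFunctor.map γ') :=
        isHomLift_congr' 𝒮.p (Category.id_comp _) _ inferInstance
      apply IsStronglyCartesian.ext 𝒮.p (ιb H ξ₀).left ((h₂ H).toFunctor.map (ιb H ξ₀)) γ'.left
      rw [Category.assoc, Category.assoc]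
      exact h
  refine ⟨γ, ?_, ?_⟩
  · have hk : (h₁ H).toFunctor.map γ ≫ fE = (fZ H Z).hom ≫ (h₂ H).toFunctor.map γ := by
      rw [key, hγa, hγb]
      exact hw
    exact (congrArg (fun k => (h₁ H).toFunctor.map γ ≫ k) hfZ₀).trans hk
  · intro γ' hγ'
    have hγ'' : (h₁ H).toFunctor.map γ' ≫ fE = (fZ H Z).hom ≫ (h₂ H).toFunctor.map γ' :=
      (congrArg (fun k => (h₁ H).toFunctor.map γ' ≫ k) hfZ₀).symm.trans hγ'
    have hγ'2 := (key γ').1 hγ''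
    let μ' : ζ ⟶ ξ₀ := ObjectProperty.homMk ⟨γ' ≫ ιa H ξ₀, γ' ≫ ιb H ξ₀, hγ'2⟩
    have hμ' : μ' = μ := hμ μ'
    have h1 : γ' ≫ ιa H ξ₀ = α := congrArg (fun m => m.hom.fst) hμ'
    apply over_ext
    have h2 : γ'.left ≫ ι H ξ₀ = α.left := congrArg (fun m => m.left) h1
    exact equalizer.hom_ext (h2.trans ht'.symm)

omit [HasEqualizers C] in
theorem id_isHomLift_eq {R S : C} (f φ : R ⟶ S) (h : (𝟭 C).IsHomLift f φ) : φ = f := by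
  have := IsHomLift.fac' (𝟭 C) f φ
  simpa using this

omit [HasEqualizers C] in
theorem isFibGrpd_id : FibCat.IsFibGrpd (𝟭 C) where
  exists_lift {x V} f := ⟨V, f, IsHomLift.map (𝟭 C) f⟩
  isStronglyCartesian {y x} φ := by
    refine ⟨?_⟩
    intro a' g φ' hφ'
    have h1 : φ' = g ≫ φ := id_isHomLift_eq (g ≫ φ) φ' hφ'
    refine ⟨g, ⟨IsHomLift.map (𝟭 C) g, h1.symm⟩, ?_⟩
    rintro χ ⟨k1, k2⟩
    exact id_isHomLift_eq g χ k1

omit [HasEqualizers C] in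
theorem isFibGrpd_selfOver : FibCat.IsFibGrpd (FibCat.selfOver C).p := isFibGrpd_id

omit [HasEqualizers C] in
theorem isFibGrpd_SS (h𝒮 : FibCat.IsFibGrpd 𝒮.p) : FibCat.IsFibGrpd (SS 𝒮).p :=
  Groth.Agent.Helper2.isFibGrpd_fp _ _ h𝒮 h𝒮 isFibGrpd_selfOver

theorem isRepresentable1_diag_of_forall (h𝒮 : FibCat.IsFibGrpd 𝒮.p)
    (hall : ∀ (U : C) (G : FibCat.overCat U ⥤ᵇ 𝒮), FibCat.IsRepresentable1 G) :
    FibCat.IsRepresentable1 (Dg 𝒮) := by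
  intro W H
  have hrep : FibCat.IsRepresentable (FibCat.fp (h₁ H) (h₂ H)) := hall W (h₂ H) W (h₁ H)
  obtain ⟨ξ₀, hξ₀⟩ := exists_isTerm_of_isRepresentable hrep
  obtain ⟨Z₀, hZ₀⟩ := exists_isTerm h𝒮 H ξ₀ hξ₀
  exact isRepresentable_of_isTerm hZ₀
    (Groth.Agent.Helper2.isFibGrpd_fp H (Dg 𝒮) (isFibGrpd_overCat W) h𝒮 (isFibGrpd_SS h𝒮))

end Groth.Agent.Helper2.FibCatLib.DiagRepBack
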