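import Mathlib
import Groth.Prelude.Def_FibCat2
import Groth.Agent.Lib.Helper2.FibCat.Magic
import Groth.Agent.Lib.Helper2.EquivOver

/-!
# Lifting functors through `𝒜 ×_𝒵 ℬ ⟶ 𝒴 ×_𝒵 𝒴` (helper2)
-/

set_option autoImplicit false
open CategoryTheory CategoryTheory.Functor CategoryTheory.Limits

universe v₇ u₇ v₆ u₆ v₅ u₅ v₄ u₄ v₃ u₃ v₂ u₂ v u

namespace Groth.Agent.Helper2.FibCatLib.Magic

open Groth.Agent.Helper2.FibCatLib.RelDiag Groth.Agent.Helper2.StkLib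
open Groth.Agent.Helper2.FibCatLib

variable {C : Type u} [Category.{v} C]
variable {𝒜 : BasedCategory.{v₅, u₅} C} {ℬ : BasedCategory.{v₆, u₆} C}
  {𝒴 : BasedCategory.{v₂, u₂} C} {𝒵 : BasedCategory.{v₄, u₄} C}
variable (a : 𝒜 ⥤ᵇ 𝒴) (b : ℬ ⥤ᵇ 𝒴) (g : 𝒴 ⥤ᵇ 𝒵)

omit [Category.{v} C] in
theorem liftHc_aux {𝒟 : Type u₂} [Category.{v₂} 𝒟] {A B D E : 𝒟} (t : A ⟶ B) (α : B ⟶ D)
    (ti : D ⟶ E) (th : E ⟶ D) (h : ti ≫ th = 𝟙 D) : t ≫ α = ((t ≫ α) ≫ ti) ≫ th := by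
  rw [Category.assoc, Category.assoc, h, Category.comp_id]

section Lift

variable {𝒱 : BasedCategory.{v₇, u₇} C} (Y : 𝒱 ⥤ᵇ FibCat.fp g g) (z₁ : 𝒱 ⥤ᵇ 𝒜) (z₂ : 𝒱 ⥤ᵇ ℬ)
  (θ₁ : BasedFunctor.comp z₁ a ≅ BasedFunctor.comp Y (FibCat.fpFst g g))
  (θ₂ : BasedFunctor.comp z₂ b ≅ BasedFunctor.comp Y (FibCat.fpSnd g g))

/-- The 2-isomorphism of the lift. -/
def liftIso : BasedFunctor.comp z₁ (BasedFunctor.comp a g) ≅
    BasedFunctor.comp z₂ (BasedFunctor.comp b g) :=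
  ((Groth.Agent.Helper2.postF 𝒱 g).mapIso θ₁ ≪≫
    Groth.Agent.Helper2.whiskerLeftIso Y (FibCat.fpIso g g)) ≪≫
    ((Groth.Agent.Helper2.postF 𝒱 g).mapIso θ₂).symm

/-- The lift of a functor to `𝒴 ×_𝒵 𝒴` through `Hc`, given lifts of its two components. -/
def liftHc : 𝒱 ⥤ᵇ FibCat.fp (BasedFunctor.comp a g) (BasedFunctor.comp b g) :=
  FibCat.fpLift z₁ z₂ (liftIso a b g Y z₁ z₂ θ₁ θ₂)

theorem liftHc_iso_hom (v : 𝒱.obj) :
    ((liftHc a b g Y z₁ z₂ θ₁ θ₂).obj v).obj.iso.hom =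
      (g.map (θ₁.hom.toNatTrans.app v) ≫ (Y.obj v).obj.iso.hom) ≫
        g.map (θ₂.inv.toNatTrans.app v) := rfl

/-- The lift followed by `Hc` is the given functor. -/
def liftHcIso : BasedFunctor.comp (liftHc a b g Y z₁ z₂ θ₁ θ₂) (Hc a b g) ≅ Y :=
  BasedNatIso.mkNatIso
    (NatIso.ofComponents
      (fun v => ObjectProperty.isoMk _ (CategoricalPullback.mkIso
        (((BasedNatTrans.forgetful _ _).mapIso θ₁).app v)
        (((BasedNatTrans.forgetful _ _).mapIso θ₂).app v)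
        (by
          have h := liftHc_aux (g.map (θ₁.hom.toNatTrans.app v)) (Y.obj v).obj.iso.hom
            (g.map (θ₂.inv.toNatTrans.app v)) (g.map (θ₂.hom.toNatTrans.app v))
            ((g.toFunctor.map_comp _ _).symm.trans
              ((congrArg (fun k => g.toFunctor.map k)
                (congrArg (fun t => t.toNatTrans.app v) θ₂.inv_hom_id)).trans
                (g.toFunctor.map_id _)))
          exact h)))
      (by
        intro v v' φ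
        apply ObjectProperty.hom_ext
        apply CategoricalPullback.hom_ext
        · exact θ₁.hom.toNatTrans.naturality φ
        · exact θ₂.hom.toNatTrans.naturality φ))
    (by
      intro v
      apply fp_isHomLift_of_fst
      exact θ₁.hom.isHomLift' v)

end Lift

end Groth.Agent.Helper2.FibCatLib.Magic
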