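import Mathlib
import Groth.Prelude.Def_FibCat2
import Groth.Agent.Lib.Helper2.FibCat.Paste
import Groth.Agent.Lib.Helper2.FibCat.FpSwap
import Groth.Agent.Lib.Helper2.Stk.LocAut

/-!
# The product of two functors over a base category (helper2)

The functor `f ×_𝒵 g : 𝒳 ×_𝒵 𝒴 ⟶ 𝒳' ×_𝒵 𝒴'` factors as `f ×_𝒵 id` followed by `id ×_𝒵 g`, and each
factor is a base change of `f`, respectively of `g`.
-/

set_option autoImplicit false
open CategoryTheory CategoryTheory.Functor CategoryTheory.Limits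

universe w₁ w₂ w₃ w₄ w₅ t₁ t₂ t₃ t₄ t₅ v u

namespace Groth.Agent.Helper2.FibCatLib.FpProd

open Groth.Agent.Helper2.StkLib

variable {C : Type u} [Category.{v} C]
variable {𝒳 : BasedCategory.{w₁, t₁} C} {𝒳' : BasedCategory.{w₂, t₂} C}
  {𝒴 : BasedCategory.{w₃, t₃} C} {𝒴' : BasedCategory.{w₄, t₄} C} {𝒵 : BasedCategory.{w₅, t₅} C}

section One

variable (f : 𝒳 ⥤ᵇ 𝒳') (p' : 𝒳' ⥤ᵇ 𝒵) (B : 𝒴 ⥤ᵇ 𝒵)

/-- The functor `f ×_𝒵 id : 𝒳 ×_𝒵 𝒴 ⟶ 𝒳' ×_𝒵 𝒴`. -/
def F1 : FibCat.fp (BasedFunctor.comp f p') B ⥤ᵇ FibCat.fp p' B :=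
  FibCat.fpLift (F := p') (G := B)
    (BasedFunctor.comp (FibCat.fpFst (BasedFunctor.comp f p') B) f)
    (FibCat.fpSnd (BasedFunctor.comp f p') B) (FibCat.fpIso (BasedFunctor.comp f p') B)

omit [Category.{v} C] in
theorem aux1 {𝒟 : Type*} [Category 𝒟] {A A' B₀ : 𝒟} (m : A ⟶ A') (β : A' ⟶ B₀) (n : B₀ ⟶ B₀)
    (hn : n = 𝟙 B₀) : m ≫ β = (m ≫ β) ≫ n := by
  subst hn
  rw [Category.comp_id]

/-- `f ×_𝒵 id` is the base change of `f` along the first projection `𝒳' ×_𝒵 𝒴 ⟶ 𝒳'`. -/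
def isoF1 : BasedFunctor.comp (Paste.pasteB f p' B) (F1 f p' B) ≅
    FibCat.fpSnd f (FibCat.fpFst p' B) :=
  BasedNatIso.mkNatIso
    (NatIso.ofComponents
      (fun Q => ObjectProperty.isoMk _ (CategoricalPullback.mkIso Q.obj.iso (Iso.refl _)
        (aux1 (p'.map Q.obj.iso.hom) Q.obj.snd.obj.iso.hom _ (B.toFunctor.map_id _))))
      (by
        intro Q Q' m
        apply ObjectProperty.hom_ext
        apply CategoricalPullback.hom_ext
        · exact m.hom.w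
        · exact (Category.comp_id _).trans (Category.id_comp _).symm))
    (by
      intro Q
      apply fp_isHomLift_of_fst
      exact Q.property)

end One

section Two

variable (p' : 𝒳' ⥤ᵇ 𝒵) (g : 𝒴 ⥤ᵇ 𝒴') (q' : 𝒴' ⥤ᵇ 𝒵)

/-- The functor `id ×_𝒵 g : 𝒳' ×_𝒵 𝒴 ⟶ 𝒳' ×_𝒵 𝒴'`. -/
def F2 : FibCat.fp p' (BasedFunctor.comp g q') ⥤ᵇ FibCat.fp p' q' :=
  FibCat.fpLift (F := p') (G := q')
    (FibCat.fpFst p' (BasedFunctor.comp g q'))
    (BasedFunctor.comp (FibCat.fpSnd p' (BasedFunctor.comp g q')) g)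
    (FibCat.fpIso p' (BasedFunctor.comp g q'))

omit [Category.{v} C] in
theorem aux2 {𝒟 : Type*} [Category 𝒟] {A B₀ B₁ : 𝒟} (n : A ⟶ A) (hn : n = 𝟙 A) (β : A ⟶ B₀)
    (γ : B₀ ⟶ B₁) (γ' : B₁ ⟶ B₀) (h : γ ≫ γ' = 𝟙 B₀) : n ≫ β = (β ≫ γ) ≫ γ' := by
  subst hn
  rw [Category.id_comp, Category.assoc, h, Category.comp_id]

omit [Category.{v} C] in
theorem aux3 {𝒟 : Type*} [Category 𝒟] {A A' B₀ B₁ : 𝒟} (γ : A ≅ B₀) (γ' : A' ≅ B₁) (m : A ⟶ A')
    (n : B₀ ⟶ B₁) (h : m ≫ γ'.hom = γ.hom ≫ n) : n ≫ γ'.inv = γ.inv ≫ m := by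
  rw [Iso.comp_inv_eq, Category.assoc, h, Iso.inv_hom_id_assoc]

/-- `id ×_𝒵 g` is the base change of `g` along the second projection `𝒳' ×_𝒵 𝒴' ⟶ 𝒴'`. -/
def isoF2 : BasedFunctor.comp (Paste.pasteA p' q' g) (F2 p' g q') ≅
    FibCat.fpFst (FibCat.fpSnd p' q') g :=
  BasedNatIso.mkNatIso
    (NatIso.ofComponents
      (fun Q => ObjectProperty.isoMk _ (CategoricalPullback.mkIso (Iso.refl _) Q.obj.iso.symm
        (aux2 _ (p'.toFunctor.map_id _) Q.obj.fst.obj.iso.hom (q'.map Q.obj.iso.hom)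
          (q'.map Q.obj.iso.inv)
          ((q'.toFunctor.map_comp _ _).symm.trans
            ((congrArg (fun k => q'.toFunctor.map k) Q.obj.iso.hom_inv_id).trans
              (q'.toFunctor.map_id _))))))
      (by
        intro Q Q' m
        apply ObjectProperty.hom_ext
        apply CategoricalPullback.hom_ext
        · exact (Category.comp_id _).trans (Category.id_comp _).symm
        · exact aux3 Q.obj.iso Q'.obj.iso _ _ m.hom.w))
    (by
      intro Q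
      apply fp_isHomLift_of_fst
      exact IsHomLift.id (p := 𝒳'.p) rfl)

end Two

section Three

variable (f : 𝒳 ⥤ᵇ 𝒳') (g : 𝒴 ⥤ᵇ 𝒴') (p' : 𝒳' ⥤ᵇ 𝒵) (q' : 𝒴' ⥤ᵇ 𝒵)

omit [Category.{v} C] in
theorem aux4 {𝒟 : Type*} [Category 𝒟] {A B₀ : 𝒟} (m₁ : A ⟶ A) (h₁ : m₁ = 𝟙 A) (ι ε : A ⟶ B₀)
    (hε : ε = ι) (m₂ : B₀ ⟶ B₀) (h₂ : m₂ = 𝟙 B₀) : m₁ ≫ ι = ε ≫ m₂ := by
  subst h₁ h₂ hε
  rw [Category.id_comp, Category.comp_id]

/-- The product functor `f ×_𝒵 g` is the composite of `f ×_𝒵 id` and `id ×_𝒵 g`. -/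
def isoF
    (e : BasedFunctor.comp (BasedFunctor.comp (FibCat.fpFst (BasedFunctor.comp f p')
        (BasedFunctor.comp g q')) f) p' ≅
      BasedFunctor.comp (BasedFunctor.comp (FibCat.fpSnd (BasedFunctor.comp f p')
        (BasedFunctor.comp g q')) g) q')
    (he : ∀ x, e.hom.toNatTrans.app x = x.obj.iso.hom) :
    FibCat.fpLift (BasedFunctor.comp (FibCat.fpFst (BasedFunctor.comp f p')
        (BasedFunctor.comp g q')) f)
      (BasedFunctor.comp (FibCat.fpSnd (BasedFunctor.comp f p') (BasedFunctor.comp g q')) g) e ≅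
    BasedFunctor.comp (F1 f p' (BasedFunctor.comp g q')) (F2 p' g q') :=
  BasedNatIso.mkNatIso
    (NatIso.ofComponents
      (fun x => ObjectProperty.isoMk _ (CategoricalPullback.mkIso (Iso.refl _) (Iso.refl _)
        (aux4 _ (p'.toFunctor.map_id _) x.obj.iso.hom (e.hom.toNatTrans.app x) (he x) _
          (q'.toFunctor.map_id _))))
      (by
        intro x x' φ
        apply ObjectProperty.hom_ext
        apply CategoricalPullback.hom_ext
        · exact (Category.comp_id _).trans (Category.id_comp _).symm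
        · exact (Category.comp_id _).trans (Category.id_comp _).symm))
    (by
      intro x
      apply fp_isHomLift_of_fst
      exact IsHomLift.id (p := 𝒳'.p) (f.w_obj _))

end Three

end Groth.Agent.Helper2.FibCatLib.FpProd
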