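import Mathlib
import Groth.Prelude.Def_FibCat2
import Groth.Prelude.Def_W4stkcategoriessitesFib
import Groth.Agent.Lib.Helper2.FibCat.DiagDict
import Groth.Agent.Lib.Helper2.FibCat.OverFun
import Groth.Agent.Lib.Helper2.FibCat.DiagRepBack

/-!
# Representability of all `C/U ⟶ 𝒮` from representability of the diagonal (helper2)
-/

set_option autoImplicit false
open CategoryTheory CategoryTheory.Functor CategoryTheory.Limits

universe v₃ u₃ v₂ u₂ v u

namespace Groth.Agent.Helper2.FibCatLib.DiagRepFwd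

open Groth.Agent.Helper2.FibCatLib.DiagDict Groth.Agent.Helper2.FibCatLib.Repr
  Groth.Agent.Helper2.FibCatLib.OverFun

variable {C : Type u} [Category.{v} C]

section ToSelf

variable {𝒲 : BasedCategory.{v₃, u₃} C}

theorem toFunctor_eq_of_toSelf (A B : 𝒲 ⥤ᵇ FibCat.selfOver C) : A.toFunctor = B.toFunctor := by
  have hA : A.toFunctor ⋙ 𝟭 C = 𝒲.p := A.w
  have hB : B.toFunctor ⋙ 𝟭 C = 𝒲.p := B.w
  have hA' : A.toFunctor = 𝒲.p := (Functor.comp_id A.toFunctor).symm.trans hA
  have hB' : B.toFunctor = 𝒲.p := (Functor.comp_id B.toFunctor).symm.trans hB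
  exact hA'.trans hB'.symm

/-- Any two functors to the base over the base are canonically 2-isomorphic. -/
def isoToSelf (A B : 𝒲 ⥤ᵇ FibCat.selfOver C) : A ≅ B :=
  BasedNatIso.mkNatIso (eqToIso (toFunctor_eq_of_toSelf A B)) (fun a => by
    rw [eqToIso.hom, eqToHom_app]
    exact IsHomLift.eqToHom_domain_lift_id _ (A.w_obj a))

end ToSelf

section Plain

variable {𝒳 : Type u₂} [Category.{v₂} 𝒳] (p : 𝒳 ⥤ C)

theorem isHomLift_id_of_eqToHom {R S : C} (e : R = S) {a b : 𝒳} (φ : a ⟶ b)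
    (h : p.IsHomLift (eqToHom e) φ) : p.IsHomLift (𝟙 R) φ := by
  subst e
  exact h

theorem comp_inv_hom_aux {X Y Z W : 𝒳} (A : X ⟶ Y) (f : Y ⟶ Z) (i : W ≅ Z) :
    A ≫ f = ((A ≫ f) ≫ i.inv) ≫ i.hom := by simp

end Plain

variable [HasBinaryProducts C] {𝒮 : BasedCategory.{v₂, u₂} C} {V U : C}
  (G' : FibCat.overCat V ⥤ᵇ 𝒮) (G : FibCat.overCat U ⥤ᵇ 𝒮)

/-- First component of the pairing. -/
noncomputable abbrev pa : FibCat.overCat (V ⨯ U) ⥤ᵇ 𝒮 :=
  BasedFunctor.comp (overMapBased (prod.fst : V ⨯ U ⟶ V)) G'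

/-- Second component of the pairing. -/
noncomputable abbrev pb : FibCat.overCat (V ⨯ U) ⥤ᵇ 𝒮 :=
  BasedFunctor.comp (overMapBased (prod.snd : V ⨯ U ⟶ U)) G

/-- The pairing `C/(V × U) ⟶ 𝒮 ×_C 𝒮`. -/
noncomputable def pairing : FibCat.overCat (V ⨯ U) ⥤ᵇ SS 𝒮 :=
  FibCat.fpLift (pa G') (pb G) (isoToSelf _ _)

theorem pairing_h₁ : h₁ (pairing G' G) = pa G' := rfl

theorem pairing_h₂ : h₂ (pairing G' G) = pb G := rfl

/-- The comparison functor from the fibre product of the pairing with the diagonal to the fibre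
product of the two given functors. -/
noncomputable def Φ' : (P (pairing G' G)).obj ⥤ (FibCat.fp G' G).obj where
  obj Z :=
    ⟨{ fst := (Over.map (prod.fst : V ⨯ U ⟶ V)).obj Z.obj.fst
       snd := (Over.map (prod.snd : V ⨯ U ⟶ U)).obj Z.obj.fst
       iso := fZ (pairing G' G) Z }, fZ_isHomLift (pairing G' G) Z⟩
  map {Z Z'} m :=
    ObjectProperty.homMk
      { fst := (Over.map (prod.fst : V ⨯ U ⟶ V)).map m.hom.fst
        snd := (Over.map (prod.snd : V ⨯ U ⟶ U)).map m.hom.fst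
        w := hom_compat (pairing G' G) m }
  map_id Z := by
    apply ObjectProperty.hom_ext
    apply CategoricalPullback.hom_ext
    · exact (Over.map (prod.fst : V ⨯ U ⟶ V)).map_id _
    · exact (Over.map (prod.snd : V ⨯ U ⟶ U)).map_id _
  map_comp m m' := by
    apply ObjectProperty.hom_ext
    apply CategoricalPullback.hom_ext
    · exact (Over.map (prod.fst : V ⨯ U ⟶ V)).map_comp _ _
    · exact (Over.map (prod.snd : V ⨯ U ⟶ U)).map_comp _ _

theorem Φ'_map_fst_left {Z Z' : (P (pairing G' G)).obj} (m : Z ⟶ Z') :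
    ((Φ' G' G).map m).hom.fst.left = m.hom.fst.left := rfl

instance Φ'_faithful : (Φ' G' G).Faithful where
  map_injective {Z Z'} m m' h := by
    apply hom_ext_fst
    apply Over.OverMorphism.ext
    have := congrArg (fun k => k.hom.fst.left) h
    exact this

theorem fp_left_eq {Y Y' : (FibCat.fp G' G).obj} (n : Y ⟶ Y') :
    n.hom.snd.left = eqToHom ((FibCat.fpSnd G' G).w_obj Y) ≫ n.hom.fst.left ≫
      eqToHom ((FibCat.fpSnd G' G).w_obj Y').symm := by
  have h := Functor.congr_hom (FibCat.fpSnd G' G).w n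
  exact h

theorem Φ'_snd_left {Z Z' : (P (pairing G' G)).obj} (n : (Φ' G' G).obj Z ⟶ (Φ' G' G).obj Z') :
    n.hom.snd.left = n.hom.fst.left := by
  have h := fp_left_eq G' G n
  rw [h]
  change 𝟙 _ ≫ n.hom.fst.left ≫ 𝟙 _ = _
  rw [Category.id_comp, Category.comp_id]

instance Φ'_full : (Φ' G' G).Full where
  map_surjective {Z Z'} n := by
    have hl := Φ'_snd_left G' G n
    have w1 : n.hom.fst.left ≫ Z'.obj.fst.hom ≫ prod.fst = Z.obj.fst.hom ≫ prod.fst :=
      Over.w n.hom.fst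
    have w2 : n.hom.snd.left ≫ Z'.obj.fst.hom ≫ prod.snd = Z.obj.fst.hom ≫ prod.snd :=
      Over.w n.hom.snd
    rw [hl] at w2
    let γ : Z.obj.fst ⟶ Z'.obj.fst := Over.homMk n.hom.fst.left (by
      apply Limits.prod.hom_ext
      · rw [Category.assoc]; exact w1
      · rw [Category.assoc]; exact w2)
    have e1 : (Over.map (prod.fst : V ⨯ U ⟶ V)).map γ = n.hom.fst := by
      apply Over.OverMorphism.ext
      rfl
    have e2 : (Over.map (prod.snd : V ⨯ U ⟶ U)).map γ = n.hom.snd := by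
      apply Over.OverMorphism.ext
      exact hl.symm
    have hw := n.hom.w
    obtain ⟨m, hm⟩ := exists_hom_of_compat (pairing G' G) γ (by
      change G'.map ((Over.map (prod.fst : V ⨯ U ⟶ V)).map γ) ≫ _ =
        _ ≫ G.map ((Over.map (prod.snd : V ⨯ U ⟶ U)).map γ)
      rw [e1, e2]
      exact hw)
    refine ⟨m, ?_⟩
    apply ObjectProperty.hom_ext
    apply CategoricalPullback.hom_ext
    · change (Over.map (prod.fst : V ⨯ U ⟶ V)).map m.hom.fst = _
      rw [hm, e1]
    · change (Over.map (prod.snd : V ⨯ U ⟶ U)).map m.hom.fst = _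
      rw [hm, e2]

instance Φ'_essSurj : (Φ' G' G).EssSurj where
  mem_essImage Y := by
    let a : Over V := Y.obj.fst
    let b : Over U := Y.obj.snd
    let f : G'.obj a ≅ G.obj b := Y.obj.iso
    have hf : 𝒮.p.IsHomLift (𝟙 a.left) f.hom := Y.property
    have eL : a.left = b.left := ((FibCat.fpSnd G' G).w_obj Y).symm
    let c : Over (V ⨯ U) := Over.mk (prod.lift a.hom (eqToHom eL ≫ b.hom))
    let ia : (Over.map (prod.fst : V ⨯ U ⟶ V)).obj c ≅ a :=
      Over.isoMk (Iso.refl _) ((Category.id_comp _).trans (prod.lift_fst _ _).symm)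
    let ib : (Over.map (prod.snd : V ⨯ U ⟶ U)).obj c ≅ b :=
      Over.isoMk (eqToIso eL) (prod.lift_snd _ _).symm
    have h1 : 𝒮.p.IsHomLift (𝟙 a.left) (G'.map ia.hom) := by
      have : (FibCat.overCat V).p.IsHomLift (𝟙 a.left) ia.hom :=
        over_isHomLift_id_of_left_eq ia.hom rfl rfl
      infer_instance
    have h2 : 𝒮.p.IsHomLift (𝟙 a.left) (G.map ib.hom) := by
      apply isHomLift_id_of_eqToHom 𝒮.p eL
      have : (FibCat.overCat U).p.IsHomLift (eqToHom eL) ib.hom := by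
        have : (FibCat.overCat U).p.IsHomLift ((FibCat.overCat U).p.map ib.hom) ib.hom :=
          inferInstance
        exact this
      infer_instance
    have ht₁ : 𝒮.p.IsHomLift (𝟙 a.left) (G'.map ia.hom ≫ f.hom) := inferInstance
    let Z : (P (pairing G' G)).obj :=
      mkObj (pairing G' G) c (G.obj b) (G'.toFunctor.mapIso ia ≪≫ f) (G.toFunctor.mapIso ib) ht₁ h2
    refine ⟨Z, ⟨ObjectProperty.isoMk _ (CategoricalPullback.mkIso ia ib ?_)⟩⟩
    exact comp_inv_hom_aux (G'.toFunctor.mapIso ia).hom f.hom (G.toFunctor.mapIso ib)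

/-- The fibre product of two functors from slices is representable as soon as the diagonal is. -/
theorem isRepresentable_fp_of_diag (h𝒮 : FibCat.IsFibGrpd 𝒮.p)
    (hd : FibCat.IsRepresentable1 (Dg 𝒮)) : FibCat.IsRepresentable (FibCat.fp G' G) := by
  have hP : FibCat.IsRepresentable (P (pairing G' G)) := hd (V ⨯ U) (pairing G' G)
  obtain ⟨ξ, hξ⟩ := exists_isTerm_of_isRepresentable hP
  have hξ' := isTerm_map (Φ' G' G) hξ
  exact isRepresentable_of_isTerm hξ'
    (Groth.Agent.Helper2.isFibGrpd_fp G' G (Groth.Agent.Helper2.FibCatLib.isFibGrpd_overCat V)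
      (Groth.Agent.Helper2.FibCatLib.isFibGrpd_overCat U) h𝒮)

end Groth.Agent.Helper2.FibCatLib.DiagRepFwd
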