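import Mathlib
import Groth.Prelude.Def_FibCat2
import Groth.Agent.Lib.Helper2.FibCat.DiagRepFwd
import Groth.Agent.Lib.Helper2.Stk.LocAut

/-!
# The fibre product with the diagonal as a base change of the diagonal of the source (helper2)

For `H : 𝒲 ⟶ 𝒮 ×_C 𝒮` with components `h₁`, `h₂`, the fibre product `𝒲 ×_{𝒮 × 𝒮} 𝒮` is equivalent
to the fibre product of `E = 𝒲 ×_{h₁, 𝒮, h₂} 𝒲 ⟶ 𝒲 ×_C 𝒲` with the diagonal of `𝒲`.
-/

set_option autoImplicit false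
open CategoryTheory CategoryTheory.Functor CategoryTheory.Limits

universe v₃ u₃ v₂ u₂ v u

namespace Groth.Agent.Helper2.FibCatLib.DiagEq

open Groth.Agent.Helper2.FibCatLib.DiagDict Groth.Agent.Helper2.FibCatLib.DiagRepFwd
  Groth.Agent.Helper2.StkLib

variable {C : Type u} [Category.{v} C]
variable {𝒮 : BasedCategory.{v₂, u₂} C} {𝒲 : BasedCategory.{v₃, u₃} C} (H : 𝒲 ⥤ᵇ SS 𝒮)

/-- The fibre product of the two components. -/
abbrev E := FibCat.fp (h₁ H) (h₂ H)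

/-- The canonical functor from the fibre product of the components to the product. -/
def ρ : E H ⥤ᵇ SS 𝒲 :=
  FibCat.fpLift (FibCat.fpFst (h₁ H) (h₂ H)) (FibCat.fpSnd (h₁ H) (h₂ H)) (isoToSelf _ _)

theorem ρ_h₁ : h₁ (ρ H) = FibCat.fpFst (h₁ H) (h₂ H) := rfl

theorem ρ_h₂ : h₂ (ρ H) = FibCat.fpSnd (h₁ H) (h₂ H) := rfl

/-- The object of `E` attached to an object of the fibre product with the diagonal. -/
def eObj (Z : (P H).obj) : (E H).obj :=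
  ⟨⟨Z.obj.fst, Z.obj.fst, fZ H Z⟩, fZ_isHomLift H Z⟩

/-- The morphism of `E` attached to a morphism of the fibre product with the diagonal. -/
def eMap {Z Z' : (P H).obj} (m : Z ⟶ Z') : eObj H Z ⟶ eObj H Z' :=
  ObjectProperty.homMk ⟨m.hom.fst, m.hom.fst, hom_compat H m⟩

/-- The comparison on objects. -/
def ΘObj (Z : (P H).obj) : (P (ρ H)).obj :=
  mkObj (ρ H) (eObj H Z) Z.obj.fst (Iso.refl _) (Iso.refl _)
    (IsHomLift.id (p := 𝒲.p) rfl) (IsHomLift.id (p := 𝒲.p) rfl)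

theorem ΘObj_θ₁ (Z : (P H).obj) : (θ₁ (ρ H) (ΘObj H Z)).hom = 𝟙 _ := rfl

theorem ΘObj_θ₂ (Z : (P H).obj) : (θ₂ (ρ H) (ΘObj H Z)).hom = 𝟙 _ := rfl

/-- The comparison on morphisms. -/
def ΘMap {Z Z' : (P H).obj} (m : Z ⟶ Z') : ΘObj H Z ⟶ ΘObj H Z' :=
  ObjectProperty.homMk
    { fst := eMap H m
      snd := m.hom.fst
      w := by
        apply ObjectProperty.hom_ext
        apply CategoricalPullback.hom_ext
        · change m.hom.fst ≫ 𝟙 _ = 𝟙 _ ≫ m.hom.fst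
          rw [Category.comp_id, Category.id_comp]
        · change m.hom.fst ≫ 𝟙 _ = 𝟙 _ ≫ m.hom.fst
          rw [Category.comp_id, Category.id_comp] }

/-- The comparison functor. -/
def Θ' : (P H).obj ⥤ (P (ρ H)).obj where
  obj := ΘObj H
  map m := ΘMap H m
  map_id Z := by
    apply hom_ext_fst
    rfl
  map_comp m m' := by
    apply hom_ext_fst
    rfl

/-- The comparison functor as a functor over the base. -/
def Θ : P H ⥤ᵇ P (ρ H) where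
  toFunctor := Θ' H
  w := rfl

instance Θ'_faithful : (Θ' H).Faithful where
  map_injective {Z Z'} m m' h := by
    apply hom_ext_fst
    exact congrArg (fun k => k.hom.snd) h

instance Θ'_full : (Θ' H).Full where
  map_surjective {Z Z'} n := by
    have e1 := hom_w₁ (ρ H) n
    have e2 := hom_w₂ (ρ H) n
    have e1' : n.hom.fst.hom.fst = n.hom.snd := by
      have : n.hom.fst.hom.fst ≫ 𝟙 _ = 𝟙 _ ≫ n.hom.snd := e1
      rwa [Category.comp_id, Category.id_comp] at this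
    have e2' : n.hom.fst.hom.snd = n.hom.snd := by
      have : n.hom.fst.hom.snd ≫ 𝟙 _ = 𝟙 _ ≫ n.hom.snd := e2
      rwa [Category.comp_id, Category.id_comp] at this
    have hw : (h₁ H).toFunctor.map n.hom.fst.hom.fst ≫ (fZ H Z').hom =
        (fZ H Z).hom ≫ (h₂ H).toFunctor.map n.hom.fst.hom.snd := n.hom.fst.hom.w
    rw [e1', e2'] at hw
    obtain ⟨m, hm⟩ := exists_hom_of_compat H n.hom.snd hw
    refine ⟨m, ?_⟩
    apply hom_ext_fst
    apply ObjectProperty.hom_ext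
    apply CategoricalPullback.hom_ext
    · exact hm.trans e1'.symm
    · exact hm.trans e2'.symm

omit [Category.{v} C] in
theorem comp_aux {𝒳 : Type u₂} [Category.{v₂} 𝒳] {X Y Z W : 𝒳} (a : X ⟶ Y) (f : Y ⟶ Z)
    (b : Z ≅ W) : a ≫ f = ((a ≫ f ≫ b.hom) ≫ 𝟙 _) ≫ b.inv := by simp

theorem Θ_exists_iso (Y : (P (ρ H)).obj) :
    ∃ (Z : (P H).obj) (e : (Θ H).toFunctor.obj Z ≅ Y),
      (P (ρ H)).p.IsHomLift (𝟙 ((P (ρ H)).p.obj Y)) e.hom := by
  let e₀ : (E H).obj := Y.obj.fst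
  let c₁ : 𝒲.obj := e₀.obj.fst
  let c₂ : 𝒲.obj := e₀.obj.snd
  let c : 𝒲.obj := Y.obj.snd
  let f : (h₁ H).toFunctor.obj c₁ ≅ (h₂ H).toFunctor.obj c₂ := e₀.obj.iso
  let R : C := 𝒲.p.obj c₁
  have hf : 𝒮.p.IsHomLift (𝟙 R) f.hom := e₀.property
  let t₁ : c₁ ≅ c := θ₁ (ρ H) Y
  let t₂ : c₂ ≅ c := θ₂ (ρ H) Y
  have ht₁ : 𝒲.p.IsHomLift (𝟙 R) t₁.hom := θ₁_isHomLift (ρ H) Y
  have ht₂ : 𝒲.p.IsHomLift (𝟙 R) t₂.hom := θ₂_isHomLift (ρ H) Y
  have ht₁i : 𝒲.p.IsHomLift (𝟙 R) t₁.inv := IsHomLift.lift_id_inv _ _ _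
  have ht₂i : 𝒲.p.IsHomLift (𝟙 R) t₂.inv := IsHomLift.lift_id_inv _ _ _
  have hcR : 𝒲.p.obj c = R := IsHomLift.codomain_eq 𝒲.p (𝟙 R) t₁.hom
  have k1 : 𝒮.p.IsHomLift (𝟙 R) ((h₁ H).toFunctor.map t₁.inv) := inferInstance
  have k2 : 𝒮.p.IsHomLift (𝟙 R) ((h₂ H).toFunctor.map t₂.hom) := inferInstance
  let t₁' : (h₁ H).toFunctor.obj c ≅ (h₂ H).toFunctor.obj c :=
    (h₁ H).toFunctor.mapIso t₁.symm ≪≫ f ≪≫ (h₂ H).toFunctor.mapIso t₂
  have k3 : 𝒮.p.IsHomLift (𝟙 R) t₁'.hom := by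
    change 𝒮.p.IsHomLift (𝟙 R) ((h₁ H).toFunctor.map t₁.inv ≫ f.hom ≫ (h₂ H).toFunctor.map t₂.hom)
    infer_instance
  have k4 : 𝒮.p.IsHomLift (𝟙 (𝒲.p.obj c)) t₁'.hom :=
    Groth.Agent.Helper2.FibCatLib.isHomLift_id_cast 𝒮.p hcR.symm _ k3
  let Z : (P H).obj := mkObj H c ((h₂ H).toFunctor.obj c) t₁' (Iso.refl _) k4
    (IsHomLift.id ((h₂ H).w_obj c))
  have hfZ : (fZ H Z).hom = t₁'.hom ≫ (Iso.refl _).inv := mkObj_fZ H _ _ _ _ _ _
  let isoE : eObj H Z ≅ e₀ :=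
    ObjectProperty.isoMk _ (CategoricalPullback.mkIso t₁.symm t₂.symm (by
      change (h₁ H).toFunctor.map t₁.inv ≫ f.hom = (fZ H Z).hom ≫ (h₂ H).toFunctor.map t₂.inv
      rw [hfZ]
      exact comp_aux ((h₁ H).toFunctor.map t₁.inv) f.hom ((h₂ H).toFunctor.mapIso t₂)))
  refine ⟨Z, ObjectProperty.isoMk _ (CategoricalPullback.mkIso isoE (Iso.refl c) ?_), ?_⟩
  · apply ObjectProperty.hom_ext
    apply CategoricalPullback.hom_ext
    · change t₁.inv ≫ t₁.hom = 𝟙 _ ≫ 𝟙 _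
      rw [Iso.inv_hom_id, Category.id_comp]
    · change t₂.inv ≫ t₂.hom = 𝟙 _ ≫ 𝟙 _
      rw [Iso.inv_hom_id, Category.id_comp]
  · apply fp_isHomLift_of_fst
    apply fp_isHomLift_of_fst
    exact ht₁i

theorem Θ_isEquivOver : FibCat.IsEquivOver (Θ H) := by
  have h1 : (Θ H).toFunctor.Full := inferInstanceAs (Θ' H).Full
  have h2 : (Θ H).toFunctor.Faithful := inferInstanceAs (Θ' H).Faithful
  exact isEquivOver_of_fullyFaithful_of_exists_iso _ (Θ_exists_iso H)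

end Groth.Agent.Helper2.FibCatLib.DiagEq
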