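import Mathlib
import Groth.Prelude.Def_FibCat2
import Groth.Agent.Lib.Helper2.FibCat.DiagRepFwd
import Groth.Agent.Lib.Helper2.Stk.LocAut

/-!
# The fibre product of two functors from slices is a base change of the diagonal (helper2)
-/

set_option autoImplicit false
open CategoryTheory CategoryTheory.Functor CategoryTheory.Limits

universe v₃ u₃ v₂ u₂ v u

namespace Groth.Agent.Helper2.FibCatLib.DiagRepFwd

open Groth.Agent.Helper2.FibCatLib.DiagDict Groth.Agent.Helper2.FibCatLib.Repr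
  Groth.Agent.Helper2.FibCatLib.OverFun Groth.Agent.Helper2.StkLib

variable {C : Type u} [Category.{v} C]
variable [HasBinaryProducts C] {𝒮 : BasedCategory.{v₂, u₂} C} {V U : C}
  (G' : FibCat.overCat V ⥤ᵇ 𝒮) (G : FibCat.overCat U ⥤ᵇ 𝒮)

/-- The comparison functor as a functor over the base. -/
noncomputable def ΦB : P (pairing G' G) ⥤ᵇ FibCat.fp G' G where
  toFunctor := Φ' G' G
  w := rfl

theorem ΦB_exists_iso (Y : (FibCat.fp G' G).obj) :
    ∃ (Z : (P (pairing G' G)).obj) (e : (ΦB G' G).toFunctor.obj Z ≅ Y),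
      (FibCat.fp G' G).p.IsHomLift (𝟙 ((FibCat.fp G' G).p.obj Y)) e.hom := by
  let a : Over V := Y.obj.fst
  let b : Over U := Y.obj.snd
  let f : G'.obj a ≅ G.obj b := Y.obj.iso
  have hf : 𝒮.p.IsHomLift (𝟙 a.left) f.hom := Y.property
  have eL : a.left = b.left := ((FibCat.fpSnd G' G).w_obj Y).symm
  let c : Over (V ⨯ U) := Over.mk (prod.lift a.hom (eqToHom eL ≫ b.hom))
  let ia : (Over.map (prod.fst : V ⨯ U ⟶ V)).obj c ≅ a :=
    Over.isoMk (Iso.refl _) ((Category.id_comp _).trans (prod.lift_fst _ _).symm)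
  let ib : (Over.map (prod.snd : V ⨯ U ⟶ U)).obj c ≅ b :=
    Over.isoMk (eqToIso eL) (prod.lift_snd _ _).symm
  have hia : (FibCat.overCat V).p.IsHomLift (𝟙 a.left) ia.hom :=
    over_isHomLift_id_of_left_eq ia.hom rfl rfl
  have h1 : 𝒮.p.IsHomLift (𝟙 a.left) (G'.map ia.hom) := inferInstance
  have h2 : 𝒮.p.IsHomLift (𝟙 a.left) (G.map ib.hom) := by
    apply isHomLift_id_of_eqToHom 𝒮.p eL
    have : (FibCat.overCat U).p.IsHomLift (eqToHom eL) ib.hom := by
      have : (FibCat.overCat U).p.IsHomLift ((FibCat.overCat U).p.map ib.hom) ib.hom :=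
        inferInstance
      exact this
    infer_instance
  have ht₁ : 𝒮.p.IsHomLift (𝟙 a.left) (G'.map ia.hom ≫ f.hom) := inferInstance
  let Z : (P (pairing G' G)).obj :=
    mkObj (pairing G' G) c (G.obj b) (G'.toFunctor.mapIso ia ≪≫ f) (G.toFunctor.mapIso ib) ht₁ h2
  refine ⟨Z, ObjectProperty.isoMk _ (CategoricalPullback.mkIso ia ib ?_), ?_⟩
  · exact comp_inv_hom_aux (G'.toFunctor.mapIso ia).hom f.hom (G.toFunctor.mapIso ib)
  · apply fp_isHomLift_of_fst
    exact hia

theorem ΦB_isEquivOver : FibCat.IsEquivOver (ΦB G' G) := by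
  have h1 : (ΦB G' G).toFunctor.Full := inferInstanceAs (Φ' G' G).Full
  have h2 : (ΦB G' G).toFunctor.Faithful := inferInstanceAs (Φ' G' G).Faithful
  exact isEquivOver_of_fullyFaithful_of_exists_iso _ (ΦB_exists_iso G' G)

end Groth.Agent.Helper2.FibCatLib.DiagRepFwd
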