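import Mathlib
import Groth.Prelude.Def_FibCat2
import Groth.Agent.Lib.Helper2.FibCat.RelDiag
import Groth.Agent.Lib.Helper2.EquivOver

/-!
# The relative inertia is the self-intersection of the diagonal (helper2)

For `f : 𝒳 ⟶ 𝒴` the functor `𝒳 ×_{Δ, 𝒳 ×_𝒴 𝒳, Δ} 𝒳 ⟶ I_{𝒳/𝒴}` is an equivalence over the base,
under which the first projection is the structure functor of the inertia and the second diagonal
is the neutral section.
-/

set_option autoImplicit false
open CategoryTheory CategoryTheory.Functor CategoryTheory.Limits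

universe v₃ u₃ v₂ u₂ v u

namespace Groth.Agent.Helper2.FibCatLib.InertiaFp

open Groth.Agent.Helper2.FibCatLib.RelDiag Groth.Agent.Helper2.StkLib
open Groth.Agent.Helper2.FibCatLib

variable {C : Type u} [Category.{v} C]
variable {𝒳 : BasedCategory.{v₂, u₂} C} {𝒴 : BasedCategory.{v₃, u₃} C}
variable (f : 𝒳 ⥤ᵇ 𝒴)

/-- The self-intersection of the diagonal. -/
abbrev DD := FibCat.fp (FibCat.diag f) (FibCat.diag f)

/-- The comparison on objects. -/
def ΦObj (Z : (DD f).obj) : FibCat.InertiaObj f where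
  pt := Z.obj.fst
  aut := fZ (FibCat.diag f) Z
  map_aut := g_fZ (FibCat.diag f) Z

/-- The comparison on morphisms. -/
def ΦMap {Z Z' : (DD f).obj} (m : Z ⟶ Z') : ΦObj f Z ⟶ ΦObj f Z' where
  hom := m.hom.fst
  comm := (hom_compat (FibCat.diag f) m).symm

/-- The comparison functor. -/
def Φ' : (DD f).obj ⥤ FibCat.InertiaObj f where
  obj := ΦObj f
  map m := ΦMap f m
  map_id Z := by
    apply FibCat.InertiaObj.hom_ext
    rfl
  map_comp m m' := by
    apply FibCat.InertiaObj.hom_ext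
    rfl

/-- The comparison functor over the base. -/
def Φ : DD f ⥤ᵇ FibCat.inertia f where
  toFunctor := Φ' f
  w := rfl

/-- The comparison functor carries the first projection to the structure functor. -/
theorem Φ_toBase : BasedFunctor.comp (Φ f) (FibCat.inertiaToBase f) =
    FibCat.fpFst (FibCat.diag f) (FibCat.diag f) := rfl

instance Φ'_faithful : (Φ' f).Faithful where
  map_injective {Z Z'} m m' h :=
    hom_ext_fst (FibCat.diag f) m m' (congrArg (fun k => k.hom) h)

instance Φ'_full : (Φ' f).Full where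
  map_surjective {Z Z'} n := by
    obtain ⟨m, hm⟩ := exists_hom_of_compat (FibCat.diag f) (Z := Z) (Z' := Z') n.hom n.comm.symm
    refine ⟨m, ?_⟩
    apply FibCat.InertiaObj.hom_ext
    exact hm

theorem isHomLift_aut (a : FibCat.InertiaObj f) : 𝒳.p.IsHomLift (𝟙 (𝒳.p.obj a.pt)) a.aut.hom := by
  have h1 : 𝒴.p.IsHomLift (𝟙 (𝒳.p.obj a.pt)) (f.map a.aut.hom) := by
    have h2 : f.map a.aut.hom = 𝟙 (f.obj a.pt) := a.map_aut
    rw [h2]
    exact IsHomLift.id (p := 𝒴.p) (f.w_obj a.pt)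
  exact BasedFunctor.isHomLift_map f _ _

omit [Category.{v} C] in
theorem aux_comm {𝒟 : Type u₂} [Category.{v₂} 𝒟] {A : 𝒟} (α β : A ⟶ A) (h : β = α ≫ 𝟙 A) :
    β ≫ 𝟙 A = 𝟙 A ≫ α := by
  subst h
  simp

omit [Category.{v} C] in
theorem aux_comm' {𝒟 : Type u₂} [Category.{v₂} 𝒟] {A : 𝒟} (α β : A ⟶ A) (h : β = α ≫ 𝟙 A) :
    α ≫ 𝟙 A = 𝟙 A ≫ β := by
  subst h
  simp

theorem Φ_exists_iso (a : FibCat.InertiaObj f) :
    ∃ (Z : (DD f).obj) (e : (Φ f).toFunctor.obj Z ≅ a),
      (FibCat.inertia f).p.IsHomLift (𝟙 ((FibCat.inertia f).p.obj a)) e.hom := by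
  let Z : (DD f).obj := mkObj (FibCat.diag f) a.pt a.pt a.aut (Iso.refl a.pt) (isHomLift_aut f a)
    (by
      change f.toFunctor.map a.aut.hom = 𝟙 _ ≫ f.toFunctor.map (𝟙 a.pt)
      rw [Category.id_comp, f.toFunctor.map_id]
      exact a.map_aut)
  have hZ : (fZ (FibCat.diag f) Z).hom = a.aut.hom ≫ 𝟙 a.pt := rfl
  let e : (Φ f).toFunctor.obj Z ≅ a :=
    { hom := ⟨𝟙 a.pt, aux_comm a.aut.hom (fZ (FibCat.diag f) Z).hom hZ⟩
      inv := ⟨𝟙 a.pt, aux_comm' a.aut.hom (fZ (FibCat.diag f) Z).hom hZ⟩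
      hom_inv_id := by
        apply FibCat.InertiaObj.hom_ext
        exact Category.comp_id _
      inv_hom_id := by
        apply FibCat.InertiaObj.hom_ext
        exact Category.comp_id _ }
  refine ⟨Z, e, ?_⟩
  change ((FibCat.InertiaObj.forget (F := f)) ⋙ 𝒳.p).IsHomLift (𝟙 (𝒳.p.obj a.pt)) e.hom
  exact IsHomLift.map (FibCat.InertiaObj.forget (F := f) ⋙ 𝒳.p) e.hom |> fun h => by
    have h2 : (FibCat.InertiaObj.forget (F := f) ⋙ 𝒳.p).map e.hom = 𝟙 (𝒳.p.obj a.pt) :=
      𝒳.p.map_id a.pt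
    rw [h2] at h
    exact h

theorem Φ_isEquivOver : FibCat.IsEquivOver (Φ f) := by
  have : (Φ f).toFunctor.Full := Φ'_full f
  have : (Φ f).toFunctor.Faithful := Φ'_faithful f
  exact isEquivOver_of_fullyFaithful_of_exists_iso _ (Φ_exists_iso f)

/-- The comparison functor carries the second diagonal to the neutral section. -/
def neutralIso : BasedFunctor.comp (FibCat.diag (FibCat.diag f)) (Φ f) ≅
    FibCat.inertiaNeutral f :=
  BasedNatIso.mkNatIso
    (NatIso.ofComponents
      (fun x =>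
        { hom := ⟨𝟙 x, aux_comm (𝟙 x)
            (fZ (FibCat.diag f) ((FibCat.diag (FibCat.diag f)).obj x)).hom rfl⟩
          inv := ⟨𝟙 x, aux_comm' (𝟙 x)
            (fZ (FibCat.diag f) ((FibCat.diag (FibCat.diag f)).obj x)).hom rfl⟩
          hom_inv_id := by
            apply FibCat.InertiaObj.hom_ext
            exact Category.comp_id _
          inv_hom_id := by
            apply FibCat.InertiaObj.hom_ext
            exact Category.comp_id _ })
      (by
        intro x x' φ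
        apply FibCat.InertiaObj.hom_ext
        exact (Category.comp_id _).trans (Category.id_comp _).symm))
    (by
      intro x
      have h : 𝒳.p.IsHomLift (𝟙 (𝒳.p.obj x)) (𝟙 x) := IsHomLift.id (p := 𝒳.p) (a := x) rfl
      exact (DiagDict.isHomLift_comp_iff (FibCat.InertiaObj.forget (F := f)) 𝒳.p _ _).2 h)

end Groth.Agent.Helper2.FibCatLib.InertiaFp
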