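import Mathlib
import Groth.Prelude.Def_FibCat2
import Groth.Agent.Lib.Helper2.FibCat.Paste
import Groth.Agent.Lib.Helper2.FibCat.FpSwap

/-!
# Base change maps between 2-fibre products (helper2)

For `β : 𝒜 ⟶ 𝒴` the functor `𝒳 ×_𝒮 𝒜 ⟶ 𝒳 ×_𝒮 𝒴` is a base change of `β`; for `α : 𝒜 ⟶ 𝒳` the
functor `𝒜 ×_𝒮 𝒴 ⟶ 𝒳 ×_𝒮 𝒴` is a base change of `α`.
-/

set_option autoImplicit false
open CategoryTheory CategoryTheory.Functor CategoryTheory.Limits

universe w₁ w₂ w₃ w₄ t₁ t₂ t₃ t₄ v u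

namespace Groth.Agent.Helper2.FibCatLib.FpBC

open Groth.Agent.Helper2.StkLib

theorem comm_aux {𝒟 : Type t₁} [Category.{w₁} 𝒟] {A A' z z' : 𝒟} (a : A ⟶ A') (ψ : A ≅ z)
    (ψ' : A' ≅ z') (s : z ⟶ z') (e1 : a ≫ ψ'.hom = ψ.hom ≫ s) : s ≫ ψ'.inv = ψ.inv ≫ a := by
  rw [Iso.comp_inv_eq, Category.assoc, e1, Iso.inv_hom_id_assoc]

variable {C : Type u} [Category.{v} C]
variable {𝒳 : BasedCategory.{w₁, t₁} C} {𝒴 : BasedCategory.{w₂, t₂} C}
  {𝒮 : BasedCategory.{w₃, t₃} C} {𝒜 : BasedCategory.{w₄, t₄} C}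

section Snd

variable (F : 𝒳 ⥤ᵇ 𝒮) (G : 𝒴 ⥤ᵇ 𝒮) (β : 𝒜 ⥤ᵇ 𝒴)

/-- The functor `𝒳 ×_𝒮 𝒜 ⟶ 𝒳 ×_𝒮 𝒴` induced by `β : 𝒜 ⟶ 𝒴`. -/
def mapSnd : FibCat.fp F (BasedFunctor.comp β G) ⥤ᵇ FibCat.fp F G where
  toFunctor :=
    { obj := fun Z => ⟨{ fst := Z.obj.fst, snd := β.obj Z.obj.snd, iso := Z.obj.iso }, Z.property⟩
      map := fun {Z Z'} m =>
        ObjectProperty.homMk { fst := m.hom.fst, snd := β.map m.hom.snd, w := m.hom.w }
      map_id := fun Z => by
        apply ObjectProperty.hom_ext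
        apply CategoricalPullback.hom_ext
        · rfl
        · exact β.toFunctor.map_id _
      map_comp := fun m m' => by
        apply ObjectProperty.hom_ext
        apply CategoricalPullback.hom_ext
        · rfl
        · exact β.toFunctor.map_comp _ _ }
  w := rfl

theorem mapSnd_fst : BasedFunctor.comp (mapSnd F G β) (FibCat.fpFst F G) =
    FibCat.fpFst F (BasedFunctor.comp β G) := rfl

theorem mapSnd_snd : BasedFunctor.comp (mapSnd F G β) (FibCat.fpSnd F G) =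
    BasedFunctor.comp (FibCat.fpSnd F (BasedFunctor.comp β G)) β := rfl

/-- `mapSnd` is the base change of `β` along the second projection. -/
def pasteAMapSndIso : FibCat.fpFst (FibCat.fpSnd F G) β ≅
    BasedFunctor.comp (Paste.pasteA F G β) (mapSnd F G β) :=
  BasedNatIso.mkNatIso
    (NatIso.ofComponents
      (fun Q => ObjectProperty.isoMk _ (CategoricalPullback.mkIso (Iso.refl _) Q.obj.iso (by
        change F.map (𝟙 _) ≫ (Q.obj.fst.obj.iso.hom ≫ G.map Q.obj.iso.hom) =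
          Q.obj.fst.obj.iso.hom ≫ G.map Q.obj.iso.hom
        simp)))
      (by
        intro Q Q' m
        apply ObjectProperty.hom_ext
        apply CategoricalPullback.hom_ext
        · exact (Category.comp_id _).trans (Category.id_comp _).symm
        · exact m.hom.w))
    (by
      intro Q
      apply fp_isHomLift_of_fst
      have h : 𝒳.p.IsHomLift (𝟙 (𝒳.p.obj Q.obj.fst.obj.fst)) (𝟙 Q.obj.fst.obj.fst) :=
        IsHomLift.id rfl
      exact h)

end Snd

section Fst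

variable (F : 𝒳 ⥤ᵇ 𝒮) (G : 𝒴 ⥤ᵇ 𝒮) (α : 𝒜 ⥤ᵇ 𝒳)

/-- The functor `𝒜 ×_𝒮 𝒴 ⟶ 𝒳 ×_𝒮 𝒴` induced by `α : 𝒜 ⟶ 𝒳`. -/
def mapFst : FibCat.fp (BasedFunctor.comp α F) G ⥤ᵇ FibCat.fp F G where
  toFunctor :=
    { obj := fun Z => ⟨{ fst := α.obj Z.obj.fst, snd := Z.obj.snd, iso := Z.obj.iso },
        isHomLift_id_cast _ (α.w_obj Z.obj.fst).symm _ Z.property⟩
      map := fun {Z Z'} m =>
        ObjectProperty.homMk { fst := α.map m.hom.fst, snd := m.hom.snd, w := m.hom.w }
      map_id := fun Z => by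
        apply ObjectProperty.hom_ext
        apply CategoricalPullback.hom_ext
        · exact α.toFunctor.map_id _
        · rfl
      map_comp := fun m m' => by
        apply ObjectProperty.hom_ext
        apply CategoricalPullback.hom_ext
        · exact α.toFunctor.map_comp _ _
        · rfl }
  w := congrArg (fun k => (FibCat.fpFst (BasedFunctor.comp α F) G).toFunctor ⋙ k) α.w

theorem mapFst_fst : BasedFunctor.comp (mapFst F G α) (FibCat.fpFst F G) =
    BasedFunctor.comp (FibCat.fpFst (BasedFunctor.comp α F) G) α := rfl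

theorem mapFst_snd : BasedFunctor.comp (mapFst F G α) (FibCat.fpSnd F G) =
    FibCat.fpSnd (BasedFunctor.comp α F) G := rfl

/-- `mapFst` is the base change of `α` along the first projection. -/
def pasteBMapFstIso : FibCat.fpSnd α (FibCat.fpFst F G) ≅
    BasedFunctor.comp (Paste.pasteB α F G) (mapFst F G α) :=
  BasedNatIso.mkNatIso
    (NatIso.ofComponents
      (fun Q => ObjectProperty.isoMk _ (CategoricalPullback.mkIso Q.obj.iso.symm (Iso.refl _) (by
        change F.map Q.obj.iso.inv ≫ (F.map Q.obj.iso.hom ≫ Q.obj.snd.obj.iso.hom) =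
          Q.obj.snd.obj.iso.hom ≫ G.map (𝟙 _)
        rw [← Category.assoc, ← F.toFunctor.map_comp, Iso.inv_hom_id]
        simp)))
      (by
        intro Q Q' m
        apply ObjectProperty.hom_ext
        apply CategoricalPullback.hom_ext
        · have e1 : α.map m.hom.fst ≫ Q'.obj.iso.hom = Q.obj.iso.hom ≫ m.hom.snd.hom.fst :=
            m.hom.w
          exact comm_aux _ _ _ _ e1
        · exact (Category.comp_id _).trans (Category.id_comp _).symm))
    (by
      intro Q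
      apply fp_isHomLift_of_fst
      have h1 : 𝒳.p.IsHomLift (𝟙 (𝒜.p.obj Q.obj.fst)) Q.obj.iso.hom := Q.property
      have h2 : 𝒳.p.IsHomLift (𝟙 (𝒜.p.obj Q.obj.fst)) Q.obj.iso.inv :=
        IsHomLift.lift_id_inv _ _ _
      exact h2)

end Fst

end Groth.Agent.Helper2.FibCatLib.FpBC
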