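import Mathlib
import Groth.Prelude.Def_FibCat2
import Groth.Prelude.Def_W4stkcategoriessitesFib
import Groth.Agent.Lib.Helper2.FibCat.EquivCrit

/-!
# Cartesian morphisms and equivalences over the base (helper2)
-/

set_option autoImplicit false
open CategoryTheory CategoryTheory.Functor

universe v₄ u₄ v₃ u₃ v₂ u₂ v u

namespace Groth.Agent.Helper2.FibCatLib

variable {C : Type u} [Category.{v} C]
variable {𝒳 : BasedCategory.{v₂, u₂} C} {𝒴 : BasedCategory.{v₃, u₃} C}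

/-- A fully faithful functor over `C` reflects cartesian morphisms. -/
theorem isCartesian_of_map (F : 𝒳 ⥤ᵇ 𝒴) [F.toFunctor.Full] [F.toFunctor.Faithful]
    {R S : C} (f : R ⟶ S) {a b : 𝒳.obj} (φ : a ⟶ b)
    (h : 𝒴.p.IsCartesian f (F.toFunctor.map φ)) : 𝒳.p.IsCartesian f φ := by
  have h0 : 𝒴.p.IsHomLift f (F.map φ) := h.toIsHomLift
  have : 𝒳.p.IsHomLift f φ := BasedFunctor.isHomLift_map F f φ
  refine ⟨?_⟩
  intro a' φ' hφ'
  have h1 : 𝒴.p.IsHomLift f (F.toFunctor.map φ') := BasedFunctor.preserves_isHomLift F f φ'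
  obtain ⟨χ', ⟨hχ1, hχ2⟩, hu⟩ := h.universal_property (F.toFunctor.map φ')
  refine ⟨F.toFunctor.preimage χ', ⟨?_, ?_⟩, ?_⟩
  · have : 𝒴.p.IsHomLift (𝟙 R) (F.map (F.toFunctor.preimage χ')) := by
      change 𝒴.p.IsHomLift (𝟙 R) (F.toFunctor.map (F.toFunctor.preimage χ'))
      rw [Functor.map_preimage]; exact hχ1
    exact BasedFunctor.isHomLift_map F _ _
  · apply F.toFunctor.map_injective
    rw [Functor.map_comp, Functor.map_preimage, hχ2]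
  · rintro χ₂ ⟨k1, k2⟩
    apply F.toFunctor.map_injective
    rw [Functor.map_preimage]
    apply hu
    refine ⟨BasedFunctor.preserves_isHomLift F _ χ₂, ?_⟩
    rw [← Functor.map_comp, k2]

/-- A fully faithful functor over `C` reflects strongly cartesian morphisms. -/
theorem isStronglyCartesian_of_map (F : 𝒳 ⥤ᵇ 𝒴) [F.toFunctor.Full] [F.toFunctor.Faithful]
    {R S : C} (f : R ⟶ S) {a b : 𝒳.obj} (φ : a ⟶ b)
    (h : 𝒴.p.IsStronglyCartesian f (F.toFunctor.map φ)) : 𝒳.p.IsStronglyCartesian f φ := by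
  have h0 : 𝒴.p.IsHomLift f (F.map φ) := h.toIsHomLift
  have : 𝒳.p.IsHomLift f φ := BasedFunctor.isHomLift_map F f φ
  refine ⟨?_⟩
  intro a' g φ' hφ'
  have h1 : 𝒴.p.IsHomLift (g ≫ f) (F.toFunctor.map φ') :=
    BasedFunctor.preserves_isHomLift F (g ≫ f) φ'
  obtain ⟨χ', ⟨hχ1, hχ2⟩, hu⟩ :=
    IsStronglyCartesian.universal_property 𝒴.p f (F.toFunctor.map φ) g (g ≫ f) rfl
      (F.toFunctor.map φ')
  refine ⟨F.toFunctor.preimage χ', ⟨?_, ?_⟩, ?_⟩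
  · have : 𝒴.p.IsHomLift g (F.map (F.toFunctor.preimage χ')) := by
      change 𝒴.p.IsHomLift g (F.toFunctor.map (F.toFunctor.preimage χ'))
      rw [Functor.map_preimage]; exact hχ1
    exact BasedFunctor.isHomLift_map F _ _
  · apply F.toFunctor.map_injective
    rw [Functor.map_comp, Functor.map_preimage, hχ2]
  · rintro χ₂ ⟨k1, k2⟩
    apply F.toFunctor.map_injective
    rw [Functor.map_preimage]
    apply hu
    refine ⟨BasedFunctor.preserves_isHomLift F _ χ₂, ?_⟩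
    rw [← Functor.map_comp, k2]

/-- An equivalence over `C` preserves cartesian morphisms. -/
theorem isCartesian_map (F : 𝒳 ⥤ᵇ 𝒴) [F.toFunctor.Full] [F.toFunctor.Faithful]
    (hes : ∀ η : 𝒴.obj, ∃ (ξ : 𝒳.obj) (e : F.toFunctor.obj ξ ≅ η),
      𝒴.p.IsHomLift (𝟙 (𝒴.p.obj η)) e.hom)
    {R S : C} (f : R ⟶ S) {a b : 𝒳.obj} (φ : a ⟶ b)
    (h : 𝒳.p.IsCartesian f φ) : 𝒴.p.IsCartesian f (F.toFunctor.map φ) := by
  have : 𝒴.p.IsHomLift f (F.toFunctor.map φ) := BasedFunctor.preserves_isHomLift F f φ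
  refine ⟨?_⟩
  intro a' φ' hφ'
  obtain ⟨x, θ, hθ⟩ := hes a'
  have ha' : 𝒴.p.obj a' = R := IsHomLift.domain_eq 𝒴.p f φ'
  have hθ1 : 𝒴.p.IsHomLift (𝟙 R) θ.hom := isHomLift_id_cast 𝒴.p ha' _ hθ
  have hθ2 : 𝒴.p.IsHomLift (𝟙 R) θ.inv := IsHomLift.lift_id_inv _ _ _
  have h1 : 𝒴.p.IsHomLift f (θ.hom ≫ φ') :=
    isHomLift_congr' 𝒴.p (Category.id_comp f) _ inferInstance
  have h2 : 𝒴.p.IsHomLift f (F.map (F.toFunctor.preimage (θ.hom ≫ φ'))) := by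
    change 𝒴.p.IsHomLift f (F.toFunctor.map (F.toFunctor.preimage (θ.hom ≫ φ')))
    rw [Functor.map_preimage]; exact h1
  have h3 : 𝒳.p.IsHomLift f (F.toFunctor.preimage (θ.hom ≫ φ')) :=
    BasedFunctor.isHomLift_map F _ _
  obtain ⟨χ₀, ⟨hχ1, hχ2⟩, hu⟩ := h.universal_property (F.toFunctor.preimage (θ.hom ≫ φ'))
  have h4 : 𝒴.p.IsHomLift (𝟙 R) (F.toFunctor.map χ₀) :=
    BasedFunctor.preserves_isHomLift F _ χ₀
  refine ⟨θ.inv ≫ F.toFunctor.map χ₀, ⟨?_, ?_⟩, ?_⟩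
  · exact isHomLift_congr' 𝒴.p (Category.id_comp _) _ inferInstance
  · rw [Category.assoc, ← Functor.map_comp, hχ2, Functor.map_preimage, Iso.inv_hom_id_assoc]
  · rintro χ' ⟨k1, k2⟩
    have h5 : 𝒴.p.IsHomLift (𝟙 R) (θ.hom ≫ χ') :=
      isHomLift_congr' 𝒴.p (Category.id_comp _) _ inferInstance
    have h6 : 𝒴.p.IsHomLift (𝟙 R) (F.map (F.toFunctor.preimage (θ.hom ≫ χ'))) := by
      change 𝒴.p.IsHomLift (𝟙 R) (F.toFunctor.map (F.toFunctor.preimage (θ.hom ≫ χ')))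
      rw [Functor.map_preimage]; exact h5
    have h7 : 𝒳.p.IsHomLift (𝟙 R) (F.toFunctor.preimage (θ.hom ≫ χ')) :=
      BasedFunctor.isHomLift_map F _ _
    have h8 : F.toFunctor.preimage (θ.hom ≫ χ') = χ₀ := by
      apply hu
      refine ⟨h7, ?_⟩
      apply F.toFunctor.map_injective
      rw [Functor.map_comp, Functor.map_preimage, Functor.map_preimage, Category.assoc, k2]
    rw [← h8, Functor.map_preimage, Iso.inv_hom_id_assoc]

/-- An equivalence over `C` preserves strongly cartesian morphisms. -/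
theorem isStronglyCartesian_map (F : 𝒳 ⥤ᵇ 𝒴) [F.toFunctor.Full] [F.toFunctor.Faithful]
    (hes : ∀ η : 𝒴.obj, ∃ (ξ : 𝒳.obj) (e : F.toFunctor.obj ξ ≅ η),
      𝒴.p.IsHomLift (𝟙 (𝒴.p.obj η)) e.hom)
    {R S : C} (f : R ⟶ S) {a b : 𝒳.obj} (φ : a ⟶ b)
    (h : 𝒳.p.IsStronglyCartesian f φ) : 𝒴.p.IsStronglyCartesian f (F.toFunctor.map φ) := by
  have : 𝒴.p.IsHomLift f (F.toFunctor.map φ) := BasedFunctor.preserves_isHomLift F f φ
  refine ⟨?_⟩
  intro a' g φ' hφ'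
  obtain ⟨x, θ, hθ⟩ := hes a'
  have hθ2 : 𝒴.p.IsHomLift (𝟙 (𝒴.p.obj a')) θ.inv := IsHomLift.lift_id_inv _ _ _
  have h1 : 𝒴.p.IsHomLift (g ≫ f) (θ.hom ≫ φ') :=
    isHomLift_congr' 𝒴.p (Category.id_comp _) _ inferInstance
  have h2 : 𝒴.p.IsHomLift (g ≫ f) (F.map (F.toFunctor.preimage (θ.hom ≫ φ'))) := by
    change 𝒴.p.IsHomLift (g ≫ f) (F.toFunctor.map (F.toFunctor.preimage (θ.hom ≫ φ')))
    rw [Functor.map_preimage]; exact h1
  have h3 : 𝒳.p.IsHomLift (g ≫ f) (F.toFunctor.preimage (θ.hom ≫ φ')) :=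
    BasedFunctor.isHomLift_map F _ _
  obtain ⟨χ₀, ⟨hχ1, hχ2⟩, hu⟩ := IsStronglyCartesian.universal_property 𝒳.p f φ g (g ≫ f) rfl
    (F.toFunctor.preimage (θ.hom ≫ φ'))
  have h4 : 𝒴.p.IsHomLift g (F.toFunctor.map χ₀) :=
    BasedFunctor.preserves_isHomLift F _ χ₀
  refine ⟨θ.inv ≫ F.toFunctor.map χ₀, ⟨?_, ?_⟩, ?_⟩
  · exact isHomLift_congr' 𝒴.p (Category.id_comp _) _ inferInstance
  · rw [Category.assoc, ← Functor.map_comp, hχ2, Functor.map_preimage, Iso.inv_hom_id_assoc]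
  · rintro χ' ⟨k1, k2⟩
    have h5 : 𝒴.p.IsHomLift g (θ.hom ≫ χ') :=
      isHomLift_congr' 𝒴.p (Category.id_comp _) _ inferInstance
    have h6 : 𝒴.p.IsHomLift g (F.map (F.toFunctor.preimage (θ.hom ≫ χ'))) := by
      change 𝒴.p.IsHomLift g (F.toFunctor.map (F.toFunctor.preimage (θ.hom ≫ χ')))
      rw [Functor.map_preimage]; exact h5
    have h7 : 𝒳.p.IsHomLift g (F.toFunctor.preimage (θ.hom ≫ χ')) :=
      BasedFunctor.isHomLift_map F _ _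
    have h8 : F.toFunctor.preimage (θ.hom ≫ χ') = χ₀ := by
      apply hu
      refine ⟨h7, ?_⟩
      apply F.toFunctor.map_injective
      rw [Functor.map_comp, Functor.map_preimage, Functor.map_preimage, Category.assoc, k2]
    rw [← h8, Functor.map_preimage, Iso.inv_hom_id_assoc]

theorem isCartesian_map_iff_of_isEquivOver (F : 𝒳 ⥤ᵇ 𝒴) (hF : FibCat.IsEquivOver F)
    {R S : C} (f : R ⟶ S) {a b : 𝒳.obj} (φ : a ⟶ b) :
    𝒴.p.IsCartesian f (F.toFunctor.map φ) ↔ 𝒳.p.IsCartesian f φ := by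
  obtain ⟨⟨h1, h2⟩, h3⟩ := (isEquivOver_iff F).1 hF
  exact ⟨isCartesian_of_map F f φ, isCartesian_map F h3 f φ⟩

theorem isStronglyCartesian_map_iff_of_isEquivOver (F : 𝒳 ⥤ᵇ 𝒴) (hF : FibCat.IsEquivOver F)
    {R S : C} (f : R ⟶ S) {a b : 𝒳.obj} (φ : a ⟶ b) :
    𝒴.p.IsStronglyCartesian f (F.toFunctor.map φ) ↔ 𝒳.p.IsStronglyCartesian f φ := by
  obtain ⟨⟨h1, h2⟩, h3⟩ := (isEquivOver_iff F).1 hF
  exact ⟨isStronglyCartesian_of_map F f φ, isStronglyCartesian_map F h3 f φ⟩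

theorem preservesStronglyCartesian_of_isEquivOver (F : 𝒳 ⥤ᵇ 𝒴) (hF : FibCat.IsEquivOver F) :
    FibCat.PreservesStronglyCartesian F := by
  intro R S f a b φ h
  exact (isStronglyCartesian_map_iff_of_isEquivOver F hF f φ).2 h

end Groth.Agent.Helper2.FibCatLib
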