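import Mathlib

/-!
# The Grothendieck construction of a strict functor: explicit identities and composites (helper2)
-/

set_option autoImplicit false
open CategoryTheory CategoryTheory.Functor Opposite

universe v₂ u₂ v u

namespace Groth.Agent.Helper2.FibCatLib.StrictGroth

variable {𝒮 : Type u} [Category.{v} 𝒮] (F : 𝒮ᵒᵖ ⥤ Cat.{v₂, u₂})

theorem id_fiber_aux (X : Pseudofunctor.CoGrothendieck F.toPseudofunctor') :
    X.fiber = (F.map (𝟙 (op X.base))).toFunctor.obj X.fiber := by
  rw [F.map_id]; rfl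

theorem id_fiber (X : Pseudofunctor.CoGrothendieck F.toPseudofunctor') :
    (𝟙 X : X ⟶ X).fiber = eqToHom (id_fiber_aux F X) :=
  Cat.eqToHom_app (𝟙 (F.obj (op X.base))) (F.map (𝟙 (op X.base))) (F.map_id (op X.base)).symm
    X.fiber

theorem comp_fiber_aux {X Y Z : Pseudofunctor.CoGrothendieck F.toPseudofunctor'} (f : X ⟶ Y)
    (g : Y ⟶ Z) :
    (F.map f.base.op).toFunctor.obj ((F.map g.base.op).toFunctor.obj Z.fiber) =
      (F.map (f.base ≫ g.base).op).toFunctor.obj Z.fiber := by
  rw [op_comp, F.map_comp]; rfl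

theorem comp_fiber {X Y Z : Pseudofunctor.CoGrothendieck F.toPseudofunctor'} (f : X ⟶ Y)
    (g : Y ⟶ Z) :
    (f ≫ g).fiber = f.fiber ≫ (F.map f.base.op).toFunctor.map g.fiber ≫
      eqToHom (comp_fiber_aux F f g) := by
  change f.fiber ≫ (F.map f.base.op).toFunctor.map g.fiber ≫ _ = _
  congr 2
  exact Cat.eqToHom_app (F.map g.base.op ≫ F.map f.base.op) (F.map (g.base.op ≫ f.base.op))
    (F.map_comp g.base.op f.base.op).symm Z.fiber

end Groth.Agent.Helper2.FibCatLib.StrictGroth
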