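import Mathlib
import Groth.Prelude.Def_FibClv
import Groth.Agent.Lib.Helper2.FibCat.EquivCrit
import Groth.Agent.Lib.Helper2.FibCat.StrictGroth

/-!
# A fibred category with a splitting is isomorphic to the category of a strict functor (helper2)
-/

set_option autoImplicit false
open CategoryTheory CategoryTheory.Functor

universe v₁ u₁ v₂ u₂

namespace Groth.Agent.Helper2.FibCatLib.Cleav

section IsoOfBij

variable {𝒜 : Type u₁} [Category.{v₁} 𝒜] {ℬ : Type u₂} [Category.{v₂} ℬ]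

/-- A fully faithful functor which is bijective on objects has a strict inverse. -/
theorem exists_strict_inverse (Ψ : 𝒜 ⥤ ℬ) [Ψ.Full] [Ψ.Faithful] (inv : ℬ → 𝒜)
    (h1 : ∀ b, Ψ.obj (inv b) = b) (h2 : ∀ a, inv (Ψ.obj a) = a) :
    ∃ Φ : ℬ ⥤ 𝒜, Φ ⋙ Ψ = 𝟭 ℬ ∧ Ψ ⋙ Φ = 𝟭 𝒜 := by
  let Φ : ℬ ⥤ 𝒜 :=
    { obj := inv
      map := fun {b b'} φ => Ψ.preimage (eqToHom (h1 b) ≫ φ ≫ eqToHom (h1 b').symm)
      map_id := fun b => by
        apply Ψ.map_injective
        simp
      map_comp := fun {b b' b''} φ ψ => by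
        apply Ψ.map_injective
        simp }
  have e1 : Φ ⋙ Ψ = 𝟭 ℬ := by
    refine CategoryTheory.Functor.ext h1 (fun b b' φ => ?_)
    simp [Φ]
  refine ⟨Φ, e1, ?_⟩
  refine CategoryTheory.Functor.ext h2 (fun a a' f => ?_)
  apply Ψ.map_injective
  simp [Φ, eqToHom_map]

end IsoOfBij

variable {𝒮 : Type u₁} [Category.{v₁} 𝒮] {𝒳 : Type u₂} [Category.{v₂} 𝒳] {p : 𝒳 ⥤ 𝒮}
  (K : FibCat.Cleavage p)

section Fib

variable {S : 𝒮}

theorem eqToHom_val {A B : p.Fiber S} (e : A = B) :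
    (eqToHom e : A ⟶ B).1 = eqToHom (congrArg Subtype.val e) := by
  subst e
  rfl

theorem comp_val {A B D : p.Fiber S} (φ : A ⟶ B) (ψ : B ⟶ D) : (φ ≫ ψ).1 = φ.1 ≫ ψ.1 := rfl

instance hom_isHomLift {A B : p.Fiber S} (φ : A ⟶ B) : p.IsHomLift (𝟙 S) φ.1 := φ.2

end Fib

/-- Pull back along a morphism of the base. -/
noncomputable abbrev pull {R S : 𝒮} (f : R ⟶ S) (a : p.Fiber S) : p.Fiber R :=
  (K.inverseImage f).obj a

/-- The chosen cartesian morphism. -/
def c {R S : 𝒮} (f : R ⟶ S) (a : p.Fiber S) : (pull K f a).1 ⟶ a.1 := K.lift a.2 f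

instance c_isCartesian {R S : 𝒮} (f : R ⟶ S) (a : p.Fiber S) : p.IsCartesian f (c K f a) :=
  K.isCartesian a.2 f

instance c_isStronglyCartesian [p.IsFibered] {R S : 𝒮} (f : R ⟶ S) (a : p.Fiber S) :
    p.IsStronglyCartesian f (c K f a) := inferInstance

/-- The action of pulling back on morphisms. -/
noncomputable abbrev pullMap {R S : 𝒮} (f : R ⟶ S) {a b : p.Fiber S} (φ : a ⟶ b) :
    pull K f a ⟶ pull K f b := (K.inverseImage f).map φ

theorem pullMap_c {R S : 𝒮} (f : R ⟶ S) {a b : p.Fiber S} (φ : a ⟶ b) :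
    (pullMap K f φ).1 ≫ c K f b = c K f a ≫ φ.1 :=
  IsCartesian.fac p f (K.lift b.2 f) (K.lift a.2 f ≫ Fiber.fiberInclusion.map φ)

theorem pullMap_c_assoc {R S : 𝒮} (f : R ⟶ S) {a b : p.Fiber S} (φ : a ⟶ b) {z : 𝒳}
    (h : b.1 ⟶ z) : (pullMap K f φ).1 ≫ c K f b ≫ h = c K f a ≫ φ.1 ≫ h := by
  rw [← Category.assoc, pullMap_c, Category.assoc]

theorem hom_ext_c {R S : 𝒮} (f : R ⟶ S) {a : p.Fiber R} {b : p.Fiber S} (α β : a ⟶ pull K f b)
    (h : α.1 ≫ c K f b = β.1 ≫ c K f b) : α = β := by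
  apply Subtype.ext
  exact IsCartesian.ext p f (c K f b) α.1 β.1 h

variable (hK : K.IsSplitting)

include hK

theorem pull_id {S : 𝒮} (a : p.Fiber S) : pull K (𝟙 S) a = a :=
  Subtype.ext (hK.1 a.2).choose

theorem c_id {S : 𝒮} (a : p.Fiber S) :
    c K (𝟙 S) a = eqToHom (congrArg Subtype.val (pull_id K hK a)) :=
  (hK.1 a.2).choose_spec

theorem pull_comp {U T S : 𝒮} (g : U ⟶ T) (f : T ⟶ S) (a : p.Fiber S) :
    pull K g (pull K f a) = pull K (g ≫ f) a :=
  Subtype.ext (hK.2 f g a.2).choose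

theorem c_comp {U T S : 𝒮} (g : U ⟶ T) (f : T ⟶ S) (a : p.Fiber S) :
    c K g (pull K f a) ≫ c K f a =
      eqToHom (congrArg Subtype.val (pull_comp K hK g f a)) ≫ c K (g ≫ f) a :=
  (hK.2 f g a.2).choose_spec

theorem c_comp' {U T S : 𝒮} (g : U ⟶ T) (f : T ⟶ S) (a : p.Fiber S) :
    c K (g ≫ f) a =
      eqToHom (congrArg Subtype.val (pull_comp K hK g f a).symm) ≫ c K g (pull K f a) ≫ c K f a := by
  rw [c_comp K hK]
  simp

theorem pullMap_id_val {S : 𝒮} {a b : p.Fiber S} (φ : a ⟶ b) :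
    (pullMap K (𝟙 S) φ).1 = eqToHom (congrArg Subtype.val (pull_id K hK a)) ≫ φ.1 ≫
      eqToHom (congrArg Subtype.val (pull_id K hK b).symm) := by
  have h1 : p.IsHomLift (𝟙 S) (eqToHom (congrArg Subtype.val (pull_id K hK a))) :=
    IsHomLift.eqToHom_domain_lift_id _ (pull K (𝟙 S) a).2
  have h2 : p.IsHomLift (𝟙 S) (eqToHom (congrArg Subtype.val (pull_id K hK b).symm)) :=
    IsHomLift.eqToHom_domain_lift_id _ b.2
  apply IsCartesian.ext p (𝟙 S) (c K (𝟙 S) b)
  rw [pullMap_c, c_id K hK, c_id K hK]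
  simp

theorem pullMap_comp_val {U T S : 𝒮} (g : U ⟶ T) (f : T ⟶ S) {a b : p.Fiber S} (φ : a ⟶ b) :
    (pullMap K (g ≫ f) φ).1 = eqToHom (congrArg Subtype.val (pull_comp K hK g f a).symm) ≫
      (pullMap K g (pullMap K f φ)).1 ≫ eqToHom (congrArg Subtype.val (pull_comp K hK g f b)) := by
  have h1 : p.IsHomLift (𝟙 U) (eqToHom (congrArg Subtype.val (pull_comp K hK g f a).symm)) :=
    IsHomLift.eqToHom_domain_lift_id _ (pull K (g ≫ f) a).2
  have h2 : p.IsHomLift (𝟙 U) (eqToHom (congrArg Subtype.val (pull_comp K hK g f b))) :=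
    IsHomLift.eqToHom_domain_lift_id _ (pull K g (pull K f b)).2
  apply IsCartesian.ext p (g ≫ f) (c K (g ≫ f) b)
  rw [pullMap_c]
  simp only [Category.assoc]
  rw [← c_comp K hK g f b, pullMap_c_assoc, pullMap_c, c_comp' K hK g f a]
  simp

theorem inverseImage_id (S : 𝒮) : K.inverseImage (𝟙 S) = 𝟭 (p.Fiber S) := by
  refine CategoryTheory.Functor.ext (fun a => pull_id K hK a) (fun a b φ => ?_)
  apply Subtype.ext
  rw [comp_val, comp_val, eqToHom_val, eqToHom_val]
  exact pullMap_id_val K hK φ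

theorem inverseImage_comp {U T S : 𝒮} (g : U ⟶ T) (f : T ⟶ S) :
    K.inverseImage (g ≫ f) = K.inverseImage f ⋙ K.inverseImage g := by
  refine CategoryTheory.Functor.ext (fun a => (pull_comp K hK g f a).symm) (fun a b φ => ?_)
  apply Subtype.ext
  rw [comp_val, comp_val, eqToHom_val, eqToHom_val]
  exact pullMap_comp_val K hK g f φ

/-- The strict functor of fibres. -/
noncomputable def fibFunctor : 𝒮ᵒᵖ ⥤ Cat.{v₂, u₂} where
  obj S := Cat.of (p.Fiber S.unop)
  map f := (K.inverseImage f.unop).toCatHom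
  map_id S := by
    apply Cat.ext
    exact inverseImage_id K hK S.unop
  map_comp f g := by
    apply Cat.ext
    exact inverseImage_comp K hK g.unop f.unop

/-- The category of pairs. -/
abbrev Tot := Pseudofunctor.CoGrothendieck (fibFunctor K hK).toPseudofunctor'

/-- The fibre component, with its type unfolded. -/
def fib (X : Tot K hK) : p.Fiber X.base := X.fiber

/-- The fibre component of a morphism, with its type unfolded. -/
noncomputable def fibHom {X Y : Tot K hK} (f : X ⟶ Y) : fib K hK X ⟶ pull K f.base (fib K hK Y) := f.fiber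

theorem id_fibHom (X : Tot K hK) :
    (fibHom K hK (𝟙 X)).1 = eqToHom (congrArg Subtype.val (pull_id K hK (fib K hK X)).symm) := by
  have h := StrictGroth.id_fiber (fibFunctor K hK) X
  have h2 : fibHom K hK (𝟙 X) = eqToHom (pull_id K hK (fib K hK X)).symm := h
  rw [h2, eqToHom_val]

theorem comp_fibHom {X Y Z : Tot K hK} (f : X ⟶ Y) (g : Y ⟶ Z) :
    (fibHom K hK (f ≫ g)).1 = (fibHom K hK f).1 ≫ (pullMap K f.base (fibHom K hK g)).1 ≫
      eqToHom (congrArg Subtype.val (pull_comp K hK f.base g.base (fib K hK Z))) := by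
  have h := StrictGroth.comp_fiber (fibFunctor K hK) f g
  have h2 : fibHom K hK (f ≫ g) = fibHom K hK f ≫ pullMap K f.base (fibHom K hK g) ≫
      eqToHom (pull_comp K hK f.base g.base (fib K hK Z)) := h
  rw [h2, comp_val, comp_val, eqToHom_val]

/-- The action on morphisms of the comparison functor. -/
noncomputable def totMap {X Y : Tot K hK} (f : X ⟶ Y) : (fib K hK X).1 ⟶ (fib K hK Y).1 :=
  (fibHom K hK f).1 ≫ c K f.base (fib K hK Y)

instance totMap_isHomLift {X Y : Tot K hK} (f : X ⟶ Y) :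
    p.IsHomLift f.base (totMap K hK f) := by
  unfold totMap
  exact isHomLift_congr' p (Category.id_comp _) _ inferInstance

theorem totMap_id (X : Tot K hK) : totMap K hK (𝟙 X) = 𝟙 _ := by
  unfold totMap
  rw [id_fibHom]
  have : c K (𝟙 X : X ⟶ X).base (fib K hK X) = c K (𝟙 X.base) (fib K hK X) := rfl
  rw [this, c_id K hK]
  simp

theorem totMap_comp {X Y Z : Tot K hK} (f : X ⟶ Y) (g : Y ⟶ Z) :
    totMap K hK (f ≫ g) = totMap K hK f ≫ totMap K hK g := by
  unfold totMap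
  rw [comp_fibHom]
  have : c K (f ≫ g).base (fib K hK Z) = c K (f.base ≫ g.base) (fib K hK Z) := rfl
  rw [this, c_comp' K hK]
  simp only [Category.assoc, eqToHom_trans_assoc, eqToHom_refl, Category.id_comp]
  rw [pullMap_c_assoc]

/-- The comparison functor from the category of pairs. -/
noncomputable def totFunctor : Tot K hK ⥤ 𝒳 where
  obj X := (fib K hK X).1
  map f := totMap K hK f
  map_id X := totMap_id K hK X
  map_comp f g := totMap_comp K hK f g

theorem totFunctor_comp_p :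
    totFunctor K hK ⋙ p = Pseudofunctor.CoGrothendieck.forget (fibFunctor K hK).toPseudofunctor' :=
  CategoryTheory.Functor.ext (fun X => (fib K hK X).2)
    (fun X Y f => IsHomLift.fac' p f.base (totMap K hK f))

instance totFunctor_faithful : (totFunctor K hK).Faithful where
  map_injective {X Y} f g h := by
    have h' : totMap K hK f = totMap K hK g := h
    have hb : f.base = g.base := by
      have h1 := IsHomLift.fac p f.base (totMap K hK f)
      have h2 := IsHomLift.fac p g.base (totMap K hK g)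
      rw [h1, h2]
      simp only [h']
    obtain ⟨fb, ff⟩ := f
    obtain ⟨gb, gf⟩ := g
    change fb = gb at hb
    subst hb
    have : ff = gf := by
      have e : (ff : fib K hK X ⟶ pull K fb (fib K hK Y)) = gf := by
        exact hom_ext_c K fb _ _ h'
      exact e
    rw [this]

instance totFunctor_full [p.IsFibered] : (totFunctor K hK).Full where
  map_surjective {X Y} φ := by
    change (fib K hK X).1 ⟶ (fib K hK Y).1 at φ
    let h : X.base ⟶ Y.base :=
      eqToHom (fib K hK X).2.symm ≫ p.map φ ≫ eqToHom (fib K hK Y).2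
    have hl : p.IsHomLift h φ :=
      isHomLift_of_eq p (fib K hK X).2 (fib K hK Y).2 (p.map φ) h (by simp [h]) φ
        inferInstance
    let α : (fib K hK X).1 ⟶ (pull K h (fib K hK Y)).1 :=
      IsCartesian.map p h (c K h (fib K hK Y)) φ
    have hα : p.IsHomLift (𝟙 X.base) α := inferInstance
    have hfac : α ≫ c K h (fib K hK Y) = φ := IsCartesian.fac p h (c K h (fib K hK Y)) φ
    let a : fib K hK X ⟶ pull K h (fib K hK Y) := ⟨α, hα⟩
    exact ⟨⟨h, a⟩, hfac⟩

/-- The inverse on objects. -/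
def invObj (a : 𝒳) : Tot K hK := ⟨p.obj a, (⟨a, rfl⟩ : p.Fiber (p.obj a))⟩

theorem totFunctor_invObj (a : 𝒳) : (totFunctor K hK).obj (invObj K hK a) = a := rfl

theorem invObj_aux (b : 𝒮) (x : 𝒳) (hx : p.obj x = b) :
    invObj K hK x = (⟨b, (⟨x, hx⟩ : p.Fiber b)⟩ : Tot K hK) := by
  subst hx
  rfl

theorem invObj_totFunctor (X : Tot K hK) : invObj K hK ((totFunctor K hK).obj X) = X := by
  obtain ⟨b, ⟨x, hx⟩⟩ := X
  exact invObj_aux K hK b x hx

/-- A fibred category with a splitting is isomorphic over the base to the category of pairs of the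
strict functor of its fibres. -/
theorem exists_strict_iso [p.IsFibered] :
    ∃ (F : 𝒮ᵒᵖ ⥤ Cat.{v₂, u₂})
      (Φ : 𝒳 ⥤ Pseudofunctor.CoGrothendieck F.toPseudofunctor')
      (Ψ : Pseudofunctor.CoGrothendieck F.toPseudofunctor' ⥤ 𝒳),
      Φ ⋙ Ψ = 𝟭 𝒳 ∧ Ψ ⋙ Φ = 𝟭 _ ∧
        Φ ⋙ Pseudofunctor.CoGrothendieck.forget F.toPseudofunctor' = p := by
  obtain ⟨Φ, e1, e2⟩ := exists_strict_inverse (totFunctor K hK) (invObj K hK)
    (totFunctor_invObj K hK) (invObj_totFunctor K hK)
  refine ⟨fibFunctor K hK, Φ, totFunctor K hK, e1, e2, ?_⟩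
  rw [← totFunctor_comp_p K hK, ← Functor.assoc, e1, Functor.id_comp]

end Groth.Agent.Helper2.FibCatLib.Cleav
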