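import Mathlib
import Groth.Prelude.Def_FibClv
import Groth.Agent.Lib.Helper2.FibCat.EquivCrit
import Groth.Agent.Lib.Helper2.FibCat.StrictGroth

/-!
# The canonical cleavage of the category of a strict functor is a splitting; transport of splittings
along strict isomorphisms (helper2)
-/

set_option autoImplicit false
open CategoryTheory CategoryTheory.Functor Opposite

universe v₁ u₁ v₂ u₂ v₃ u₃

namespace Groth.Agent.Helper2.FibCatLib.CleavGroth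

section Transport

variable {𝒮 : Type u₁} [Category.{v₁} 𝒮] {𝒳 : Type u₂} [Category.{v₂} 𝒳] {𝒴 : Type u₃}
  [Category.{v₃} 𝒴] {p : 𝒳 ⥤ 𝒮} {q : 𝒴 ⥤ 𝒮} (L : FibCat.Cleavage q)

theorem cleavage_congr {y y' : 𝒴} (e : y = y') {T U : 𝒮} (hy : q.obj y = T) (hy' : q.obj y' = T)
    (g : U ⟶ T) :
    ∃ h : L.obj hy g = L.obj hy' g, L.lift hy g = eqToHom h ≫ L.lift hy' g ≫ eqToHom e.symm := by
  subst e
  exact ⟨rfl, by simp⟩

variable (Φ : 𝒳 ⥤ 𝒴) (Ψ : 𝒴 ⥤ 𝒳) (h₁ : Φ ⋙ Ψ = 𝟭 𝒳) (h₂ : Ψ ⋙ Φ = 𝟭 𝒴) (h₃ : Φ ⋙ q = p)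

include h₁ h₂ h₃ in
theorem isCartesian_map_of_strict_iso {R S : 𝒮} (f : R ⟶ S) {y' y : 𝒴} (ψ : y' ⟶ y)
    (hψ : q.IsCartesian f ψ) : p.IsCartesian f (Ψ.map ψ) := by
  have h₄ : Ψ ⋙ p = q := by
    rw [← h₃, ← Functor.assoc, h₂, Functor.id_comp]
  have hl : q.IsHomLift f ψ := hψ.toIsHomLift
  have hΨ : ∀ {R S : 𝒮} (f : R ⟶ S) {y' y : 𝒴} (ψ : y' ⟶ y), q.IsHomLift f ψ →
      p.IsHomLift f (Ψ.map ψ) := by
    intro R S f y' y ψ h
    subst h₄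
    exact IsHomLift.of_fac' p f (Ψ.map ψ) (IsHomLift.domain_eq (Ψ ⋙ p) f ψ)
      (IsHomLift.codomain_eq (Ψ ⋙ p) f ψ) (IsHomLift.fac' (Ψ ⋙ p) f ψ)
  have hΦ : ∀ {R S : 𝒮} (f : R ⟶ S) {a' a : 𝒳} (φ : a' ⟶ a), p.IsHomLift f φ →
      q.IsHomLift f (Φ.map φ) := by
    intro R S f a' a φ h
    subst h₃
    exact IsHomLift.of_fac' q f (Φ.map φ) (IsHomLift.domain_eq (Φ ⋙ q) f φ)
      (IsHomLift.codomain_eq (Φ ⋙ q) f φ) (IsHomLift.fac' (Φ ⋙ q) f φ)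
  have := hΨ f ψ hl
  refine ⟨?_⟩
  intro a' φ' hφ'
  have e1 : Φ.obj (Ψ.obj y) = y := Functor.congr_obj h₂ y
  have e1' : Φ.obj (Ψ.obj y') = y' := Functor.congr_obj h₂ y'
  have e2 : Ψ.obj (Φ.obj a') = a' := Functor.congr_obj h₁ a'
  have l1 : q.IsHomLift f (Φ.map φ' ≫ eqToHom e1) := by
    have := hΦ f φ' hφ'
    infer_instance
  obtain ⟨χ, ⟨hχ1, hχ2⟩, hχ3⟩ := hψ.universal_property (Φ.map φ' ≫ eqToHom e1)
  have hΨχ : p.IsHomLift (𝟙 R) (Ψ.map χ) := hΨ (𝟙 R) χ hχ1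
  have key : ∀ (θ : a' ⟶ Ψ.obj y'), Ψ.map (Φ.map θ) = eqToHom e2 ≫ θ ≫
      eqToHom (Functor.congr_obj h₁ (Ψ.obj y')).symm := fun θ => Functor.congr_hom h₁ θ
  have key' : Ψ.map (Φ.map φ') = eqToHom e2 ≫ φ' ≫
      eqToHom (Functor.congr_obj h₁ (Ψ.obj y)).symm := Functor.congr_hom h₁ φ'
  refine ⟨eqToHom e2.symm ≫ Ψ.map χ, ⟨inferInstance, ?_⟩, ?_⟩
  · rw [Category.assoc, ← Ψ.map_comp, hχ2, Ψ.map_comp, key', eqToHom_map]
    simp
  · rintro θ ⟨hθ1, hθ2⟩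
    have hθ' : q.IsHomLift (𝟙 R) (Φ.map θ ≫ eqToHom e1') := by
      have := hΦ (𝟙 R) θ hθ1
      infer_instance
    have := hχ3 (Φ.map θ ≫ eqToHom e1') ⟨hθ', by
      rw [Category.assoc]
      have : eqToHom e1' ≫ ψ = Φ.map (Ψ.map ψ) ≫ eqToHom e1 := by
        have := Functor.congr_hom h₂ ψ
        rw [Functor.comp_map] at this
        rw [this]
        simp
      rw [this, ← Category.assoc, ← Φ.map_comp, hθ2]⟩
    rw [← this, Ψ.map_comp, key θ, eqToHom_map]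
    simp

omit h₁ h₂ h₃ in
theorem transport_comp_aux {y₃' y₃ y₄ z y₁ w : 𝒴} {a : 𝒳} (A : y₃' ⟶ z) (B : y₃ ⟶ y₁)
    (D : y₁ ⟶ w) (E : y₄ ⟶ w) (h0 : y₃' = y₃) (h : y₃ = y₄) (e2 : z = y₁)
    (e0 : A = eqToHom h0 ≫ B ≫ eqToHom e2.symm) (e : B ≫ D = eqToHom h ≫ E)
    (u : Ψ.obj z = Ψ.obj y₁) (v : Ψ.obj w = a) :
    (Ψ.map A ≫ eqToHom u) ≫ (Ψ.map D ≫ eqToHom v) =
      eqToHom (congrArg Ψ.obj (h0.trans h)) ≫ (Ψ.map E ≫ eqToHom v) := by
  subst h0 h e2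
  simp only [eqToHom_refl, Category.id_comp, Category.comp_id] at e0 e ⊢
  subst e0
  rw [← Ψ.map_comp_assoc, e]

include h₁ in
theorem e₁ (a : 𝒳) : Ψ.obj (Φ.obj a) = a := Functor.congr_obj h₁ a

include h₂ in
theorem e₂ (y : 𝒴) : Φ.obj (Ψ.obj y) = y := Functor.congr_obj h₂ y

include h₃ in
theorem e₃ (a : 𝒳) : q.obj (Φ.obj a) = p.obj a := Functor.congr_obj h₃ a

/-- Transport of a cleavage along a strict isomorphism over the base. -/
def transportCleavage : FibCat.Cleavage p where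
  obj {R S a} ha f := Ψ.obj (L.obj ((e₃ Φ h₃ a).trans ha) f)
  lift {R S a} ha f := Ψ.map (L.lift ((e₃ Φ h₃ a).trans ha) f) ≫ eqToHom (e₁ Φ Ψ h₁ a)
  isCartesian {R S a} ha f := by
    have hc := isCartesian_map_of_strict_iso Φ Ψ h₁ h₂ h₃ f
      (L.lift ((e₃ Φ h₃ a).trans ha) f) (L.isCartesian _ f)
    have hl : p.IsHomLift (𝟙 S) (eqToIso (e₁ Φ Ψ h₁ a)).hom :=
      IsHomLift.eqToHom_codomain_lift_id (e₁ Φ Ψ h₁ a) ha
    exact IsCartesian.of_comp_iso p f _ (eqToIso (e₁ Φ Ψ h₁ a))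

theorem transportCleavage_isSplitting (hL : L.IsSplitting) :
    (transportCleavage L Φ Ψ h₁ h₂ h₃).IsSplitting := by
  refine ⟨?_, ?_⟩
  · intro S a ha
    obtain ⟨h', e'⟩ := hL.1 ((e₃ Φ h₃ a).trans ha)
    refine ⟨(congrArg Ψ.obj h').trans (e₁ Φ Ψ h₁ a), ?_⟩
    change Ψ.map (L.lift ((e₃ Φ h₃ a).trans ha) (𝟙 S)) ≫ eqToHom (e₁ Φ Ψ h₁ a) = _
    rw [e', eqToHom_map, eqToHom_trans]
    rfl
  · intro S T U f g a ha
    obtain ⟨h, e⟩ := hL.2 f g ((e₃ Φ h₃ a).trans ha)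
    obtain ⟨h0, e0⟩ := cleavage_congr L (e₂ Φ Ψ h₂ (L.obj ((e₃ Φ h₃ a).trans ha) f))
      ((e₃ Φ h₃ _).trans ((transportCleavage L Φ Ψ h₁ h₂ h₃).obj_proj ha f))
      (L.obj_proj ((e₃ Φ h₃ a).trans ha) f) g
    refine ⟨congrArg Ψ.obj (h0.trans h), ?_⟩
    exact transport_comp_aux Ψ _ _ _ _ h0 h (e₂ Φ Ψ h₂ _) e0 e (e₁ Φ Ψ h₁ _) (e₁ Φ Ψ h₁ a)

end Transport

section Canonical

open Pseudofunctor Pseudofunctor.CoGrothendieck

variable {𝒮 : Type u₁} [Category.{v₁} 𝒮] (F : 𝒮ᵒᵖ ⥤ Cat.{v₂, u₂})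

/-- A morphism that is an `eqToHom`. -/
def IsEq {𝒜 : Type u₃} [Category.{v₃} 𝒜] {X Y : 𝒜} (f : X ⟶ Y) : Prop :=
  ∃ h : X = Y, f = eqToHom h

theorem IsEq.eq {𝒜 : Type u₃} [Category.{v₃} 𝒜] {X Y : 𝒜} {f g : X ⟶ Y} (hf : IsEq f)
    (hg : IsEq g) : f = g := by
  obtain ⟨h, rfl⟩ := hf
  obtain ⟨h', rfl⟩ := hg
  rfl

theorem IsEq.comp {𝒜 : Type u₃} [Category.{v₃} 𝒜] {X Y Z : 𝒜} {f : X ⟶ Y} {g : Y ⟶ Z}
    (hf : IsEq f) (hg : IsEq g) : IsEq (f ≫ g) := by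
  obtain ⟨h, rfl⟩ := hf
  obtain ⟨h', rfl⟩ := hg
  exact ⟨h.trans h', by simp⟩

theorem isEq_id {𝒜 : Type u₃} [Category.{v₃} 𝒜] (X : 𝒜) : IsEq (𝟙 X) := ⟨rfl, rfl⟩

theorem isEq_eqToHom {𝒜 : Type u₃} [Category.{v₃} 𝒜] {X Y : 𝒜} (h : X = Y) :
    IsEq (eqToHom h) := ⟨h, rfl⟩

theorem IsEq.map {𝒜 : Type u₃} [Category.{v₃} 𝒜] {ℬ : Type u₂} [Category.{v₂} ℬ] (G : 𝒜 ⥤ ℬ)
    {X Y : 𝒜} {f : X ⟶ Y} (hf : IsEq f) : IsEq (G.map f) := by
  obtain ⟨h, rfl⟩ := hf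
  exact ⟨congrArg G.obj h, eqToHom_map G h⟩

/-- The category of pairs. -/
abbrev Tot := Pseudofunctor.CoGrothendieck F.toPseudofunctor'

theorem eqToHom_base {X Y : Tot F} (h : X = Y) :
    (eqToHom h).base = eqToHom (congrArg (fun Z => Z.base) h) := by
  subst h
  rfl

theorem isEq_eqToHom_fiber {X Y : Tot F} (h : X = Y) : IsEq (eqToHom h).fiber := by
  subst h
  exact ⟨_, StrictGroth.id_fiber F X⟩

theorem isEq_comp_fiber {X Y Z : Tot F} (f : X ⟶ Y) (g : Y ⟶ Z) (hf : IsEq f.fiber)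
    (hg : IsEq g.fiber) : IsEq (f ≫ g).fiber := by
  rw [StrictGroth.comp_fiber F f g]
  exact hf.comp ((hg.map _).comp (isEq_eqToHom _))

theorem hom_ext_of_isEq {X Y : Tot F} (f g : X ⟶ Y) (hb : f.base = g.base) (hf : IsEq f.fiber)
    (hg : IsEq g.fiber) : f = g := by
  apply Hom.ext f g hb
  exact hf.eq (hg.comp (isEq_eqToHom _))

theorem split_id (X : Tot F) :
    ∃ h : domainCartesianLift (F := F.toPseudofunctor') X.fiber (𝟙 X.base) = X,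
      cartesianLift (F := F.toPseudofunctor') X.fiber (𝟙 X.base) = eqToHom h := by
  have h : domainCartesianLift (F := F.toPseudofunctor') X.fiber (𝟙 X.base) = X := by
    refine CoGrothendieck.ext rfl (heq_of_eq ?_)
    exact (StrictGroth.id_fiber_aux F X).symm
  refine ⟨h, ?_⟩
  apply hom_ext_of_isEq
  · rw [eqToHom_base]
    rfl
  · exact isEq_id _
  · exact isEq_eqToHom_fiber F h

theorem split_comp {S T U : 𝒮} (a : F.toPseudofunctor'.obj ⟨op S⟩) (f : T ⟶ S) (g : U ⟶ T) :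
    ∃ h : domainCartesianLift (F := F.toPseudofunctor')
        ((F.toPseudofunctor'.map f.op.toLoc).toFunctor.obj a) g =
        domainCartesianLift (F := F.toPseudofunctor') a (g ≫ f),
      cartesianLift (F := F.toPseudofunctor')
        ((F.toPseudofunctor'.map f.op.toLoc).toFunctor.obj a) g ≫
        cartesianLift (F := F.toPseudofunctor') a f =
      eqToHom h ≫ cartesianLift (F := F.toPseudofunctor') a (g ≫ f) := by
  have h : domainCartesianLift (F := F.toPseudofunctor')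
        ((F.toPseudofunctor'.map f.op.toLoc).toFunctor.obj a) g =
        domainCartesianLift (F := F.toPseudofunctor') a (g ≫ f) := by
    refine CoGrothendieck.ext rfl (heq_of_eq ?_)
    change (F.map g.op).toFunctor.obj ((F.map f.op).toFunctor.obj a) =
      (F.map (g ≫ f).op).toFunctor.obj a
    rw [op_comp, F.map_comp]
    rfl
  refine ⟨h, ?_⟩
  apply hom_ext_of_isEq
  · change g ≫ f = (eqToHom h).base ≫ (g ≫ f)
    rw [eqToHom_base]
    simp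
  · exact isEq_comp_fiber F _ _ (isEq_id _) (isEq_id _)
  · exact isEq_comp_fiber F _ _ (isEq_eqToHom_fiber F h) (isEq_id _)

/-- The canonical cleavage of the category of pairs of a strict functor is a splitting. -/
theorem ofCoGrothendieck_isSplitting :
    (FibCat.Cleavage.ofCoGrothendieck F.toPseudofunctor').IsSplitting := by
  refine ⟨?_, ?_⟩
  · intro S X ha
    subst ha
    have key : ∀ (f : X.base ⟶ X.base) (_ : f = 𝟙 X.base),
        ∃ h : domainCartesianLift (F := F.toPseudofunctor') X.fiber f = X,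
          cartesianLift (F := F.toPseudofunctor') X.fiber f = eqToHom h := by
      rintro _ rfl
      exact split_id F X
    exact key (𝟙 _ ≫ eqToHom rfl) (by simp)
  · intro S T U f g X ha
    subst ha
    have key : ∀ (f' : T ⟶ X.base) (g' : U ⟶ T) (gf' : U ⟶ X.base) (_ : gf' = g' ≫ f'),
        ∃ h : domainCartesianLift (F := F.toPseudofunctor')
            ((F.toPseudofunctor'.map f'.op.toLoc).toFunctor.obj X.fiber) g' =
            domainCartesianLift (F := F.toPseudofunctor') X.fiber gf',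
          cartesianLift (F := F.toPseudofunctor')
            ((F.toPseudofunctor'.map f'.op.toLoc).toFunctor.obj X.fiber) g' ≫
            cartesianLift (F := F.toPseudofunctor') X.fiber f' =
          eqToHom h ≫ cartesianLift (F := F.toPseudofunctor') X.fiber gf' := by
      rintro f' g' _ rfl
      exact split_comp F X.fiber f' g'
    exact key (f ≫ eqToHom rfl) (g ≫ eqToHom rfl) ((g ≫ f) ≫ eqToHom rfl) (by simp)

end Canonical

end Groth.Agent.Helper2.FibCatLib.CleavGroth
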