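import Mathlib

/-!
# Fibred versus cofibred for functors that are prefibred and co-prefibred (helper2)
-/

set_option autoImplicit false
open CategoryTheory CategoryTheory.Functor Opposite

universe v₂ u₂ v u

namespace Groth.Agent.Helper2.FibCatLib.CoFib

variable {C : Type u} [Category.{v} C] {𝒳 : Type u₂} [Category.{v₂} 𝒳] (p : 𝒳 ⥤ C)

theorem isHomLift_op {R S : C} (f : R ⟶ S) {a b : 𝒳} (φ : a ⟶ b) (h : p.IsHomLift f φ) :
    p.op.IsHomLift f.op φ.op := by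
  obtain ⟨⟩ := h
  exact Functor.IsHomLift.map (p := p.op) φ.op

theorem isHomLift_unop {X Y : Cᵒᵖ} (g : X ⟶ Y) {x y : 𝒳ᵒᵖ} (ψ : x ⟶ y) (h : p.op.IsHomLift g ψ) :
    p.IsHomLift g.unop ψ.unop := by
  obtain ⟨⟩ := h
  exact Functor.IsHomLift.map (p := p) ψ.unop

theorem isHomLift_op_iff {X Y : Cᵒᵖ} (g : X ⟶ Y) {x y : 𝒳ᵒᵖ} (ψ : x ⟶ y) :
    p.op.IsHomLift g ψ ↔ p.IsHomLift g.unop ψ.unop :=
  ⟨isHomLift_unop p g ψ, fun h => isHomLift_op p g.unop ψ.unop h⟩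

/-- A cartesian morphism of the opposite functor is a cocartesian morphism. -/
theorem isCocartesian_of_op {R S : C} (f : R ⟶ S) {a b : 𝒳} (φ : a ⟶ b)
    (h : p.op.IsCartesian f.op φ.op) : p.IsCocartesian f φ := by
  have hl : p.IsHomLift f φ := isHomLift_unop p f.op φ.op h.toIsHomLift
  refine ⟨?_⟩
  intro b' φ' hφ'
  have hl' : p.op.IsHomLift f.op φ'.op := isHomLift_op p f φ' hφ'
  obtain ⟨χ, ⟨h1, h2⟩, h3⟩ := h.universal_property φ'.op
  refine ⟨χ.unop, ⟨isHomLift_unop p (𝟙 (op S)) χ h1, congrArg Quiver.Hom.unop h2⟩, ?_⟩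
  rintro χ' ⟨k1, k2⟩
  have := h3 χ'.op ⟨isHomLift_op p (𝟙 S) χ' k1, congrArg Quiver.Hom.op k2⟩
  exact congrArg Quiver.Hom.unop this

/-- A strongly cartesian morphism of the opposite functor is a strongly cocartesian morphism. -/
theorem isStronglyCocartesian_of_op {R S : C} (f : R ⟶ S) {a b : 𝒳} (φ : a ⟶ b)
    (h : p.op.IsStronglyCartesian f.op φ.op) : p.IsStronglyCocartesian f φ := by
  have hl : p.IsHomLift f φ := isHomLift_unop p f.op φ.op h.toIsHomLift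
  refine ⟨?_⟩
  intro c g ψ hψ
  have hl' : p.op.IsHomLift (g.op ≫ f.op) ψ.op := isHomLift_op p (f ≫ g) ψ hψ
  obtain ⟨χ, ⟨h1, h2⟩, h3⟩ := h.universal_property' (a' := op c) g.op ψ.op
  refine ⟨χ.unop, ⟨isHomLift_unop p g.op χ h1, congrArg Quiver.Hom.unop h2⟩, ?_⟩
  rintro χ' ⟨k1, k2⟩
  have := h3 χ'.op ⟨isHomLift_op p g χ' k1, congrArg Quiver.Hom.op k2⟩
  exact congrArg Quiver.Hom.unop this

/-- A strongly cocartesian morphism is a strongly cartesian morphism of the opposite functor. -/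
theorem isStronglyCartesian_op {R S : C} (f : R ⟶ S) {a b : 𝒳} (φ : a ⟶ b)
    (h : p.IsStronglyCocartesian f φ) : p.op.IsStronglyCartesian f.op φ.op := by
  have hl : p.op.IsHomLift f.op φ.op := isHomLift_op p f φ h.toIsHomLift
  refine ⟨?_⟩
  intro c g ψ hψ
  have hl' : p.IsHomLift (f ≫ g.unop) ψ.unop := isHomLift_unop p (g ≫ f.op) ψ hψ
  obtain ⟨χ, ⟨h1, h2⟩, h3⟩ := h.universal_property' (b' := c.unop) g.unop ψ.unop
  refine ⟨χ.op, ⟨isHomLift_op p g.unop χ h1, congrArg Quiver.Hom.op h2⟩, ?_⟩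
  rintro χ' ⟨k1, k2⟩
  have := h3 χ'.unop ⟨isHomLift_unop p g χ' k1, congrArg Quiver.Hom.unop k2⟩
  exact congrArg Quiver.Hom.op this

/-- In a fibred category every cocartesian morphism is strongly cocartesian. -/
theorem isStronglyCocartesian_of_isCocartesian [p.IsFibered] {R S : C} (f : R ⟶ S) {a b : 𝒳}
    (φ : a ⟶ b) (h : p.IsCocartesian f φ) : p.IsStronglyCocartesian f φ := by
  have hl := h.toIsHomLift
  refine ⟨?_⟩
  intro c g ψ hψ
  obtain ⟨c', γ, hγ⟩ := IsPreFibered.exists_isCartesian' (p := p) (a := c) g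
  have hγs : p.IsStronglyCartesian g γ := inferInstance
  obtain ⟨ψ', ⟨hψ'1, hψ'2⟩, hψ'3⟩ :=
    IsStronglyCartesian.universal_property p g γ f (f ≫ g) rfl ψ
  obtain ⟨χ', ⟨hχ'1, hχ'2⟩, hχ'3⟩ := h.universal_property ψ'
  refine ⟨χ' ≫ γ, ⟨inferInstance, by rw [← Category.assoc, hχ'2, hψ'2]⟩, ?_⟩
  rintro χ₁ ⟨k1, k2⟩
  have e1 : IsCartesian.map p g γ χ₁ ≫ γ = χ₁ := IsCartesian.fac p g γ χ₁
  have e2 : φ ≫ IsCartesian.map p g γ χ₁ = ψ' :=
    hψ'3 _ ⟨inferInstance, by rw [Category.assoc, e1, k2]⟩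
  have e3 : IsCartesian.map p g γ χ₁ = χ' := hχ'3 _ ⟨inferInstance, e2⟩
  rw [← e1, e3]

/-- If strongly cocartesian lifts exist, every cartesian morphism is strongly cartesian. -/
theorem isStronglyCartesian_of_isCartesian_of_cocart
    (H : ∀ (a' : 𝒳) {R : C} (g : p.obj a' ⟶ R), ∃ (a'' : 𝒳) (γ : a' ⟶ a''),
      p.IsStronglyCocartesian g γ)
    {R S : C} (f : R ⟶ S) {a b : 𝒳} (φ : a ⟶ b) (h : p.IsCartesian f φ) :
    p.IsStronglyCartesian f φ := by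
  have hl := h.toIsHomLift
  refine ⟨?_⟩
  intro a' g ψ hψ
  obtain ⟨a'', γ, hγ⟩ := H a' g
  obtain ⟨ψ', ⟨hψ'1, hψ'2⟩, hψ'3⟩ :=
    IsStronglyCocartesian.universal_property p g γ f (g ≫ f) rfl ψ
  obtain ⟨χ', ⟨hχ'1, hχ'2⟩, hχ'3⟩ := h.universal_property ψ'
  refine ⟨γ ≫ χ', ⟨inferInstance, by rw [Category.assoc, hχ'2, hψ'2]⟩, ?_⟩
  rintro χ₁ ⟨k1, k2⟩
  have e1 : γ ≫ IsCocartesian.map p g γ χ₁ = χ₁ := IsCocartesian.fac p g γ χ₁
  have e2 : IsCocartesian.map p g γ χ₁ ≫ φ = ψ' :=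
    hψ'3 _ ⟨inferInstance, by rw [← Category.assoc, e1, k2]⟩
  have e3 : IsCocartesian.map p g γ χ₁ = χ' := hχ'3 _ ⟨inferInstance, e2⟩
  rw [← e1, e3]

theorem isFibered_op [p.IsFibered] [p.op.IsPreFibered] : p.op.IsFibered := by
  apply IsFibered.of_exists_isStronglyCartesian
  intro a R f
  obtain ⟨b, φ, hφ⟩ := IsPreFibered.exists_isCartesian' (p := p.op) (a := a) f
  have h1 : p.IsCocartesian f.unop φ.unop := isCocartesian_of_op p f.unop φ.unop hφ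
  have h2 := isStronglyCocartesian_of_isCocartesian p f.unop φ.unop h1
  exact ⟨b, φ, isStronglyCartesian_op p f.unop φ.unop h2⟩

theorem isFibered_of_op [p.IsPreFibered] [p.op.IsFibered] : p.IsFibered := by
  have H : ∀ (a' : 𝒳) {R : C} (g : p.obj a' ⟶ R), ∃ (a'' : 𝒳) (γ : a' ⟶ a''),
      p.IsStronglyCocartesian g γ := by
    intro a' R g
    obtain ⟨b, φ, hφ⟩ := IsPreFibered.exists_isCartesian' (p := p.op) (a := op a') g.op
    have hs : p.op.IsStronglyCartesian g.op φ := inferInstance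
    exact ⟨b.unop, φ.unop, isStronglyCocartesian_of_op p g φ.unop hs⟩
  apply IsFibered.of_exists_isStronglyCartesian
  intro a R f
  obtain ⟨b, φ, hφ⟩ := IsPreFibered.exists_isCartesian' (p := p) (a := a) f
  exact ⟨b, φ, isStronglyCartesian_of_isCartesian_of_cocart p H f φ hφ⟩

theorem isFibered_iff_op [p.IsPreFibered] [p.op.IsPreFibered] : p.IsFibered ↔ p.op.IsFibered :=
  ⟨fun _ => isFibered_op p, fun _ => isFibered_of_op p⟩

end Groth.Agent.Helper2.FibCatLib.CoFib
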