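import Mathlib
import Groth.Prelude.Def_FibCat2
import Groth.Prelude.Def_W4stkcategoriessitesFib
import Groth.Agent.Lib.Helper2.CatPullbackMap

/-!
# The diagonal square of a 2-fibre product of categories is 2-cartesian (helper2)
-/

set_option autoImplicit false
open CategoryTheory CategoryTheory.Functor CategoryTheory.Limits

universe v u

namespace Groth.Agent.Helper2.FibCatLib.DiagCart

variable {X Y V : Type u} [Category.{v} X] [Category.{v} Y] [Category.{v} V] (p : X ⥤ Y) (q : V ⥤ Y)

/-- The diagonal of `U = X ×_Y V` over `V`. -/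
abbrev dU : CategoricalPullback p q ⥤
    CategoricalPullback (CategoricalPullback.π₂ p q) (CategoricalPullback.π₂ p q) :=
  (CategoricalPullback.CatCommSqOver.toFunctorToCategoricalPullback (CategoricalPullback.π₂ p q)
    (CategoricalPullback.π₂ p q) (CategoricalPullback p q)).obj ⟨𝟭 _, 𝟭 _, Iso.refl _⟩

/-- The diagonal of `X` over `Y`. -/
abbrev dX : X ⥤ CategoricalPullback p p :=
  (CategoricalPullback.CatCommSqOver.toFunctorToCategoricalPullback p p X).obj
    ⟨𝟭 _, 𝟭 _, Iso.refl _⟩

/-- The morphism of cospans. -/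
abbrev psi : CatCospanTransform (CategoricalPullback.π₂ p q) (CategoricalPullback.π₂ p q) p p :=
  ⟨CategoricalPullback.π₁ p q, q, CategoricalPullback.π₁ p q,
    ⟨(CatCommSq.iso (CategoricalPullback.π₁ p q) (CategoricalPullback.π₂ p q) p q).symm⟩,
    ⟨(CatCommSq.iso (CategoricalPullback.π₁ p q) (CategoricalPullback.π₂ p q) p q).symm⟩⟩

/-- The induced functor `U ×_V U ⥤ X ×_Y X`. -/
noncomputable abbrev G : CategoricalPullback (CategoricalPullback.π₂ p q) (CategoricalPullback.π₂ p q) ⥤
    CategoricalPullback p p :=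
  FibCat.categoricalPullbackMap (psi p q)

/-- The structural isomorphism of an object of `U ×_V U`, with its type unfolded. -/
def sig (w : CategoricalPullback (CategoricalPullback.π₂ p q) (CategoricalPullback.π₂ p q)) :
    w.fst.snd ≅ w.snd.snd := w.iso

theorem G_obj_iso_hom (w : CategoricalPullback (CategoricalPullback.π₂ p q)
    (CategoricalPullback.π₂ p q)) :
    ((G p q).obj w).iso.hom = w.fst.iso.hom ≫ q.map (sig p q w).hom ≫ w.snd.iso.inv := by
  rw [cpm_obj_iso_hom]
  rfl

theorem G_obj_fst (w : CategoricalPullback (CategoricalPullback.π₂ p q)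
    (CategoricalPullback.π₂ p q)) : ((G p q).obj w).fst = w.fst.fst := rfl

theorem G_obj_snd (w : CategoricalPullback (CategoricalPullback.π₂ p q)
    (CategoricalPullback.π₂ p q)) : ((G p q).obj w).snd = w.snd.fst := rfl

theorem G_map_fst {w w' : CategoricalPullback (CategoricalPullback.π₂ p q)
    (CategoricalPullback.π₂ p q)} (f : w ⟶ w') : ((G p q).map f).fst = f.fst.fst := rfl

theorem G_map_snd {w w' : CategoricalPullback (CategoricalPullback.π₂ p q)
    (CategoricalPullback.π₂ p q)} (f : w ⟶ w') : ((G p q).map f).snd = f.snd.fst := rfl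

/-- The filling 2-isomorphism. -/
noncomputable def e : CategoricalPullback.π₁ p q ⋙ dX p ≅ dU p q ⋙ G p q :=
  NatIso.ofComponents
    (fun u => CategoricalPullback.mkIso (Iso.refl _) (Iso.refl _) (by
      change p.map (𝟙 u.fst) ≫ ((G p q).obj ((dU p q).obj u)).iso.hom =
        𝟙 (p.obj u.fst) ≫ p.map (𝟙 u.fst)
      rw [G_obj_iso_hom]
      change p.map (𝟙 u.fst) ≫ u.iso.hom ≫ q.map (𝟙 u.snd) ≫ u.iso.inv = _
      simp))
    (by
      intro u u' f
      apply CategoricalPullback.hom_ext
      · change f.fst ≫ 𝟙 _ = 𝟙 _ ≫ f.fst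
        simp
      · change f.fst ≫ 𝟙 _ = 𝟙 _ ≫ f.fst
        simp)

theorem e_hom_app_fst (u : CategoricalPullback p q) : ((e p q).hom.app u).fst = 𝟙 _ := rfl

theorem e_hom_app_snd (u : CategoricalPullback p q) : ((e p q).hom.app u).snd = 𝟙 _ := rfl

/-- The comparison functor. -/
noncomputable abbrev K : CategoricalPullback p q ⥤ CategoricalPullback (dX p) (G p q) :=
  (CategoricalPullback.CatCommSqOver.toFunctorToCategoricalPullback (dX p) (G p q)
    (CategoricalPullback p q)).obj ⟨CategoricalPullback.π₁ p q, dU p q, e p q⟩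

theorem K_faithful : (K p q).Faithful where
  map_injective {u u'} f g h := by
    have h1 : ((K p q).map f).snd.fst = ((K p q).map g).snd.fst := by rw [h]
    exact h1

theorem K_full : (K p q).Full where
  map_surjective {u u'} g := by
    -- g.fst : u.fst ⟶ u'.fst, g.snd : (u,u,refl) ⟶ (u',u',refl)
    have hw := g.w
    have h1 : g.fst ≫ 𝟙 _ = 𝟙 _ ≫ g.snd.fst.fst := congrArg (fun t => t.fst) hw
    have h2 : g.fst ≫ 𝟙 _ = 𝟙 _ ≫ g.snd.snd.fst := congrArg (fun t => t.snd) hw
    have h3 : g.snd.fst.snd ≫ 𝟙 _ = 𝟙 _ ≫ g.snd.snd.snd := g.snd.w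
    rw [Category.comp_id, Category.id_comp] at h1 h2 h3
    have h4 : g.snd.fst = g.snd.snd :=
      CategoricalPullback.hom_ext (h1.symm.trans h2) h3
    refine ⟨g.snd.fst, ?_⟩
    apply CategoricalPullback.hom_ext
    · exact h1.symm
    · apply CategoricalPullback.hom_ext
      · rfl
      · exact h4

theorem K_essSurj : (K p q).EssSurj where
  mem_essImage z := by
    let w := z.snd
    let t₁ : z.fst ≅ w.fst.fst := (CategoricalPullback.π₁ p p).mapIso z.iso
    let t₂ : z.fst ≅ w.snd.fst := (CategoricalPullback.π₂ p p).mapIso z.iso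
    have hw0 : p.map t₁.hom ≫ ((G p q).obj w).iso.hom = 𝟙 _ ≫ p.map t₂.hom := z.iso.hom.w
    have hw : p.map t₁.hom ≫ (w.fst.iso.hom ≫ q.map (sig p q w).hom ≫ w.snd.iso.inv) =
        p.map t₂.hom :=
      (congrArg (fun k => p.map t₁.hom ≫ k) (G_obj_iso_hom p q w)).symm.trans
        (hw0.trans (Category.id_comp _))
    have hw' : p.map t₂.hom ≫ w.snd.iso.hom =
        p.map t₁.hom ≫ w.fst.iso.hom ≫ q.map (sig p q w).hom := by
      rw [← hw]
      simp only [Category.assoc, Iso.inv_hom_id, Category.comp_id]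
    let τ : w.fst ≅ w.snd := CategoricalPullback.mkIso (t₁.symm ≪≫ t₂) (sig p q w) (by
      change p.map (t₁.inv ≫ t₂.hom) ≫ w.snd.iso.hom = w.fst.iso.hom ≫ q.map (sig p q w).hom
      rw [p.map_comp, Category.assoc, hw', ← Category.assoc, ← p.map_comp, t₁.inv_hom_id,
        p.map_id, Category.id_comp])
    let eᵣ : (dU p q).obj w.fst ≅ w := CategoricalPullback.mkIso (Iso.refl w.fst) τ (by
      change 𝟙 _ ≫ w.iso.hom = 𝟙 _ ≫ w.iso.hom
      rfl)
    refine ⟨w.fst, ⟨CategoricalPullback.mkIso t₁.symm eᵣ ?_⟩⟩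
    apply CategoricalPullback.hom_ext
    · change t₁.inv ≫ t₁.hom = 𝟙 _ ≫ 𝟙 _
      simp
    · change t₁.inv ≫ t₂.hom = 𝟙 _ ≫ (t₁.inv ≫ t₂.hom)
      simp

theorem K_isEquivalence : (K p q).IsEquivalence := by
  have := K_faithful p q
  have := K_full p q
  have := K_essSurj p q
  exact { }

theorem isTwoCart : FibCat.IsTwoCart (CategoricalPullback.π₁ p q) (dU p q) (dX p) (G p q) (e p q) :=
  K_isEquivalence p q

end Groth.Agent.Helper2.FibCatLib.DiagCart
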