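import Mathlib
import Groth.Prelude.Def_FibCat2
import Groth.Agent.Lib.Helper2.FibGrpd
import Groth.Agent.Lib.Helper2.FibProd
import Groth.Agent.Lib.Helper2.FibCat.EquivCrit
import Groth.Agent.Lib.Helper2.FibCat.DiagDict

/-!
# Cartesian morphisms of the fibre product `𝒳 ×_C 𝒴` (helper2)
-/

set_option autoImplicit false
open CategoryTheory CategoryTheory.Functor CategoryTheory.Limits

universe v₃ u₃ v₂ u₂ v u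

namespace Groth.Agent.Helper2.FibCatLib.FpSelf

open Groth.Agent.Helper2.FibCatLib.DiagDict

section Plain

variable {C : Type u} [Category.{v} C] {𝒳 : Type u₂} [Category.{v₂} 𝒳] (p : 𝒳 ⥤ C)

theorem isCartesian_of_isHomLift_of_map {R S : C} (f : R ⟶ S) {a b : 𝒳} (φ : a ⟶ b)
    (hl : p.IsHomLift f φ) (h : p.IsCartesian (p.map φ) φ) : p.IsCartesian f φ := by
  obtain ⟨⟩ := hl
  exact h

theorem isCartesian_map_of {R S : C} (f : R ⟶ S) {a b : 𝒳} (φ : a ⟶ b)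
    (h : p.IsCartesian f φ) : p.IsCartesian (p.map φ) φ := by
  have hl := h.toIsHomLift
  obtain ⟨⟩ := hl
  exact h

end Plain

variable {C : Type u} [Category.{v} C] {𝒳 : BasedCategory.{v₂, u₂} C} {𝒴 : BasedCategory.{v₃, u₃} C}

/-- The product `𝒳 ×_C 𝒴`. -/
abbrev PP (𝒳 : BasedCategory.{v₂, u₂} C) (𝒴 : BasedCategory.{v₃, u₃} C) :=
  FibCat.fp (FibCat.toSelf 𝒳) (FibCat.toSelf 𝒴)

theorem isEq_iso (Z : (PP 𝒳 𝒴).obj) : IsEq Z.obj.iso.hom :=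
  isEq_of_isHomLift_id _ Z.property

/-- Two morphisms over the same base morphism are compatible with structural isomorphisms which are
`eqToHom`s. -/
theorem compat_of_isHomLift {R S : C} (f : R ⟶ S) {a a' : 𝒳.obj} {b b' : 𝒴.obj} (m₁ : a ⟶ a')
    (m₂ : b ⟶ b') (h₁ : 𝒳.p.IsHomLift f m₁) (h₂ : 𝒴.p.IsHomLift f m₂)
    (κ : 𝒳.p.obj a ⟶ 𝒴.p.obj b) (κ' : 𝒳.p.obj a' ⟶ 𝒴.p.obj b') (hκ : IsEq κ) (hκ' : IsEq κ') :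
    𝒳.p.map m₁ ≫ κ' = κ ≫ 𝒴.p.map m₂ := by
  obtain ⟨e, rfl⟩ := hκ
  obtain ⟨e', rfl⟩ := hκ'
  rw [IsHomLift.fac' 𝒳.p f m₁, IsHomLift.fac' 𝒴.p f m₂]
  simp

/-- Constructor for objects of the product. -/
def mkObj (a : 𝒳.obj) (b : 𝒴.obj) (h : 𝒳.p.obj a = 𝒴.p.obj b) : (PP 𝒳 𝒴).obj :=
  ⟨{ fst := a, snd := b, iso := eqToIso h }, IsHomLift.eqToHom_domain_lift_id h rfl⟩

/-- Constructor for morphisms of the product from two morphisms over the same base morphism. -/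
def mkHom {Z Z' : (PP 𝒳 𝒴).obj} {R S : C} (f : R ⟶ S) (m₁ : Z.obj.fst ⟶ Z'.obj.fst)
    (m₂ : Z.obj.snd ⟶ Z'.obj.snd) (h₁ : 𝒳.p.IsHomLift f m₁) (h₂ : 𝒴.p.IsHomLift f m₂) : Z ⟶ Z' :=
  ObjectProperty.homMk
    { fst := m₁
      snd := m₂
      w := compat_of_isHomLift f m₁ m₂ h₁ h₂ _ _ (isEq_iso Z) (isEq_iso Z') }

theorem isHomLift_fst {Z Z' : (PP 𝒳 𝒴).obj} {R S : C} (f : R ⟶ S) (m : Z ⟶ Z')
    (h : (PP 𝒳 𝒴).p.IsHomLift f m) : 𝒳.p.IsHomLift f m.hom.fst :=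
  BasedFunctor.preserves_isHomLift (FibCat.fpFst _ _) f m

theorem isHomLift_snd {Z Z' : (PP 𝒳 𝒴).obj} {R S : C} (f : R ⟶ S) (m : Z ⟶ Z')
    (h : (PP 𝒳 𝒴).p.IsHomLift f m) : 𝒴.p.IsHomLift f m.hom.snd :=
  BasedFunctor.preserves_isHomLift (FibCat.fpSnd _ _) f m

theorem isHomLift_of_fst {Z Z' : (PP 𝒳 𝒴).obj} {R S : C} (f : R ⟶ S) (m : Z ⟶ Z')
    (h : 𝒳.p.IsHomLift f m.hom.fst) : (PP 𝒳 𝒴).p.IsHomLift f m := by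
  have : 𝒳.p.IsHomLift f ((FibCat.fpFst (FibCat.toSelf 𝒳) (FibCat.toSelf 𝒴)).toFunctor.map m) := h
  exact BasedFunctor.isHomLift_map (FibCat.fpFst _ _) f m

theorem hom_ext' {Z Z' : (PP 𝒳 𝒴).obj} (m m' : Z ⟶ Z') (h1 : m.hom.fst = m'.hom.fst)
    (h2 : m.hom.snd = m'.hom.snd) : m = m' := by
  apply ObjectProperty.hom_ext
  exact CategoricalPullback.hom_ext h1 h2

theorem isCartesian_of_components {R S : C} (f : R ⟶ S) {x y : (PP 𝒳 𝒴).obj} (φ : x ⟶ y)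
    (h₁ : 𝒳.p.IsCartesian f φ.hom.fst) (h₂ : 𝒴.p.IsCartesian f φ.hom.snd) :
    (PP 𝒳 𝒴).p.IsCartesian f φ := by
  have hφ : (PP 𝒳 𝒴).p.IsHomLift f φ := isHomLift_of_fst f φ h₁.toIsHomLift
  refine ⟨?_⟩
  intro z ψ hψ
  have l1 := isHomLift_fst f ψ hψ
  have l2 := isHomLift_snd f ψ hψ
  let χ₁ := IsCartesian.map 𝒳.p f φ.hom.fst ψ.hom.fst
  let χ₂ := IsCartesian.map 𝒴.p f φ.hom.snd ψ.hom.snd
  have c1 : 𝒳.p.IsHomLift (𝟙 R) χ₁ := inferInstance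
  have c2 : 𝒴.p.IsHomLift (𝟙 R) χ₂ := inferInstance
  let χ : z ⟶ x := mkHom (𝟙 R) χ₁ χ₂ c1 c2
  refine ⟨χ, ⟨isHomLift_of_fst (𝟙 R) χ c1, ?_⟩, ?_⟩
  · apply hom_ext'
    · exact IsCartesian.fac 𝒳.p f φ.hom.fst ψ.hom.fst
    · exact IsCartesian.fac 𝒴.p f φ.hom.snd ψ.hom.snd
  · rintro χ' ⟨hχ', e⟩
    have d1 := isHomLift_fst (𝟙 R) χ' hχ'
    have d2 := isHomLift_snd (𝟙 R) χ' hχ'
    apply hom_ext'
    · exact IsCartesian.map_uniq 𝒳.p f φ.hom.fst ψ.hom.fst χ'.hom.fst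
        (congrArg (fun t => t.hom.fst) e)
    · exact IsCartesian.map_uniq 𝒴.p f φ.hom.snd ψ.hom.snd χ'.hom.snd
        (congrArg (fun t => t.hom.snd) e)

theorem isCartesian_fst {R S : C} (f : R ⟶ S) {x y : (PP 𝒳 𝒴).obj} (φ : x ⟶ y)
    (h : (PP 𝒳 𝒴).p.IsCartesian f φ) : 𝒳.p.IsCartesian f φ.hom.fst := by
  have hφ := h.toIsHomLift
  have hφ1 := isHomLift_fst f φ hφ
  have hφ2 := isHomLift_snd f φ hφ
  refine ⟨?_⟩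
  intro c ψ₁ hψ₁
  have hR : 𝒴.p.obj x.obj.snd = R := IsHomLift.domain_eq 𝒴.p f φ.hom.snd
  have hc : 𝒳.p.obj c = 𝒴.p.obj x.obj.snd := (IsHomLift.domain_eq 𝒳.p f ψ₁).trans hR.symm
  let Z : (PP 𝒳 𝒴).obj := mkObj c x.obj.snd hc
  let ψ : Z ⟶ y := mkHom f ψ₁ φ.hom.snd hψ₁ hφ2
  have hψ : (PP 𝒳 𝒴).p.IsHomLift f ψ := isHomLift_of_fst f ψ hψ₁
  let χ := IsCartesian.map (PP 𝒳 𝒴).p f φ ψ
  have hχ : (PP 𝒳 𝒴).p.IsHomLift (𝟙 R) χ := inferInstance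
  have eχ : χ ≫ φ = ψ := IsCartesian.fac (PP 𝒳 𝒴).p f φ ψ
  have key : ∀ χ₁' : c ⟶ x.obj.fst, 𝒳.p.IsHomLift (𝟙 R) χ₁' → χ₁' ≫ φ.hom.fst = ψ₁ →
      χ₁' = χ.hom.fst := by
    intro χ₁' h1 h2
    have hid : 𝒴.p.IsHomLift (𝟙 R) (𝟙 x.obj.snd) := IsHomLift.id hR
    let χ' : Z ⟶ x := mkHom (𝟙 R) χ₁' (𝟙 x.obj.snd) h1 hid
    have hχ' : (PP 𝒳 𝒴).p.IsHomLift (𝟙 R) χ' := isHomLift_of_fst (𝟙 R) χ' h1
    have e' : χ' ≫ φ = ψ := by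
      apply hom_ext'
      · exact h2
      · exact Category.id_comp _
    have := IsCartesian.map_uniq (PP 𝒳 𝒴).p f φ ψ χ' e'
    exact congrArg (fun t => t.hom.fst) this
  refine ⟨χ.hom.fst, ⟨isHomLift_fst (𝟙 R) χ hχ, congrArg (fun t => t.hom.fst) eχ⟩, ?_⟩
  rintro χ₁' ⟨h1, h2⟩
  exact key χ₁' h1 h2

theorem isCartesian_snd {R S : C} (f : R ⟶ S) {x y : (PP 𝒳 𝒴).obj} (φ : x ⟶ y)
    (h : (PP 𝒳 𝒴).p.IsCartesian f φ) : 𝒴.p.IsCartesian f φ.hom.snd := by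
  have hφ := h.toIsHomLift
  have hφ1 := isHomLift_fst f φ hφ
  have hφ2 := isHomLift_snd f φ hφ
  refine ⟨?_⟩
  intro c ψ₂ hψ₂
  have hR : 𝒳.p.obj x.obj.fst = R := IsHomLift.domain_eq 𝒳.p f φ.hom.fst
  have hc : 𝒳.p.obj x.obj.fst = 𝒴.p.obj c := hR.trans (IsHomLift.domain_eq 𝒴.p f ψ₂).symm
  let Z : (PP 𝒳 𝒴).obj := mkObj x.obj.fst c hc
  let ψ : Z ⟶ y := mkHom f φ.hom.fst ψ₂ hφ1 hψ₂
  have hψ : (PP 𝒳 𝒴).p.IsHomLift f ψ := isHomLift_of_fst f ψ hφ1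
  let χ := IsCartesian.map (PP 𝒳 𝒴).p f φ ψ
  have hχ : (PP 𝒳 𝒴).p.IsHomLift (𝟙 R) χ := inferInstance
  have eχ : χ ≫ φ = ψ := IsCartesian.fac (PP 𝒳 𝒴).p f φ ψ
  have key : ∀ χ₂' : c ⟶ x.obj.snd, 𝒴.p.IsHomLift (𝟙 R) χ₂' → χ₂' ≫ φ.hom.snd = ψ₂ →
      χ₂' = χ.hom.snd := by
    intro χ₂' h1 h2
    have hid : 𝒳.p.IsHomLift (𝟙 R) (𝟙 x.obj.fst) := IsHomLift.id hR
    let χ' : Z ⟶ x := mkHom (𝟙 R) (𝟙 x.obj.fst) χ₂' hid h1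
    have hχ' : (PP 𝒳 𝒴).p.IsHomLift (𝟙 R) χ' := isHomLift_of_fst (𝟙 R) χ' hid
    have e' : χ' ≫ φ = ψ := by
      apply hom_ext'
      · exact Category.id_comp _
      · exact h2
    have := IsCartesian.map_uniq (PP 𝒳 𝒴).p f φ ψ χ' e'
    exact congrArg (fun t => t.hom.snd) this
  refine ⟨χ.hom.snd, ⟨isHomLift_snd (𝟙 R) χ hχ, congrArg (fun t => t.hom.snd) eχ⟩, ?_⟩
  rintro χ₂' ⟨h1, h2⟩
  exact key χ₂' h1 h2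

theorem isCartesian_iff {R S : C} (f : R ⟶ S) {x y : (PP 𝒳 𝒴).obj} (φ : x ⟶ y) :
    (PP 𝒳 𝒴).p.IsCartesian f φ ↔ 𝒳.p.IsCartesian f φ.hom.fst ∧ 𝒴.p.IsCartesian f φ.hom.snd :=
  ⟨fun h => ⟨isCartesian_fst f φ h, isCartesian_snd f φ h⟩,
    fun h => isCartesian_of_components f φ h.1 h.2⟩

theorem isCartesian_map_iff {x y : (PP 𝒳 𝒴).obj} (φ : x ⟶ y) :
    (PP 𝒳 𝒴).p.IsCartesian ((PP 𝒳 𝒴).p.map φ) φ ↔
      𝒳.p.IsCartesian (𝒳.p.map φ.hom.fst) φ.hom.fst ∧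
        𝒴.p.IsCartesian (𝒴.p.map φ.hom.snd) φ.hom.snd := by
  rw [isCartesian_iff]
  constructor
  · rintro ⟨h1, h2⟩
    exact ⟨h1, isCartesian_map_of 𝒴.p _ _ h2⟩
  · rintro ⟨h1, h2⟩
    refine ⟨h1, isCartesian_of_isHomLift_of_map 𝒴.p _ _ ?_ h2⟩
    exact isHomLift_snd _ φ inferInstance

theorem isPreFibered [𝒳.p.IsPreFibered] [𝒴.p.IsPreFibered] : (PP 𝒳 𝒴).p.IsPreFibered where
  exists_isCartesian' {Z R} f₀ := by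
    let f : R ⟶ 𝒳.p.obj Z.obj.fst := f₀
    obtain ⟨a₀, φ₁, h₁⟩ := IsPreFibered.exists_isCartesian' (p := 𝒳.p) (a := Z.obj.fst) f
    obtain ⟨b₀, φ₂, h₂⟩ := IsPreFibered.exists_isCartesian 𝒴.p
      (Groth.Agent.Helper2.fp_snd_proj _ _ Z) f
    have l1 := h₁.toIsHomLift
    have l2 := h₂.toIsHomLift
    have hc : 𝒳.p.obj a₀ = 𝒴.p.obj b₀ :=
      (IsHomLift.domain_eq 𝒳.p f φ₁).trans (IsHomLift.domain_eq 𝒴.p f φ₂).symm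
    let Z₀ : (PP 𝒳 𝒴).obj := mkObj a₀ b₀ hc
    let φ : Z₀ ⟶ Z := mkHom f φ₁ φ₂ h₁.toIsHomLift h₂.toIsHomLift
    exact ⟨Z₀, φ, isCartesian_of_components f φ h₁ h₂⟩

theorem isFibered [𝒳.p.IsFibered] [𝒴.p.IsFibered] : (PP 𝒳 𝒴).p.IsFibered where
  toIsPreFibered := isPreFibered
  comp {R S T} f g {a b c} φ ψ hφ hψ := by
    have h1 := isCartesian_fst f φ hφ
    have h2 := isCartesian_snd f φ hφ
    have h3 := isCartesian_fst g ψ hψ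
    have h4 := isCartesian_snd g ψ hψ
    apply isCartesian_of_components
    · exact IsFibered.comp f g φ.hom.fst ψ.hom.fst
    · exact IsFibered.comp f g φ.hom.snd ψ.hom.snd

end Groth.Agent.Helper2.FibCatLib.FpSelf
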