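import Mathlib
import Groth.Prelude.Def_FibCat2
import Groth.Agent.Lib.Helper2.FibCat.OverFun
import Groth.Agent.Lib.Helper2.FibCat.Repr
import Groth.Agent.Lib.Helper2.FibCat.FpInv
import Groth.Agent.Lib.Helper2.FibCat.DiagDict
import Groth.Agent.Lib.Helper2.FibProd

/-!
# Composition with a morphism is a representable 1-morphism between slices (helper2)
-/

set_option autoImplicit false
open CategoryTheory CategoryTheory.Functor CategoryTheory.Limits

universe v u

namespace Groth.Agent.Helper2.FibCatLib.OverRep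

open Groth.Agent.Helper2.FibCatLib.OverFun Groth.Agent.Helper2.FibCatLib.Repr
  Groth.Agent.Helper2.FibCatLib.DiagDict

variable {C : Type u} [Category.{v} C] [HasPullbacks C] {U X Y : C} (g : U ⟶ Y) (f : X ⟶ Y)

/-- The fibre product of two slices over a slice. -/
abbrev FP := FibCat.fp (overMapBased g) (overMapBased f)

/-- The structural isomorphism of the terminal object. -/
noncomputable def ι₀ :
    (Over.map g).obj (Over.mk (pullback.fst g f)) ≅ (Over.map f).obj (Over.mk (pullback.snd g f)) :=
  Over.isoMk (Iso.refl _) ((Category.id_comp _).trans pullback.condition.symm)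

/-- The terminal object of the fibre product of slices. -/
noncomputable def ξ₀ : (FP g f).obj :=
  ⟨{ fst := Over.mk (pullback.fst g f)
     snd := Over.mk (pullback.snd g f)
     iso := ι₀ g f },
   over_isHomLift_id_of_left_eq (ι₀ g f).hom rfl rfl⟩

section PlainOver

variable (A : Over U) (B : Over X) (i : (Over.map g).obj A ≅ (Over.map f).obj B)

omit [HasPullbacks C] in
theorem hl : i.hom.left ≫ i.inv.left = 𝟙 _ := by
  rw [← Over.comp_left, Iso.hom_inv_id]
  rfl

omit [HasPullbacks C] in
theorem lh : i.inv.left ≫ i.hom.left = 𝟙 _ := by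
  rw [← Over.comp_left, Iso.inv_hom_id]
  rfl

omit [HasPullbacks C] in
theorem cond : A.hom ≫ g = (i.hom.left ≫ B.hom) ≫ f := by
  have := Over.w i.hom
  rw [Category.assoc]
  exact this.symm

/-- The canonical map to the pullback. -/
noncomputable def t : A.left ⟶ pullback g f :=
  pullback.lift A.hom (i.hom.left ≫ B.hom) (cond g f A B i)

theorem t_fst : t g f A B i ≫ pullback.fst g f = A.hom := pullback.lift_fst _ _ _

theorem t_snd : t g f A B i ≫ pullback.snd g f = i.hom.left ≫ B.hom := pullback.lift_snd _ _ _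

/-- First component of the morphism to the terminal object. -/
noncomputable def m₁ : A ⟶ Over.mk (pullback.fst g f) := Over.homMk (t g f A B i) (t_fst g f A B i)

/-- Second component of the morphism to the terminal object. -/
noncomputable def m₂ : B ⟶ Over.mk (pullback.snd g f) :=
  Over.homMk (i.inv.left ≫ t g f A B i) (by
    change (i.inv.left ≫ t g f A B i) ≫ pullback.snd g f = B.hom
    rw [Category.assoc, t_snd, ← Category.assoc, lh, Category.id_comp])

theorem w : (Over.map g).map (m₁ g f A B i) ≫ (ι₀ g f).hom =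
    i.hom ≫ (Over.map f).map (m₂ g f A B i) := by
  apply Over.OverMorphism.ext
  change t g f A B i ≫ 𝟙 _ = i.hom.left ≫ (i.inv.left ≫ t g f A B i)
  rw [Category.comp_id, ← Category.assoc, hl, Category.id_comp]

theorem uniq (n₁ : A ⟶ Over.mk (pullback.fst g f)) (n₂ : B ⟶ Over.mk (pullback.snd g f))
    (hw : (Over.map g).map n₁ ≫ (ι₀ g f).hom = i.hom ≫ (Over.map f).map n₂) :
    n₁ = m₁ g f A B i ∧ n₂ = m₂ g f A B i := by
  have w'l : n₁.left ≫ 𝟙 _ = i.hom.left ≫ n₂.left := congrArg (fun k => k.left) hw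
  rw [Category.comp_id] at w'l
  have e1 : n₁.left = t g f A B i := by
    apply pullback.hom_ext
    · have h1 : n₁.left ≫ pullback.fst g f = A.hom := Over.w n₁
      rw [h1, t_fst]
    · have h2 : n₂.left ≫ pullback.snd g f = B.hom := Over.w n₂
      rw [t_snd, w'l, Category.assoc, h2]
  have e2 : n₂.left = i.inv.left ≫ t g f A B i := by
    rw [← e1, w'l, ← Category.assoc, lh, Category.id_comp]
  exact ⟨Over.OverMorphism.ext e1, Over.OverMorphism.ext e2⟩

end PlainOver

theorem isTerm_ξ₀ : IsTerm (ξ₀ g f) := by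
  intro ρ
  let m : ρ ⟶ ξ₀ g f := ObjectProperty.homMk
    ⟨m₁ g f ρ.obj.fst ρ.obj.snd ρ.obj.iso, m₂ g f ρ.obj.fst ρ.obj.snd ρ.obj.iso,
      w g f ρ.obj.fst ρ.obj.snd ρ.obj.iso⟩
  refine ⟨⟨⟨m⟩, fun m' => ?_⟩⟩
  obtain ⟨e1, e2⟩ := uniq g f ρ.obj.fst ρ.obj.snd ρ.obj.iso m'.hom.fst m'.hom.snd m'.hom.w
  apply ObjectProperty.hom_ext
  apply CategoricalPullback.hom_ext
  · exact e1
  · exact e2

theorem isRepresentable_FP : FibCat.IsRepresentable (FP g f) :=
  isRepresentable_of_isTerm (isTerm_ξ₀ g f)
    (Groth.Agent.Helper2.isFibGrpd_fp _ _ (isFibGrpd_overCat U) (isFibGrpd_overCat X)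
      (isFibGrpd_overCat Y))

omit [HasPullbacks C] in
theorem overMapBased_eq (f : X ⟶ Y) :
    overMapBased f = (⟨Over.map f, Over.mapForget_eq f⟩ : FibCat.overCat X ⥤ᵇ FibCat.overCat Y) :=
  rfl

/-- Composition with a morphism is a representable 1-morphism. -/
theorem isRepresentable1_overMapBased : FibCat.IsRepresentable1 (overMapBased f) := by
  intro U G
  obtain ⟨θ⟩ := nonempty_iso_overMapBased G
  exact (Groth.Agent.Helper2.FibCatLib.FpInv.isRepresentable_fp_congr' G _ (overMapBased f) θ).2
    (isRepresentable_FP (classify G) f)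

end Groth.Agent.Helper2.FibCatLib.OverRep
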