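import Mathlib
import Groth.Prelude.Def_FibCat2

/-!
# Pasting of 2-cartesian squares of plain categories (helper2)
-/

set_option autoImplicit false
open CategoryTheory CategoryTheory.Functor CategoryTheory.Limits

universe v₆ u₆ v₅ u₅ v₄ u₄ v₃ u₃ v₂ u₂ v₁ u₁

namespace Groth.Agent.Helper2.FibCatLib.PastePlain

variable {A : Type u₁} {B : Type u₂} {A' : Type u₃} {B' : Type u₄} {A'' : Type u₅} {B'' : Type u₆}
  [Category.{v₁} A] [Category.{v₂} B] [Category.{v₃} A'] [Category.{v₄} B'] [Category.{v₅} A'']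
  [Category.{v₆} B'']
  (t : A ⥤ B) (l : A ⥤ A') (r : B ⥤ B') (t' : A' ⥤ B') (l' : A' ⥤ A'') (r' : B' ⥤ B'')
  (t'' : A'' ⥤ B'')
  (e₁ : t ⋙ r ≅ l ⋙ t') (e₂ : t' ⋙ r' ≅ l' ⋙ t'')

/-- The comparison functor of a square to the 2-fibre product. -/
abbrev cmp {X : Type u₁} {P : Type u₂} {Q : Type u₃} {S : Type u₄} [Category.{v₁} X]
    [Category.{v₂} P] [Category.{v₃} Q] [Category.{v₄} S] (T : X ⥤ P) (L : X ⥤ Q) (F : P ⥤ S)
    (G : Q ⥤ S) (e : T ⋙ F ≅ L ⋙ G) : X ⥤ CategoricalPullback F G :=
  (CategoricalPullback.CatCommSqOver.toFunctorToCategoricalPullback F G X).obj ⟨T, L, e⟩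

/-- The functor `B ×_{B'} A' ⥤ B ×_{B''} A''` induced by the lower square. -/
def Φ : CategoricalPullback r t' ⥤ CategoricalPullback (r ⋙ r') t'' where
  obj x :=
    { fst := x.fst
      snd := l'.obj x.snd
      iso := r'.mapIso x.iso ≪≫ e₂.app x.snd }
  map {x y} f :=
    { fst := f.fst
      snd := l'.map f.snd
      w := by
        have h1 := f.w
        have h2 := e₂.hom.naturality f.snd
        simp only [Functor.comp_map] at h2
        simp only [Functor.comp_map, Iso.trans_hom, Functor.mapIso_hom, Iso.app_hom, Category.assoc]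
        rw [← h2, ← Category.assoc, ← Category.assoc, ← Functor.map_comp, h1, Functor.map_comp] }
  map_id x := by
    apply CategoricalPullback.hom_ext
    · rfl
    · exact l'.map_id _
  map_comp f g := by
    apply CategoricalPullback.hom_ext
    · rfl
    · exact l'.map_comp _ _

/-- The comparison functor of the outer rectangle factors through `Φ`. -/
def cmpIso :
    cmp t (l ⋙ l') (r ⋙ r') t''
        ((Functor.associator t r r').symm ≪≫ isoWhiskerRight e₁ r' ≪≫ Functor.associator l t' r' ≪≫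
          isoWhiskerLeft l e₂ ≪≫ (Functor.associator l l' t'').symm) ≅
      cmp t l r t' e₁ ⋙ Φ r t' l' r' t'' e₂ :=
  NatIso.ofComponents
    (fun a => CategoricalPullback.mkIso (Iso.refl (t.obj a)) (Iso.refl (l'.obj (l.obj a))) (by
      change (r ⋙ r').map (𝟙 (t.obj a)) ≫ (r'.map (e₁.hom.app a) ≫ e₂.hom.app (l.obj a)) =
        (𝟙 _ ≫ r'.map (e₁.hom.app a) ≫ 𝟙 _ ≫ e₂.hom.app (l.obj a) ≫ 𝟙 _) ≫
          t''.map (𝟙 (l'.obj (l.obj a)))
      simp))
    (by
      intro a a' f
      apply CategoricalPullback.hom_ext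
      · exact (Category.comp_id _).trans (Category.id_comp _).symm
      · exact (Category.comp_id _).trans (Category.id_comp _).symm)

section Equiv

variable (h₂ : (cmp t' l' r' t'' e₂).IsEquivalence)

include h₂

theorem Φ_faithful : (Φ r t' l' r' t'' e₂).Faithful where
  map_injective {x y} f g h := by
    have hf : f.fst = g.fst := congrArg (fun φ => φ.fst) h
    have hs : l'.map f.snd = l'.map g.snd := congrArg (fun φ => φ.snd) h
    have ht : t'.map f.snd = t'.map g.snd := by
      have h1 := f.w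
      have h2 := g.w
      rw [hf] at h1
      exact (cancel_epi x.iso.hom).1 (h1.symm.trans h2)
    have hc : (cmp t' l' r' t'' e₂).map f.snd = (cmp t' l' r' t'' e₂).map g.snd := by
      apply CategoricalPullback.hom_ext
      · exact ht
      · exact hs
    have := h₂.faithful
    apply CategoricalPullback.hom_ext
    · exact hf
    · exact (cmp t' l' r' t'' e₂).map_injective hc

theorem Φ_full : (Φ r t' l' r' t'' e₂).Full where
  map_surjective {x y} φ := by
    have := h₂.full
    let u : x.fst ⟶ y.fst := φ.fst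
    let w : l'.obj x.snd ⟶ l'.obj y.snd := φ.snd
    have hw : r'.map (r.map u) ≫ r'.map y.iso.hom ≫ e₂.hom.app y.snd =
        r'.map x.iso.hom ≫ e₂.hom.app x.snd ≫ t''.map w := by
      have := φ.w
      simpa [Φ] using this
    let σ : (cmp t' l' r' t'' e₂).obj x.snd ⟶ (cmp t' l' r' t'' e₂).obj y.snd :=
      { fst := x.iso.inv ≫ r.map u ≫ y.iso.hom
        snd := w
        w := by
          change r'.map (x.iso.inv ≫ r.map u ≫ y.iso.hom) ≫ e₂.hom.app y.snd =
            e₂.hom.app x.snd ≫ t''.map w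
          rw [CategoryTheory.Functor.map_comp, CategoryTheory.Functor.map_comp, Category.assoc,
            Category.assoc, hw, ← Category.assoc, ← CategoryTheory.Functor.map_comp,
            Iso.inv_hom_id, CategoryTheory.Functor.map_id, Category.id_comp] }
    obtain ⟨v, hv⟩ := (cmp t' l' r' t'' e₂).map_surjective σ
    have hv1 : t'.map v = x.iso.inv ≫ r.map u ≫ y.iso.hom := congrArg (fun ρ => ρ.fst) hv
    have hv2 : l'.map v = w := congrArg (fun ρ => ρ.snd) hv
    refine ⟨{ fst := u, snd := v, w := ?_ }, ?_⟩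
    · rw [hv1, ← Category.assoc, Iso.hom_inv_id, Category.id_comp]
    · apply CategoricalPullback.hom_ext
      · rfl
      · exact hv2

theorem Φ_essSurj : (Φ r t' l' r' t'' e₂).EssSurj where
  mem_essImage z := by
    have := h₂.essSurj
    let w : CategoricalPullback r' t'' := { fst := r.obj z.fst, snd := z.snd, iso := z.iso }
    let a' := (cmp t' l' r' t'' e₂).objPreimage w
    let ι : (cmp t' l' r' t'' e₂).obj a' ≅ w := (cmp t' l' r' t'' e₂).objObjPreimageIso w
    let α : t'.obj a' ≅ r.obj z.fst := (CategoricalPullback.π₁ r' t'').mapIso ι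
    let β : l'.obj a' ≅ z.snd := (CategoricalPullback.π₂ r' t'').mapIso ι
    have hι : r'.map α.hom ≫ z.iso.hom = e₂.hom.app a' ≫ t''.map β.hom := ι.hom.w
    let x : CategoricalPullback r t' := { fst := z.fst, snd := a', iso := α.symm }
    refine ⟨x, ⟨CategoricalPullback.mkIso (Iso.refl _) β ?_⟩⟩
    change (r ⋙ r').map (𝟙 z.fst) ≫ z.iso.hom = (r'.map α.inv ≫ e₂.hom.app a') ≫ t''.map β.hom
    rw [CategoryTheory.Functor.map_id, Category.id_comp, Category.assoc, ← hι, ← Category.assoc,
      ← CategoryTheory.Functor.map_comp, Iso.inv_hom_id, CategoryTheory.Functor.map_id,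
      Category.id_comp]

theorem Φ_isEquivalence : (Φ r t' l' r' t'' e₂).IsEquivalence := by
  have := Φ_faithful r t' l' r' t'' e₂ h₂
  have := Φ_full r t' l' r' t'' e₂ h₂
  have := Φ_essSurj r t' l' r' t'' e₂ h₂
  exact { }

theorem cmp_isEquivalence_iff :
    (cmp t l r t' e₁).IsEquivalence ↔
      (cmp t (l ⋙ l') (r ⋙ r') t''
        ((Functor.associator t r r').symm ≪≫ isoWhiskerRight e₁ r' ≪≫ Functor.associator l t' r' ≪≫
          isoWhiskerLeft l e₂ ≪≫ (Functor.associator l l' t'').symm)).IsEquivalence := by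
  have hΦ := Φ_isEquivalence r t' l' r' t'' e₂ h₂
  constructor
  · intro h
    have : (cmp t l r t' e₁ ⋙ Φ r t' l' r' t'' e₂).IsEquivalence := inferInstance
    exact Functor.isEquivalence_of_iso (cmpIso t l r t' l' r' t'' e₁ e₂).symm
  · intro h
    have : (cmp t l r t' e₁ ⋙ Φ r t' l' r' t'' e₂).IsEquivalence :=
      Functor.isEquivalence_of_iso (cmpIso t l r t' l' r' t'' e₁ e₂)
    exact Functor.isEquivalence_of_comp_right (cmp t l r t' e₁) (Φ r t' l' r' t'' e₂)

end Equiv

end Groth.Agent.Helper2.FibCatLib.PastePlain
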