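import Mathlib
import Groth.Prelude.Def_FibCat2
import Groth.Agent.Lib.Helper2.FibCat.FpProd
import Groth.Agent.Lib.Helper2.FibCat.ReprInv
import Groth.Agent.S12784
import Groth.Agent.S12785
import Groth.Agent.S12786

/-!
# The product of two representable 1-morphisms (helper2)
-/

set_option autoImplicit false
open CategoryTheory CategoryTheory.Functor CategoryTheory.Limits

universe t v u

namespace Groth.Agent.Helper2.FibCatLib.ProdRep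

variable {C : Type u} [Category.{v} C]
variable {𝒳 𝒴 𝒳' 𝒴' : BasedCategory.{v, max u v} C} {𝒵 : BasedCategory.{v, t} C}

theorem isRepresentable1_congr {f f' : 𝒳 ⥤ᵇ 𝒴} (e : f' ≅ f) :
    FibCat.IsRepresentable1 f ↔ FibCat.IsRepresentable1 f' := by
  have e' : BasedFunctor.comp f' (BasedFunctor.id 𝒴) ≅ BasedFunctor.comp (BasedFunctor.id 𝒳) f :=
    e
  exact Groth.Agent.S12784.result f f' (BasedFunctor.id 𝒳) (BasedFunctor.id 𝒴)
    ReprInv.isEquivOver_id ReprInv.isEquivOver_id e'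

theorem isRepresentable1_fpSnd {𝒲 : BasedCategory.{v, max u v} C} (f : 𝒳 ⥤ᵇ 𝒴) (g : 𝒲 ⥤ᵇ 𝒴) (hf : FibCat.IsRepresentable1 f) :
    FibCat.IsRepresentable1 (FibCat.fpSnd f g) :=
  (Groth.Agent.S12784.result (FibCat.fpFst g f) (FibCat.fpSnd f g) (FpSwap.fpSwap f g)
    (BasedFunctor.id _) (FpSwap.fpSwap_isEquivOver f g) ReprInv.isEquivOver_id (Iso.refl _)).1
    (Groth.Agent.S12786.result f g hf)

theorem isRepresentable1_F1 (f : 𝒳 ⥤ᵇ 𝒳') (p' : 𝒳' ⥤ᵇ 𝒵) (B : 𝒴 ⥤ᵇ 𝒵)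
    (hf : FibCat.IsRepresentable1 f) : FibCat.IsRepresentable1 (FpProd.F1 f p' B) :=
  (Groth.Agent.S12784.result (FpProd.F1 f p' B) (FibCat.fpSnd f (FibCat.fpFst p' B))
    (Paste.pasteB f p' B) (BasedFunctor.id _) (Paste.pasteB_isEquivOver f p' B)
    ReprInv.isEquivOver_id (FpProd.isoF1 f p' B).symm).2
    (isRepresentable1_fpSnd f (FibCat.fpFst p' B) hf)

theorem isRepresentable1_F2 (p' : 𝒳' ⥤ᵇ 𝒵) (g : 𝒴 ⥤ᵇ 𝒴') (q' : 𝒴' ⥤ᵇ 𝒵)
    (hg : FibCat.IsRepresentable1 g) : FibCat.IsRepresentable1 (FpProd.F2 p' g q') :=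
  (Groth.Agent.S12784.result (FpProd.F2 p' g q') (FibCat.fpFst (FibCat.fpSnd p' q') g)
    (Paste.pasteA p' q' g) (BasedFunctor.id _) (Paste.pasteA_isEquivOver p' q' g)
    ReprInv.isEquivOver_id (FpProd.isoF2 p' g q').symm).2
    (Groth.Agent.S12786.result g (FibCat.fpSnd p' q') hg)

theorem isRepresentable1_fpLift_prod
    (hfaith : ∀ {A B : 𝒵.obj} (m n : A ⟶ B) {R R' : C} (φ : R ⟶ R'),
      𝒵.p.IsHomLift φ m → 𝒵.p.IsHomLift φ n → m = n)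
    (f : 𝒳 ⥤ᵇ 𝒳') (g : 𝒴 ⥤ᵇ 𝒴') (p' : 𝒳' ⥤ᵇ 𝒵) (q' : 𝒴' ⥤ᵇ 𝒵)
    (a : 𝒳 ⥤ᵇ 𝒵) (b : 𝒴 ⥤ᵇ 𝒵) (ha : a = BasedFunctor.comp f p') (hb : b = BasedFunctor.comp g q')
    (e : BasedFunctor.comp (BasedFunctor.comp (FibCat.fpFst a b) f) p' ≅
      BasedFunctor.comp (BasedFunctor.comp (FibCat.fpSnd a b) g) q')
    (hf : FibCat.IsRepresentable1 f) (hg : FibCat.IsRepresentable1 g) :
    FibCat.IsRepresentable1 (FibCat.fpLift (BasedFunctor.comp (FibCat.fpFst a b) f)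
      (BasedFunctor.comp (FibCat.fpSnd a b) g) e) := by
  subst ha hb
  have he : ∀ x, e.hom.toNatTrans.app x = x.obj.iso.hom := by
    intro x
    refine hfaith _ _ (𝟙 ((FibCat.fp (BasedFunctor.comp f p') (BasedFunctor.comp g q')).p.obj x))
      ?_ ?_
    · exact BasedNatTrans.isHomLift e.hom rfl
    · exact x.property
  exact (isRepresentable1_congr (FpProd.isoF f g p' q' e he)).1
    (Groth.Agent.S12785.result _ _ (isRepresentable1_F1 f p' (BasedFunctor.comp g q') hf)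
      (isRepresentable1_F2 p' g q' hg))

theorem selfOver_hom_eq {A B : (FibCat.selfOver C).obj} (m n : A ⟶ B)
    {R R' : C} (φ : R ⟶ R') (hm : (FibCat.selfOver C).p.IsHomLift φ m)
    (hn : (FibCat.selfOver C).p.IsHomLift φ n) : m = n := by
  have h1 := IsHomLift.fac' (FibCat.selfOver C).p φ m
  have h2 := IsHomLift.fac' (FibCat.selfOver C).p φ n
  exact h1.trans h2.symm

theorem comp_toSelf (f : 𝒳 ⥤ᵇ 𝒴) : BasedFunctor.comp f (FibCat.toSelf 𝒴) = FibCat.toSelf 𝒳 := by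
  have h : (BasedFunctor.comp f (FibCat.toSelf 𝒴)).toFunctor = (FibCat.toSelf 𝒳).toFunctor := f.w
  cases hf : BasedFunctor.comp f (FibCat.toSelf 𝒴) with
  | mk F wF =>
    cases hg : FibCat.toSelf 𝒳 with
    | mk G wG =>
      rw [hf, hg] at h
      change F = G at h
      subst h
      rfl

theorem isRepresentable1_prodMap {𝒳₁ 𝒳₂ 𝒴₁ 𝒴₂ : BasedCategory.{v, max u v} C}
    (f₁ : 𝒳₁ ⥤ᵇ 𝒴₁) (f₂ : 𝒳₂ ⥤ᵇ 𝒴₂)
    (hf₁ : FibCat.IsRepresentable1 f₁) (hf₂ : FibCat.IsRepresentable1 f₂)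
    (e : BasedFunctor.comp (BasedFunctor.comp (FibCat.fpFst (FibCat.toSelf 𝒳₁) (FibCat.toSelf 𝒳₂))
        f₁) (FibCat.toSelf 𝒴₁) ≅
      BasedFunctor.comp (BasedFunctor.comp (FibCat.fpSnd (FibCat.toSelf 𝒳₁) (FibCat.toSelf 𝒳₂))
        f₂) (FibCat.toSelf 𝒴₂)) :
    FibCat.IsRepresentable1 (FibCat.fpLift
      (BasedFunctor.comp (FibCat.fpFst (FibCat.toSelf 𝒳₁) (FibCat.toSelf 𝒳₂)) f₁)
      (BasedFunctor.comp (FibCat.fpSnd (FibCat.toSelf 𝒳₁) (FibCat.toSelf 𝒳₂)) f₂) e) :=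
  isRepresentable1_fpLift_prod (𝒵 := FibCat.selfOver C)
    (fun m n _ _ φ hm hn => selfOver_hom_eq m n φ hm hn) f₁ f₂
    (FibCat.toSelf 𝒴₁) (FibCat.toSelf 𝒴₂) (FibCat.toSelf 𝒳₁) (FibCat.toSelf 𝒳₂)
    (comp_toSelf f₁).symm (comp_toSelf f₂).symm e hf₁ hf₂

end Groth.Agent.Helper2.FibCatLib.ProdRep
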