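import Mathlib
import Groth.Prelude.Def_FibCat2
import Groth.Agent.Lib.Helper2.FibCat.EquivCrit
import Groth.Agent.Lib.Helper2.FibCat.Yoneda
import Groth.Agent.Lib.Helper2.FibCat.StrictGroth

/-!
# Every fibred category is equivalent to a split one (helper2)
-/

set_option autoImplicit false
open CategoryTheory CategoryTheory.Functor

universe v₂ u₂ v u

namespace Groth.Agent.Helper2.FibCatLib.Split

variable {C : Type u} [Category.{v} C] (𝒳 : BasedCategory.{v₂, u₂} C)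

/-- Objects of the split fibre over `U`: an object of `𝒳` with a map from `U` to its image. -/
structure SObj (U : C) where
  pt : 𝒳.obj
  str : U ⟶ 𝒳.p.obj pt

variable {𝒳} [𝒳.p.IsFibered]

namespace SObj

variable {U : C}

/-- The chosen pullback. -/
noncomputable def obj (A : SObj 𝒳 U) : 𝒳.obj := IsPreFibered.pullbackObj rfl A.str

/-- The chosen cartesian morphism. -/
noncomputable def π (A : SObj 𝒳 U) : A.obj ⟶ A.pt := IsPreFibered.pullbackMap rfl A.str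

instance π_isStronglyCartesian (A : SObj 𝒳 U) : 𝒳.p.IsStronglyCartesian A.str A.π := by
  unfold π obj
  infer_instance

theorem obj_proj (A : SObj 𝒳 U) : 𝒳.p.obj A.obj = U := IsPreFibered.pullbackObj_proj rfl A.str

noncomputable instance : Category (SObj 𝒳 U) where
  Hom A B := {φ : A.obj ⟶ B.obj // 𝒳.p.IsHomLift (𝟙 U) φ}
  id A := ⟨𝟙 A.obj, IsHomLift.id A.obj_proj⟩
  comp φ ψ := ⟨φ.1 ≫ ψ.1, by have := φ.2; have := ψ.2; infer_instance⟩

@[simp] theorem id_val (A : SObj 𝒳 U) : (𝟙 A : A ⟶ A).1 = 𝟙 A.obj := rfl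

@[simp] theorem comp_val {A B D : SObj 𝒳 U} (φ : A ⟶ B) (ψ : B ⟶ D) : (φ ≫ ψ).1 = φ.1 ≫ ψ.1 := rfl

@[ext] theorem hom_ext {A B : SObj 𝒳 U} {φ ψ : A ⟶ B} (h : φ.1 = ψ.1) : φ = ψ := Subtype.ext h

instance hom_isHomLift {A B : SObj 𝒳 U} (φ : A ⟶ B) : 𝒳.p.IsHomLift (𝟙 U) φ.1 := φ.2

theorem eqToHom_val {A B : SObj 𝒳 U} (e : A = B) :
    (eqToHom e : A ⟶ B).1 = eqToHom (congrArg SObj.obj e) := by
  subst e
  rfl

theorem eqToHom_π {A B : SObj 𝒳 U} (e : A = B) :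
    eqToHom (congrArg SObj.obj e) ≫ B.π = A.π ≫ eqToHom (congrArg SObj.pt e) := by
  subst e
  simp

/-- Pull back along a morphism of the base. -/
abbrev pull {V : C} (f : V ⟶ U) (A : SObj 𝒳 U) : SObj 𝒳 V := ⟨A.pt, f ≫ A.str⟩

theorem pull_id (A : SObj 𝒳 U) : pull (𝟙 U) A = A := by
  cases A
  simp [pull]

theorem pull_comp {W V : C} (g : W ⟶ V) (f : V ⟶ U) (A : SObj 𝒳 U) :
    pull (g ≫ f) A = pull g (pull f A) := by
  simp [pull]

instance pull_π_isStronglyCartesian {V : C} (f : V ⟶ U) (A : SObj 𝒳 U) :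
    𝒳.p.IsStronglyCartesian (f ≫ A.str) (pull f A).π :=
  π_isStronglyCartesian (pull f A)

/-- The transition morphism `(f^* A) ⟶ A` over `f`. -/
noncomputable def c {V : C} (f : V ⟶ U) (A : SObj 𝒳 U) : (pull f A).obj ⟶ A.obj :=
  IsStronglyCartesian.map 𝒳.p A.str A.π (rfl : f ≫ A.str = f ≫ A.str) (pull f A).π

instance c_isHomLift {V : C} (f : V ⟶ U) (A : SObj 𝒳 U) : 𝒳.p.IsHomLift f (c f A) := by
  unfold c
  infer_instance

@[reassoc (attr := simp)]
theorem c_π {V : C} (f : V ⟶ U) (A : SObj 𝒳 U) : c f A ≫ A.π = (pull f A).π :=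
  IsStronglyCartesian.fac 𝒳.p A.str A.π (rfl : f ≫ A.str = f ≫ A.str) (pull f A).π

instance c_isStronglyCartesian {V : C} (f : V ⟶ U) (A : SObj 𝒳 U) :
    𝒳.p.IsStronglyCartesian f (c f A) := by
  have h2 : 𝒳.p.IsStronglyCartesian A.str A.π := inferInstance
  have h3 : 𝒳.p.IsStronglyCartesian (f ≫ A.str) (c f A ≫ A.π) :=
    isStronglyCartesian_of_eq 𝒳.p rfl (c_π f A).symm
      (inferInstance : 𝒳.p.IsStronglyCartesian (f ≫ A.str) (pull f A).π)
  exact @IsStronglyCartesian.of_comp _ _ _ _ 𝒳.p _ _ _ _ _ _ f A.str _ _ h2 h3 inferInstance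

instance comp_hom_isHomLift {V : C} (f : V ⟶ U) {A B : SObj 𝒳 U} (α : A ⟶ B) :
    𝒳.p.IsHomLift f (c f A ≫ α.1) :=
  inferInstance

/-- The action of pulling back on morphisms. -/
noncomputable def pullMap {V : C} (f : V ⟶ U) {A B : SObj 𝒳 U} (α : A ⟶ B) :
    pull f A ⟶ pull f B :=
  ⟨IsStronglyCartesian.map 𝒳.p f (c f B) (Category.id_comp f).symm (c f A ≫ α.1), inferInstance⟩

@[reassoc (attr := simp)]
theorem pullMap_c {V : C} (f : V ⟶ U) {A B : SObj 𝒳 U} (α : A ⟶ B) :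
    (pullMap f α).1 ≫ c f B = c f A ≫ α.1 :=
  IsStronglyCartesian.fac 𝒳.p f (c f B) (Category.id_comp f).symm (c f A ≫ α.1)

theorem pullMap_uniq {V : C} (f : V ⟶ U) {A B : SObj 𝒳 U} (α : A ⟶ B)
    (β : (pull f A).obj ⟶ (pull f B).obj) (hβ : 𝒳.p.IsHomLift (𝟙 V) β)
    (h : β ≫ c f B = c f A ≫ α.1) : β = (pullMap f α).1 :=
  IsStronglyCartesian.map_uniq 𝒳.p f (c f B) (Category.id_comp f).symm (c f A ≫ α.1) β h

/-- Pulling back as a functor. -/
noncomputable def pullF {V : C} (f : V ⟶ U) : SObj 𝒳 U ⥤ SObj 𝒳 V where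
  obj A := pull f A
  map α := pullMap f α
  map_id A := by
    apply SObj.hom_ext
    symm
    apply pullMap_uniq f (𝟙 A) _ (IsHomLift.id (pull f A).obj_proj)
    simp
  map_comp {A B D} α β := by
    apply SObj.hom_ext
    symm
    apply pullMap_uniq f (α ≫ β) _ inferInstance
    simp

theorem hom_ext_c {V : C} (f : V ⟶ U) {A : SObj 𝒳 V} {B : SObj 𝒳 U} (α β : A ⟶ pull f B)
    (h : α.1 ≫ c f B = β.1 ≫ c f B) : α = β := by
  apply SObj.hom_ext
  exact IsStronglyCartesian.ext 𝒳.p f (c f B) (𝟙 V) h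

theorem c_id (A : SObj 𝒳 U) : c (𝟙 U) A = eqToHom (congrArg SObj.obj (pull_id A)) := by
  have h1 : 𝒳.p.IsHomLift (𝟙 U) (eqToHom (congrArg SObj.obj (pull_id A))) :=
    IsHomLift.eqToHom_domain_lift_id _ (pull (𝟙 U) A).obj_proj
  apply IsStronglyCartesian.ext 𝒳.p A.str A.π (𝟙 U)
  rw [c_π, eqToHom_π (pull_id A)]
  simp

theorem c_comp {W V : C} (g : W ⟶ V) (f : V ⟶ U) (A : SObj 𝒳 U) :
    c (g ≫ f) A = eqToHom (congrArg SObj.obj (pull_comp g f A)) ≫ c g (pull f A) ≫ c f A := by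
  have h1 : 𝒳.p.IsHomLift (𝟙 W) (eqToHom (congrArg SObj.obj (pull_comp g f A))) :=
    IsHomLift.eqToHom_domain_lift_id _ (pull (g ≫ f) A).obj_proj
  have h2 : 𝒳.p.IsHomLift (g ≫ f)
      (eqToHom (congrArg SObj.obj (pull_comp g f A)) ≫ c g (pull f A) ≫ c f A) :=
    isHomLift_congr' 𝒳.p (Category.id_comp _) _ inferInstance
  apply IsStronglyCartesian.ext 𝒳.p A.str A.π (g ≫ f)
  rw [c_π, Category.assoc, Category.assoc, c_π, c_π, eqToHom_π (pull_comp g f A)]
  simp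

theorem pullMap_id_val {A B : SObj 𝒳 U} (α : A ⟶ B) :
    (pullMap (𝟙 U) α).1 = eqToHom (congrArg SObj.obj (pull_id A)) ≫ α.1 ≫
      eqToHom (congrArg SObj.obj (pull_id B).symm) := by
  have h1 : 𝒳.p.IsHomLift (𝟙 U) (eqToHom (congrArg SObj.obj (pull_id A))) :=
    IsHomLift.eqToHom_domain_lift_id _ (pull (𝟙 U) A).obj_proj
  have h2 : 𝒳.p.IsHomLift (𝟙 U) (eqToHom (congrArg SObj.obj (pull_id B).symm)) :=
    IsHomLift.eqToHom_domain_lift_id _ B.obj_proj
  symm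
  apply pullMap_uniq (𝟙 U) α _ inferInstance
  rw [c_id, c_id]
  simp

theorem pullMap_comp_val {W V : C} (g : W ⟶ V) (f : V ⟶ U) {A B : SObj 𝒳 U} (α : A ⟶ B) :
    (pullMap (g ≫ f) α).1 = eqToHom (congrArg SObj.obj (pull_comp g f A)) ≫
      (pullMap g (pullMap f α)).1 ≫ eqToHom (congrArg SObj.obj (pull_comp g f B).symm) := by
  have h1 : 𝒳.p.IsHomLift (𝟙 W) (eqToHom (congrArg SObj.obj (pull_comp g f A))) :=
    IsHomLift.eqToHom_domain_lift_id _ (pull (g ≫ f) A).obj_proj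
  have h2 : 𝒳.p.IsHomLift (𝟙 W) (eqToHom (congrArg SObj.obj (pull_comp g f B).symm)) :=
    IsHomLift.eqToHom_domain_lift_id _ (pull g (pull f B)).obj_proj
  symm
  apply pullMap_uniq (g ≫ f) α _ inferInstance
  rw [c_comp, c_comp]
  simp only [Category.assoc, eqToHom_trans_assoc, eqToHom_refl, Category.id_comp]
  rw [pullMap_c_assoc, pullMap_c]

theorem pullF_id : pullF (𝒳 := 𝒳) (𝟙 U) = 𝟭 _ := by
  refine CategoryTheory.Functor.ext (fun A => pull_id A) (fun A B α => ?_)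
  apply SObj.hom_ext
  rw [comp_val, comp_val, eqToHom_val, eqToHom_val]
  exact pullMap_id_val α

theorem pullF_comp {W V : C} (g : W ⟶ V) (f : V ⟶ U) :
    pullF (𝒳 := 𝒳) (g ≫ f) = pullF f ⋙ pullF g := by
  refine CategoryTheory.Functor.ext (fun A => pull_comp g f A) (fun A B α => ?_)
  apply SObj.hom_ext
  rw [comp_val, comp_val, eqToHom_val, eqToHom_val]
  exact pullMap_comp_val g f α

end SObj

section Total

variable (𝒳)

/-- The strict functor of split fibres. -/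
noncomputable def splitFunctor : Cᵒᵖ ⥤ Cat.{v₂, max u₂ v} where
  obj U := Cat.of (SObj 𝒳 U.unop)
  map f := (SObj.pullF f.unop).toCatHom
  map_id U := by
    apply Cat.ext
    exact SObj.pullF_id
  map_comp f g := by
    apply Cat.ext
    exact SObj.pullF_comp g.unop f.unop

/-- The split fibred category. -/
abbrev Tot := Pseudofunctor.CoGrothendieck (splitFunctor 𝒳).toPseudofunctor'

variable {𝒳}

/-- The fibre component, with its type unfolded. -/
def fib (X : Tot 𝒳) : SObj 𝒳 X.base := X.fiber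

/-- The fibre component of a morphism, with its type unfolded. -/
def fibHom {X Y : Tot 𝒳} (f : X ⟶ Y) : fib X ⟶ SObj.pull f.base (fib Y) := f.fiber

theorem id_fibHom (X : Tot 𝒳) :
    (fibHom (𝟙 X)).1 = eqToHom (congrArg SObj.obj (SObj.pull_id (fib X)).symm) := by
  have h := StrictGroth.id_fiber (splitFunctor 𝒳) X
  have h2 : fibHom (𝟙 X) = eqToHom (SObj.pull_id (fib X)).symm := h
  rw [h2, SObj.eqToHom_val]

theorem comp_fibHom {X Y Z : Tot 𝒳} (f : X ⟶ Y) (g : Y ⟶ Z) :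
    (fibHom (f ≫ g)).1 = (fibHom f).1 ≫ (SObj.pullMap f.base (fibHom g)).1 ≫
      eqToHom (congrArg SObj.obj (SObj.pull_comp f.base g.base (fib Z)).symm) := by
  have h := StrictGroth.comp_fiber (splitFunctor 𝒳) f g
  have h2 : fibHom (f ≫ g) = fibHom f ≫ SObj.pullMap f.base (fibHom g) ≫
      eqToHom (SObj.pull_comp f.base g.base (fib Z)).symm := h
  rw [h2, SObj.comp_val, SObj.comp_val, SObj.eqToHom_val]

/-- The action on morphisms of the comparison functor. -/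
noncomputable def totMap {X Y : Tot 𝒳} (f : X ⟶ Y) : (fib X).obj ⟶ (fib Y).obj :=
  (fibHom f).1 ≫ SObj.c f.base (fib Y)

instance totMap_isHomLift {X Y : Tot 𝒳} (f : X ⟶ Y) : 𝒳.p.IsHomLift f.base (totMap f) := by
  unfold totMap
  exact isHomLift_congr' 𝒳.p (Category.id_comp _) _ inferInstance

theorem totMap_id (X : Tot 𝒳) : totMap (𝟙 X) = 𝟙 _ := by
  unfold totMap
  rw [id_fibHom]
  have : SObj.c (𝟙 X : X ⟶ X).base (fib X) = SObj.c (𝟙 X.base) (fib X) := rfl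
  rw [this, SObj.c_id]
  simp

theorem totMap_comp {X Y Z : Tot 𝒳} (f : X ⟶ Y) (g : Y ⟶ Z) :
    totMap (f ≫ g) = totMap f ≫ totMap g := by
  unfold totMap
  rw [comp_fibHom]
  have : SObj.c (f ≫ g).base (fib Z) = SObj.c (f.base ≫ g.base) (fib Z) := rfl
  rw [this, SObj.c_comp]
  simp only [Category.assoc, eqToHom_trans_assoc, eqToHom_refl, Category.id_comp]
  rw [SObj.pullMap_c_assoc]

/-- The comparison functor from the split fibred category to `𝒳`. -/
noncomputable def totFunctor : Tot 𝒳 ⥤ 𝒳.obj where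
  obj X := (fib X).obj
  map f := totMap f
  map_id X := totMap_id X
  map_comp f g := totMap_comp f g

/-- The comparison functor as a functor over `C`. -/
noncomputable def totBased :
    BasedCategory.ofFunctor (Pseudofunctor.CoGrothendieck.forget (splitFunctor 𝒳).toPseudofunctor')
      ⥤ᵇ 𝒳 where
  toFunctor := totFunctor
  w := CategoryTheory.Functor.ext (fun X => (fib X).obj_proj)
    (fun X Y f => IsHomLift.fac' 𝒳.p f.base (totMap f))

theorem totFunctor_faithful : (totFunctor (𝒳 := 𝒳)).Faithful where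
  map_injective {X Y} f g h := by
    have h' : totMap f = totMap g := h
    have hb : f.base = g.base := by
      have h1 := IsHomLift.fac 𝒳.p f.base (totMap f)
      have h2 := IsHomLift.fac 𝒳.p g.base (totMap g)
      rw [h1, h2]
      simp only [h']
    obtain ⟨fb, ff⟩ := f
    obtain ⟨gb, gf⟩ := g
    change fb = gb at hb
    subst hb
    have : ff = gf := by
      have e : (ff : fib X ⟶ SObj.pull fb (fib Y)) = gf := by
        exact SObj.hom_ext_c fb _ _ h'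
      exact e
    rw [this]

theorem totFunctor_full : (totFunctor (𝒳 := 𝒳)).Full where
  map_surjective {X Y} φ := by
    change (fib X).obj ⟶ (fib Y).obj at φ
    let h : X.base ⟶ Y.base :=
      eqToHom (fib X).obj_proj.symm ≫ 𝒳.p.map φ ≫ eqToHom (fib Y).obj_proj
    have hl : 𝒳.p.IsHomLift h φ :=
      isHomLift_of_eq 𝒳.p (fib X).obj_proj (fib Y).obj_proj (𝒳.p.map φ) h (by simp [h]) φ
        inferInstance
    let α : (fib X).obj ⟶ (SObj.pull h (fib Y)).obj :=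
      IsStronglyCartesian.map 𝒳.p h (SObj.c h (fib Y)) (Category.id_comp h).symm φ
    have hα : 𝒳.p.IsHomLift (𝟙 X.base) α := inferInstance
    have hfac : α ≫ SObj.c h (fib Y) = φ :=
      IsStronglyCartesian.fac 𝒳.p h (SObj.c h (fib Y)) (Category.id_comp h).symm φ
    let a : fib X ⟶ SObj.pull h (fib Y) := ⟨α, hα⟩
    exact ⟨⟨h, a⟩, hfac⟩

theorem totBased_exists_iso (x : 𝒳.obj) :
    ∃ (X : Tot 𝒳) (e : totFunctor.obj X ≅ x), 𝒳.p.IsHomLift (𝟙 (𝒳.p.obj x)) e.hom := by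
  let A : SObj 𝒳 (𝒳.p.obj x) := ⟨x, 𝟙 _⟩
  have h2 : 𝒳.p.IsStronglyCartesian (𝟙 (𝒳.p.obj x)) A.π := SObj.π_isStronglyCartesian A
  have h3 : IsIso A.π := IsStronglyCartesian.isIso_of_base_isIso 𝒳.p (𝟙 (𝒳.p.obj x)) A.π
  exact ⟨⟨𝒳.p.obj x, A⟩, @asIso _ _ _ _ A.π h3, h2.toIsHomLift⟩

variable (𝒳) in
theorem totBased_isEquivOver : FibCat.IsEquivOver (totBased (𝒳 := 𝒳)) := by
  have h1 : (totBased (𝒳 := 𝒳)).toFunctor.Full := totFunctor_full
  have h2 : (totBased (𝒳 := 𝒳)).toFunctor.Faithful := totFunctor_faithful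
  exact isEquivOver_of_fullyFaithful_of_exists_iso totBased (fun x => totBased_exists_iso x)

variable (𝒳) in
/-- Every fibred category is equivalent over the base to a split one. -/
theorem exists_split :
    ∃ (F : Cᵒᵖ ⥤ Cat.{v₂, max u₂ v})
      (E : 𝒳 ⥤ᵇ BasedCategory.ofFunctor (Pseudofunctor.CoGrothendieck.forget F.toPseudofunctor')),
      FibCat.IsEquivOver E := by
  obtain ⟨E, hE, -⟩ := isEquivOver_inverse (totBased_isEquivOver 𝒳)
  exact ⟨splitFunctor 𝒳, E, hE⟩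

theorem sobj_isGroupoid (h : FibCat.IsFibGrpd 𝒳.p) (U : C) : IsGroupoid (SObj 𝒳 U) where
  all_isIso {A B} α := by
    have h1 : 𝒳.p.IsStronglyCartesian (𝟙 U) α.1 :=
      isStronglyCartesian_of_isFibGrpd 𝒳.p h (𝟙 U) α.1 α.2
    have h2 : IsIso α.1 := IsStronglyCartesian.isIso_of_base_isIso 𝒳.p (𝟙 U) α.1
    have h3 : 𝒳.p.IsHomLift (𝟙 U) (inv α.1) := IsHomLift.lift_id_inv_isIso _ _ _
    exact ⟨⟨⟨inv α.1, h3⟩, SObj.hom_ext (IsIso.hom_inv_id α.1), SObj.hom_ext (IsIso.inv_hom_id α.1)⟩⟩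

variable (𝒳) in
theorem exists_split_groupoid (h : FibCat.IsFibGrpd 𝒳.p) :
    ∃ (F : Cᵒᵖ ⥤ Cat.{v₂, max u₂ v}) (_ : ∀ U : Cᵒᵖ, IsGroupoid (F.obj U))
      (E : 𝒳 ⥤ᵇ BasedCategory.ofFunctor (Pseudofunctor.CoGrothendieck.forget F.toPseudofunctor')),
      FibCat.IsEquivOver E := by
  obtain ⟨E, hE, -⟩ := isEquivOver_inverse (totBased_isEquivOver 𝒳)
  exact ⟨splitFunctor 𝒳, fun U => sobj_isGroupoid h U.unop, E, hE⟩

end Total

end Groth.Agent.Helper2.FibCatLib.Split
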